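import Groth.Prelude.Def_RedSub
import Groth.Agent.FpqcDescLib.Group
import Groth.Agent.SrcDescent.SchemeFppf
import Groth.Agent.S18510

/-!
# Point-wise calculus for fppf quotients
-/

open CategoryTheory Limits MonoidalCategory CartesianMonoidalCategory MonObj GrpObj AlgebraicGeometry

universe u

namespace Groth.Agent.RedSub30

variable {S : Scheme.{u}}

theorem covers_of_fppf {X Y : Over S} (q : X ⟶ Y) (h1 : Surjective q.left) (h2 : Flat q.left)
    (h3 : LocallyOfFinitePresentation q.left) : FpqcDescLib.Covers q.left :=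
  haveI := h1
  haveI := h2
  haveI := h3
  FpqcDescLib.covers_of_isCovering (FpqcDescLib.isCovering_of_lfp q.left)

/-- Every point of the target of a covering lifts after a covering. -/
theorem exists_local_lift {X Y : Over S} {q : X ⟶ Y} (hq : FpqcDescLib.Covers q.left) {T : Over S} (x : T ⟶ Y) :
    ∃ (T' : Over S) (π : T' ⟶ T) (l : T' ⟶ X), FpqcDescLib.Covers π.left ∧ l ≫ q = π ≫ x := by
  refine ⟨Over.mk (pullback.fst x.left q.left ≫ T.hom), Over.homMk (pullback.fst x.left q.left) rfl,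
    Over.homMk (pullback.snd x.left q.left) ?_, hq.pullback x.left _ _ (IsPullback.of_hasPullback _ _),
    Over.OverMorphism.ext pullback.condition.symm⟩
  show pullback.snd _ _ ≫ X.hom = pullback.fst _ _ ≫ T.hom
  rw [← Over.w q, ← pullback.condition_assoc, Over.w x]

/-- Two points can be lifted simultaneously after a covering. -/
theorem exists_local_lift₂ {X Y : Over S} {q : X ⟶ Y} (hq : FpqcDescLib.Covers q.left) {T : Over S}
    (x y : T ⟶ Y) :
    ∃ (T' : Over S) (π : T' ⟶ T) (a b : T' ⟶ X), Epi π ∧ a ≫ q = π ≫ x ∧ b ≫ q = π ≫ y := by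
  obtain ⟨T₁, π₁, a, h₁, ha⟩ := exists_local_lift hq x
  obtain ⟨T₂, π₂, b, h₂, hb⟩ := exists_local_lift hq (π₁ ≫ y)
  haveI := h₁.over_epi
  haveI := h₂.over_epi
  refine ⟨T₂, π₂ ≫ π₁, π₂ ≫ a, b, epi_comp _ _, ?_, by rw [hb, Category.assoc]⟩
  rw [Category.assoc, ha, Category.assoc]

/-- Factorisation through a monomorphism descends along coverings. -/
theorem exists_factor_of_covers {Z G : Over S} (i : Z ⟶ G) [Mono i] {T T' : Over S} {π : T' ⟶ T}
    (hπ : FpqcDescLib.Covers π.left) (x : T ⟶ G) (z : T' ⟶ Z) (hz : z ≫ i = π ≫ x) :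
    ∃ w : T ⟶ Z, w ≫ i = x := by
  obtain ⟨w, hw, -⟩ := hπ.over_desc z fun U a b e => by
    rw [← cancel_mono i, Category.assoc, Category.assoc, hz, reassoc_of% e]
  haveI := hπ.over_epi
  exact ⟨w, by rw [← cancel_epi π, reassoc_of% hw, hz]⟩

/-- A cartesian square recognised on points. -/
theorem isPullback_of_points {P A B C : Over S} (f₁ : P ⟶ A) (f₂ : P ⟶ B) (g₁ : A ⟶ C) (g₂ : B ⟶ C)
    (w : f₁ ≫ g₁ = f₂ ≫ g₂)
    (h : ∀ (T : Over S) (a : T ⟶ A) (b : T ⟶ B), a ≫ g₁ = b ≫ g₂ → ∃ z : T ⟶ P, z ≫ f₁ = a ∧ z ≫ f₂ = b)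
    (hu : ∀ (T : Over S) (z z' : T ⟶ P), z ≫ f₁ = z' ≫ f₁ → z ≫ f₂ = z' ≫ f₂ → z = z') :
    IsPullback f₁ f₂ g₁ g₂ := by
  refine IsPullback.of_isLimit' ⟨w⟩ (PullbackCone.IsLimit.mk _
    (fun s => (h s.pt s.fst s.snd s.condition).choose) (fun s => (h s.pt s.fst s.snd s.condition).choose_spec.1)
    (fun s => (h s.pt s.fst s.snd s.condition).choose_spec.2) fun s m h1 h2 => hu _ _ _ ?_ ?_)
  · rw [h1, (h s.pt s.fst s.snd s.condition).choose_spec.1]
  · rw [h2, (h s.pt s.fst s.snd s.condition).choose_spec.2]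

section Group

variable {H G Q : Over S} [GrpObj H] [GrpObj G]

theorem lift_act (i : H ⟶ G) {T : Over S} (a : T ⟶ G) (h : T ⟶ H) :
    lift a h ≫ (G ◁ i) ≫ μ[G] = a * (h ≫ i) := by
  rw [Hom.mul_def, lift_whiskerLeft_assoc]

/-- The square defining a quotient, recognised on points. -/
theorem isPullback_act (i : H ⟶ G) [Mono i] (q : G ⟶ Q)
    (h₁ : ∀ (T : Over S) (a : T ⟶ G) (h : T ⟶ H), (a * (h ≫ i)) ≫ q = a ≫ q)
    (h₂ : ∀ (T : Over S) (a b : T ⟶ G), a ≫ q = b ≫ q → ∃ h : T ⟶ H, b = a * (h ≫ i)) :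
    IsPullback (fst G H) ((G ◁ i) ≫ μ[G]) q q := by
  have key : ∀ {T : Over S} (z : T ⟶ G ⊗ H), z ≫ (G ◁ i) ≫ μ[G] = (z ≫ fst G H) * ((z ≫ snd G H) ≫ i) :=
    fun {T} z => by rw [← lift_act, ← comp_lift, lift_fst_snd, Category.comp_id]
  refine isPullback_of_points _ _ _ _ ?_ (fun T a b e => ?_) (fun T z z' e1 e2 => ?_)
  · have h := h₁ (G ⊗ H) (fst G H) (snd G H)
    rw [← lift_act, lift_fst_snd, Category.id_comp] at h
    exact h.symm
  · obtain ⟨h, rfl⟩ := h₂ T a b e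
    exact ⟨lift a h, lift_fst _ _, lift_act i a h⟩
  · refine CartesianMonoidalCategory.hom_ext _ _ e1 ?_
    rw [key, key, e1, mul_right_inj] at e2
    exact (cancel_mono i).mp e2

variable {i : H ⟶ G} {q : G ⟶ Q}

theorem covers_of_isQuotient (hq : RedSub.IsQuotient i q) : FpqcDescLib.Covers q.left :=
  covers_of_fppf q hq.1 hq.2.1 hq.2.2.1

theorem coset_iff (hq : RedSub.IsQuotient i q) {T : Over S} (a b : T ⟶ G) :
    a ≫ q = b ≫ q ↔ ∃ h : T ⟶ H, b = a * (h ≫ i) :=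
  FpqcDescLib.isCosetMap_of_isPullback hq.2.2.2 T a b

theorem mul_comp_quot (hq : RedSub.IsQuotient i q) {T : Over S} (a : T ⟶ G) (h : T ⟶ H) :
    (a * (h ≫ i)) ≫ q = a ≫ q :=
  ((coset_iff hq a _).mpr ⟨h, rfl⟩).symm

theorem epi_of_isQuotient (hq : RedSub.IsQuotient i q) : Epi q :=
  (covers_of_isQuotient hq).over_epi

end Group

/-- A factor of an fppf covering after an fppf covering is an fppf covering. -/
theorem fppf_of_comp {X Y Z : Over S} (p : X ⟶ Y) (q : Y ⟶ Z) (r : X ⟶ Z) (hr : p ≫ q = r)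
    (p1 : Surjective p.left) (p2 : Flat p.left) (p3 : LocallyOfFinitePresentation p.left)
    (r1 : Surjective r.left) (r2 : Flat r.left) (r3 : LocallyOfFinitePresentation r.left) :
    Surjective q.left ∧ Flat q.left ∧ LocallyOfFinitePresentation q.left := by
  subst hr
  rw [Over.comp_left] at r1 r2 r3
  haveI := p1
  haveI := p2
  haveI := p3
  haveI := r1
  haveI := r2
  haveI := r3
  exact ⟨Surjective.of_comp p.left q.left, S18510.flat_of_comp p.left q.left,
    SrcDescent.locallyOfFinitePresentation_of_fppf_comp p.left q.left⟩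

end Groth.Agent.RedSub30
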