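import Groth.Agent.GrpSchLib.AffineHopf
import Groth.Agent.GrpSchLib.MultTypeBC
import Groth.Agent.GrpSchLib.HomSplitLocal
import Groth.Agent.MultTypeLib.Mono
import Groth.Agent.MultTypeLib.Build
import Groth.Agent.EtFound.Descent

/-!
# A monomorphism from a group of multiplicative type into an affine group is a closed immersion
-/

universe u

open CategoryTheory CategoryTheory.Limits MonoidalCategory CartesianMonoidalCategory MonObj AlgebraicGeometry
open TensorProduct

noncomputable section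

namespace Groth.Agent.RedSub30.TorusClosed

open GrpSchLib.AffineHopf GrpSchLib.HomSplitLocal

variable {S : Scheme.{u}} {A G : Over S} [GrpObj A] [GrpObj G]

/-- Closed immersion after base change along `g`. -/
def Cl (i : A ⟶ G) {T : Scheme.{u}} (g : T ⟶ S) : Prop :=
  IsClosedImmersion ((Over.pullback g).map i).left

theorem cl_of_split (i : A ⟶ G) [IsMonHom i] [Mono i] [IsAffineHom G.hom] {R : Type u} [CommRing R]
    (g : Spec (CommRingCat.of R) ⟶ S) {M : Type} [AddCommGroup M]
    (e : Grp.mk (Red.bc g A) ≅ Grp.mk (Red.DS (Spec (CommRingCat.of R)) M)) : Cl i g := by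
  haveI : IsAffineHom (pullback.snd G.hom g) := MorphismProperty.pullback_snd _ _ inferInstance
  haveI : IsAffine (Red.bc g G).left := isAffine_of_isAffineHom (pullback.snd G.hom g)
  obtain ⟨C, _, _, ⟨eG⟩⟩ := exists_hopf (Red.bc g G)
  obtain ⟨d⟩ := nonempty_DS_iso R M
  let eA : Grp.mk (sp R (MonoidAlgebra R (Multiplicative M))) ≅ Grp.mk (Red.bc g A) := d ≪≫ e.symm
  haveI := eA.hom.hom.isMonHom_hom
  haveI := eG.inv.hom.isMonHom_hom
  haveI : IsIso eA.hom.hom.hom := ((Grp.forget _).mapIso eA).isIso_hom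
  haveI : IsIso eG.inv.hom.hom := ((Grp.forget _).mapIso eG).isIso_inv
  obtain ⟨φ, hφ⟩ := exists_bialgHom (eA.hom.hom.hom ≫ (Over.pullback g).map i ≫ eG.inv.hom.hom)
  haveI hmono : Mono (spMap (φ : C →ₐ[R] MonoidAlgebra R (Multiplicative M))) := by
    rw [← hφ]; infer_instance
  have hdiag : SGA3b.IsMultType R (MonoidAlgebra R (Multiplicative M)) :=
    MultTypeLib.isMultType_of_ff R ⟨ULift.{u} (Multiplicative M), inferInstance,
      ⟨(scalarBialgEquiv R R (Multiplicative M)).symm.trans (MonoidAlgebra.domCongrBialgEquiv R R MulEquiv.ulift.symm)⟩⟩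
  have hsurj : Function.Surjective φ := MultTypeLib.surjective_of_mono hdiag φ fun T _ _ x y h =>
    spMap_injective ((cancel_mono (spMap (φ : C →ₐ[R] MonoidAlgebra R (Multiplicative M)))).mp (by
      rw [spMap_comp, spMap_comp]
      exact congrArg spMap h))
  haveI : IsClosedImmersion (spMap (φ : C →ₐ[R] MonoidAlgebra R (Multiplicative M))).left :=
    IsClosedImmersion.spec_of_surjective (CommRingCat.ofHom (φ : C →ₐ[R] MonoidAlgebra R (Multiplicative M)).toRingHom) hsurj
  have h1 := congrArg (fun k => k.left) hφ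
  simp only [Over.comp_left] at h1
  haveI : IsIso eA.hom.hom.hom.left := inferInstanceAs (IsIso ((Over.forget _).map eA.hom.hom.hom))
  haveI : IsIso eG.inv.hom.hom.left := inferInstanceAs (IsIso ((Over.forget _).map eG.inv.hom.hom))
  show IsClosedImmersion ((Over.pullback g).map i).left
  have h2 : IsClosedImmersion (eA.hom.hom.hom.left ≫ ((Over.pullback g).map i).left ≫ eG.inv.hom.hom.left) := by
    erw [h1]; assumption
  exact (MorphismProperty.cancel_right_of_respectsIso @IsClosedImmersion _ eG.inv.hom.hom.left).mp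
    ((MorphismProperty.cancel_left_of_respectsIso @IsClosedImmersion eA.hom.hom.hom.left _).mp h2)

omit [GrpObj A] [GrpObj G] in
theorem cl_of_cover (i : A ⟶ G) {T : Scheme.{u}} (g : T ⟶ S) (𝒰 : T.OpenCover)
    (h : ∀ k, Cl i (𝒰.f k ≫ g)) : Cl i g := by
  refine IsZariskiLocalAtTarget.of_openCover (P := @IsClosedImmersion) (𝒰.pullback₁ (pullback.snd G.hom g)) fun k => ?_
  let e := (isPullback_baseMap G (𝒰.f k) g).isoPullback
  have sq : IsPullback (baseMap A (𝒰.f k) g) (((Over.pullback (𝒰.f k ≫ g)).map i).left ≫ e.hom)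
      ((Over.pullback g).map i).left (pullback.fst (pullback.snd G.hom g) (𝒰.f k)) := by
    refine (isPullback_comp i (𝒰.f k) g).of_iso (Iso.refl _) (Iso.refl _) e (Iso.refl _) ?_ ?_ ?_ ?_
    · simp
    · simp
    · simp
    · simp [e]
  have h1 : IsClosedImmersion (((Over.pullback (𝒰.f k ≫ g)).map i).left ≫ e.hom) :=
    (MorphismProperty.cancel_right_of_respectsIso @IsClosedImmersion _ e.hom).mpr (h k)
  rw [← sq.isoPullback_hom_snd] at h1
  exact (MorphismProperty.cancel_left_of_respectsIso @IsClosedImmersion _ _).mp h1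

omit [GrpObj A] [GrpObj G] in
theorem cl_of_fpqc (i : A ⟶ G) {T T' : Scheme.{u}} {g : T ⟶ S} (l : T' ⟶ T) [Flat l] [Surjective l] [QuasiCompact l]
    (h : Cl i (l ≫ g)) : Cl i g := by
  have hbf : Flat (baseMap G l g) :=
    MorphismProperty.of_isPullback (P := @Flat) (isPullback_baseMap G l g).flip inferInstance
  have hbs : Surjective (baseMap G l g) :=
    MorphismProperty.of_isPullback (P := @Surjective) (isPullback_baseMap G l g).flip inferInstance
  have hbq : QuasiCompact (baseMap G l g) :=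
    MorphismProperty.of_isPullback (P := @QuasiCompact) (isPullback_baseMap G l g).flip inferInstance
  haveI := EtFound.fpqc_isClosedImmersion.{u}
  exact MorphismProperty.of_isPullback_of_descendsAlong (P := @IsClosedImmersion)
    (Q := (@Surjective ⊓ @Flat ⊓ @QuasiCompact : MorphismProperty Scheme.{u})) (isPullback_comp i l g).flip
    ⟨⟨hbs, hbf⟩, hbq⟩ h

theorem isClosedImmersion_of_mono (i : A ⟶ G) [IsMonHom i] [Mono i] [IsAffineHom G.hom]
    (hA : SGA3x.IsMultTypeFT A) : IsClosedImmersion i.left := by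
  obtain ⟨S', f, hflat, hsurj, hqc, hloc⟩ := hA
  haveI := hflat
  choose U hU M hM _ hiso using hloc
  have key : Cl i (𝟙 S) := by
    refine cl_of_cover i _ S.affineCover fun c => ?_
    let V : S.Opens := (S.affineCover.f c).opensRange
    obtain ⟨W, hW, hWV⟩ := hqc V (isAffineOpen_opensRange (S.affineCover.f c))
    have hrange : Set.range (W.ι ≫ f) ⊆ Set.range (S.affineCover.f c) := by
      rintro _ ⟨w, rfl⟩
      have : f (W.ι w) ∈ f.base '' (W : Set S') := ⟨W.ι w, by
        have hw : W.ι w ∈ Set.range W.ι := ⟨w, rfl⟩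
        rwa [Scheme.Opens.range_ι] at hw, rfl⟩
      rw [hWV] at this
      rw [Scheme.Hom.comp_apply]
      exact this
    let l : (W : Scheme.{u}) ⟶ S.affineCover.X c := IsOpenImmersion.lift (S.affineCover.f c) (W.ι ≫ f) hrange
    have hl : l ≫ S.affineCover.f c = W.ι ≫ f := IsOpenImmersion.lift_fac _ _ _
    haveI : Flat l := by
      haveI : Flat (l ≫ S.affineCover.f c) := by rw [hl]; infer_instance
      exact MorphismProperty.of_postcomp (W' := @IsOpenImmersion) (@Flat) l (S.affineCover.f c) inferInstance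
        inferInstance
    haveI : Surjective l := ⟨fun x => by
      have hx : S.affineCover.f c x ∈ f.base '' (W : Set S') := by
        rw [hWV]; exact ⟨x, rfl⟩
      obtain ⟨w, hw, hwx⟩ := hx
      refine ⟨⟨w, hw⟩, (S.affineCover.f c).isOpenEmbedding.injective ?_⟩
      rw [← Scheme.Hom.comp_apply, hl, Scheme.Hom.comp_apply]
      exact hwx⟩
    haveI : CompactSpace (W : Scheme.{u}) := isCompact_iff_compactSpace.mp hW
    haveI : QuasiCompact l := (quasiCompact_iff_compactSpace l).mpr inferInstance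
    refine cl_of_fpqc i l ?_
    rw [Category.comp_id, hl]
    let 𝒱 : ∀ w : (W : Scheme.{u}), (W : Scheme.{u}).Opens := fun w => (W.ι ⁻¹ᵁ U (W.ι w))
    have h𝒱 : TopologicalSpace.IsOpenCover 𝒱 :=
      TopologicalSpace.IsOpenCover.mk (top_le_iff.1 fun w _ =>
        TopologicalSpace.Opens.mem_iSup.2 ⟨w, hU (W.ι w)⟩)
    refine cl_of_cover i _ ((W : Scheme.{u}).openCoverOfIsOpenCover 𝒱 h𝒱) fun w => ?_
    refine cl_of_cover i _ (Scheme.affineCover _) fun p => ?_
    let X := ((W : Scheme.{u}).openCoverOfIsOpenCover 𝒱 h𝒱).X w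
    let x : X.affineCover.X p ⟶ (U (W.ι w) : Scheme.{u}) :=
      IsOpenImmersion.lift (U (W.ι w)).ι (X.affineCover.f p ≫ (𝒱 w).ι ≫ W.ι) (by
        rintro _ ⟨z, rfl⟩
        rw [Scheme.Opens.range_ι, Scheme.Hom.comp_apply, Scheme.Hom.comp_apply]
        have hz : (𝒱 w).ι (X.affineCover.f p z) ∈ Set.range (𝒱 w).ι := ⟨_, rfl⟩
        rw [Scheme.Opens.range_ι] at hz
        exact hz)
    have hx : X.affineCover.f p ≫ ((W : Scheme.{u}).openCoverOfIsOpenCover 𝒱 h𝒱).f w ≫ W.ι ≫ f =
        x ≫ (U (W.ι w)).ι ≫ f := by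
      rw [IsOpenImmersion.lift_fac_assoc]
      simp only [Category.assoc]
      rfl
    rw [hx]
    obtain ⟨e₀⟩ := hiso (W.ι w)
    obtain ⟨e₁⟩ := GrpSchLib.MultTypeBC.bc_bc x ((U (W.ι w)).ι ≫ f) A
    obtain ⟨e₂⟩ := GrpSchLib.MultTypeBC.bc_iso x e₀
    obtain ⟨e₃⟩ := GrpSchLib.MultTypeBC.bc_DS x (M (W.ι w))
    exact cl_of_split i (R := _) _ (e₁.symm ≪≫ e₂ ≪≫ e₃)
  have sq := isPullback_map i (𝟙 S)
  haveI : IsIso (pullback.fst A.hom (𝟙 S)) := inferInstance
  haveI : IsIso (pullback.fst G.hom (𝟙 S)) := inferInstance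
  have h : IsClosedImmersion (((Over.pullback (𝟙 S)).map i).left ≫ pullback.fst G.hom (𝟙 S)) :=
    (MorphismProperty.cancel_right_of_respectsIso @IsClosedImmersion _ _).mpr key
  rw [← sq.w] at h
  exact (MorphismProperty.cancel_left_of_respectsIso @IsClosedImmersion _ _).mp h

end Groth.Agent.RedSub30.TorusClosed
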