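import Groth.Agent.TorusPts.Scheme
import Groth.Agent.TransLib.MultEssFree
import Groth.Agent.GrpSchLib.RankOneNonComm
import Groth.Agent.GrpSchLib.RankOneBase
import Groth.Agent.GrpSchLib.MultTypeBC
import Groth.Agent.GrpSchLib.HopfFlat
import Groth.Agent.RedSub30.Quot
import Groth.Agent.GrpSchLib.SubHopf
import Groth.Prelude.Def_RedSub

/-!
# Tori over an algebraically closed field: splitting and absorption by a maximal torus
-/

universe u

open CategoryTheory CategoryTheory.Limits MonoidalCategory CartesianMonoidalCategory MonObj AlgebraicGeometry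
open TensorProduct WithConv

noncomputable section

namespace Groth.Agent.RedSub30

open GrpSchLib.AffineHopf

variable {K : Type u} [Field K]

/-- Split tori: the spectrum of a group algebra of a lattice. -/
abbrev splitTorus (K : Type u) [Field K] (n : ℕ) : Over (Spec (CommRingCat.of K)) :=
  sp K (MonoidAlgebra K (Multiplicative (Fin n → ℤ)))

theorem isTorus_splitTorus (n : ℕ) : Red.IsTorus (splitTorus K n) := by
  let S := Spec (CommRingCat.of K)
  refine ⟨S, 𝟙 S, inferInstance, inferInstance, fun V hV => ⟨V, hV.isCompact, by simp⟩, fun s => ⟨⊤, trivial, n, ?_⟩⟩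
  obtain ⟨e₀⟩ := nonempty_DS_iso K (Fin n → ℤ)
  obtain ⟨e₁⟩ := GrpSchLib.MultTypeBC.bc_iso ((⊤ : S.Opens).ι ≫ 𝟙 S) e₀
  obtain ⟨e₂⟩ := GrpSchLib.MultTypeBC.bc_DS ((⊤ : S.Opens).ι ≫ 𝟙 S) (Fin n → ℤ)
  exact ⟨e₁ ≪≫ e₂⟩

/-- Over an algebraically closed field every torus is split. -/
theorem exists_splitTorus_iso [IsAlgClosed K] (T : Over (Spec (CommRingCat.of K))) [GrpObj T] (hT : Red.IsTorus T) :
    ∃ n, Nonempty (Grp.mk (splitTorus K n) ≅ Grp.mk T) := by
  haveI : IsAffineHom T.hom := (TransLib.multTypeFT_essFree (GrpSchLib.RankOne.isMultTypeFT_of_isTorus hT)).1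
  haveI : IsAffine T.left := isAffine_of_isAffineHom T.hom
  obtain ⟨S', f, hfl, hs, hqc, hloc⟩ := hT
  obtain ⟨s', -⟩ := f.surjective (IsLocalRing.closedPoint K : Spec (CommRingCat.of K))
  obtain ⟨U, hU, n, ⟨eU⟩⟩ := hloc s'
  let L : Type u := S'.residueField s'
  obtain ⟨ρ, hρ⟩ : ∃ ρ, Spec.map ρ = S'.fromSpecResidueField s' ≫ f := ⟨_, Spec.map_preimage _⟩
  letI : Algebra K L := ρ.hom.toAlgebra
  let l : Spec (S'.residueField s') ⟶ U := IsOpenImmersion.lift U.ι (S'.fromSpecResidueField s') (by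
    rw [Scheme.range_fromSpecResidueField, Scheme.Opens.range_ι]
    exact Set.singleton_subset_iff.mpr hU)
  let φ := Spec.map (CommRingCat.ofHom (algebraMap K L))
  have hφ : φ = l ≫ U.ι ≫ f := by
    rw [IsOpenImmersion.lift_fac_assoc, ← hρ]
    rfl
  obtain ⟨e₁⟩ := GrpSchLib.MultTypeBC.bc_congr hφ T
  obtain ⟨e₂⟩ := GrpSchLib.MultTypeBC.bc_bc l (U.ι ≫ f) T
  obtain ⟨e₃⟩ := GrpSchLib.MultTypeBC.bc_iso l eU
  obtain ⟨e₄⟩ := GrpSchLib.MultTypeBC.bc_DS l (Fin n → ℤ)
  obtain ⟨d⟩ := nonempty_DS_iso L (Fin n → ℤ)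
  obtain ⟨A, _, _, ⟨t⟩⟩ := exists_hopf T
  obtain ⟨b⟩ := nonempty_bc_sp (R := K) L A
  let g : Grp.mk (sp L (L ⊗[K] A)) ≅ Grp.mk (sp L (MonoidAlgebra L (Multiplicative (Fin n → ℤ)))) :=
    b.symm ≪≫ ((Over.pullback φ).mapGrp.mapIso t) ≪≫ e₁ ≪≫ e₂.symm ≪≫ e₃ ≪≫ e₄ ≪≫ d.symm
  obtain ⟨e₀⟩ := TorusPts.exists_bialgEquiv g
  obtain ⟨L', _, _, _, _, ⟨e⟩⟩ := TorusPts.exists_galois_split L
    (e₀.trans (MonoidAlgebra.domCongrBialgEquiv L L MulEquiv.ulift.symm))
  let ψ : L' ≃ₐ[K] K := (AlgEquiv.ofBijective (Algebra.ofId K L')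
    IsAlgClosed.algebraMap_bijective_of_isIntegral).symm
  let P : MultTypeLib.Split K A := MultTypeLib.splitOfEquiv L' e
  letI : Algebra P.S K := ψ.toRingEquiv.toRingHom.toAlgebra
  haveI : IsScalarTower K P.S K := IsScalarTower.of_algebraMap_eq fun x => (ψ.commutes x).symm
  let E : K ⊗[K] A ≃ₐc[K] MonoidAlgebra K P.M := (P.homOver K).toBialgEquiv (P.extend_homOver_bijective K)
  let E' : A ≃ₐc[K] MonoidAlgebra K (Multiplicative (Fin n → ℤ)) :=
    ((Bialgebra.TensorProduct.lid K A).symm.trans E).trans (MonoidAlgebra.domCongrBialgEquiv K K MulEquiv.ulift)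
  exact ⟨n, ⟨spIso E' ≪≫ t⟩⟩

theorem covers_of_fpqc {X Y : Scheme.{u}} (p : X ⟶ Y) [Surjective p] [Flat p] [QuasiCompact p] :
    FpqcDescLib.Covers p :=
  FpqcDescLib.covers_of_isCovering (FpqcDescLib.isCovering_of_quasiCompact p)

theorem isMonHom_of_mono {S : Scheme.{u}} {A Z G : Over S} [GrpObj A] [GrpObj Z] [GrpObj G] (j : Z ⟶ G) [IsMonHom j]
    [Mono j] (f : A ⟶ Z) [IsMonHom (f ≫ j)] : IsMonHom f :=
  GrpSchLib.RankOne.isMonHom_of_comp _ fun Y a b => by
    refine (cancel_mono j).mp ((Category.assoc _ _ _).trans ((MonObj.mul_comp a b (f ≫ j)).trans ?_))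
    rw [MonObj.mul_comp, Category.assoc, Category.assoc]

section Image

variable {C : Type u} [CommRing C] [HopfAlgebra K C] {Λ : Type} [AddCommGroup Λ]

/-- The coefficients of an element in the image of a bialgebra map are in the image. -/
theorem single_mem_range (f : C →ₐc[K] MonoidAlgebra K (Multiplicative Λ)) {x : MonoidAlgebra K (Multiplicative Λ)}
    (hx : x ∈ (f : C →ₐ[K] MonoidAlgebra K (Multiplicative Λ)).range) {m : Multiplicative Λ} (hm : x.coeff m ≠ 0) :
    MonoidAlgebra.single m 1 ∈ (f : C →ₐ[K] MonoidAlgebra K (Multiplicative Λ)).range := by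
  classical
  let A := MonoidAlgebra K (Multiplicative Λ)
  let δ : A →ₗ[K] K := (Finsupp.lapply m).comp (MonoidAlgebra.coeffLinearEquiv K).toLinearMap
  let Φ : A ⊗[K] A →ₗ[K] A := (TensorProduct.lid K A).toLinearMap ∘ₗ δ.rTensor A
  have hΦ : ∀ y : A, Φ (Coalgebra.comul (R := K) y) = y.coeff m • MonoidAlgebra.single m 1 := by
    intro y
    induction y using MonoidAlgebra.induction_linear with
    | zero => simp
    | add a b ha hb =>
      rw [map_add, map_add, ha, hb, ← add_smul]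
      rfl
    | single n r =>
      have e1 : MonoidAlgebra.single n r = r • (MonoidAlgebra.single n (1 : K) : A) := by simp
      have h2 : δ (MonoidAlgebra.single n 1) = (MonoidAlgebra.single n (1 : K)).coeff m := rfl
      rw [e1, map_smul, map_smul, (MonoidAlgebra.isGroupLikeElem_single_one (R := K) (A := K) n).comul_eq_tmul_self]
      show r • (TensorProduct.lid K A (δ (MonoidAlgebra.single n 1) ⊗ₜ[K] MonoidAlgebra.single n 1)) = _
      rw [TensorProduct.lid_tmul, h2, smul_smul]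
      rcases eq_or_ne n m with rfl | h
      · simp
      · simp [h.symm]
  obtain ⟨c, rfl⟩ := hx
  have hr : ∀ z : C ⊗[K] C, Φ (TensorProduct.map (f : C →ₐ[K] A).toLinearMap (f : C →ₐ[K] A).toLinearMap z) ∈
      (f : C →ₐ[K] A).range := by
    intro z
    induction z using TensorProduct.induction_on with
    | zero => simp
    | tmul a b =>
      refine ⟨δ (f a) • b, ?_⟩
      simp [Φ]
    | add a b ha hb => simpa [map_add] using add_mem ha hb
  have h := hr (Coalgebra.comul (R := K) c)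
  have hc : TensorProduct.map (f : C →ₐ[K] A).toLinearMap (f : C →ₐ[K] A).toLinearMap (Coalgebra.comul (R := K) c) =
      Coalgebra.comul (R := K) (f c) := CoalgHomClass.map_comp_comul_apply f c
  rw [hc, hΦ] at h
  have := Subalgebra.smul_mem _ h (((f c).coeff m)⁻¹)
  rw [smul_smul] at this
  have h1 : ((f c).coeff m)⁻¹ * (f c).coeff m = 1 := inv_mul_cancel₀ hm
  rwa [h1, one_smul] at this

/-- The image of a bialgebra map into the group algebra of a lattice is the group algebra of a sublattice. -/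
theorem exists_image_torus [Module.Free ℤ Λ] [Module.Finite ℤ Λ]
    (f : C →ₐc[K] MonoidAlgebra K (Multiplicative Λ)) :
    ∃ (r : ℕ) (io : Multiplicative (Fin r → ℤ) →* Multiplicative Λ)
      (f' : C →ₐc[K] MonoidAlgebra K (Multiplicative (Fin r → ℤ))),
      Function.Injective io ∧ Function.Surjective f' ∧
      ((MonoidAlgebra.mapDomainBialgHom K io : MonoidAlgebra K (Multiplicative (Fin r → ℤ)) →ₐc[K] _) :
          MonoidAlgebra K (Multiplicative (Fin r → ℤ)) →ₐ[K] MonoidAlgebra K (Multiplicative Λ)).comp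
        (f' : C →ₐ[K] MonoidAlgebra K (Multiplicative (Fin r → ℤ))) =
        (f : C →ₐ[K] MonoidAlgebra K (Multiplicative Λ)) := by
  classical
  let A := MonoidAlgebra K (Multiplicative Λ)
  let g : C →ₐ[K] A := (f : C →ₐ[K] A)
  let N : AddSubgroup Λ :=
    { carrier := {v | MonoidAlgebra.single (Multiplicative.ofAdd v) 1 ∈ g.range}
      zero_mem' := by
        show MonoidAlgebra.single (1 : Multiplicative Λ) 1 ∈ g.range
        rw [← MonoidAlgebra.one_def]
        exact one_mem _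
      add_mem' := fun {a b} ha hb => by
        replace ha : MonoidAlgebra.single (Multiplicative.ofAdd a) 1 ∈ g.range := ha
        replace hb : MonoidAlgebra.single (Multiplicative.ofAdd b) 1 ∈ g.range := hb
        show MonoidAlgebra.single (Multiplicative.ofAdd a * Multiplicative.ofAdd b) 1 ∈ g.range
        have := mul_mem (S := Subalgebra K A) ha hb
        rwa [MonoidAlgebra.single_mul_single, _root_.one_mul] at this
      neg_mem' := fun {a} ha => by
        obtain ⟨c, hc⟩ := ha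
        refine ⟨HopfAlgebraStruct.antipode (R := K) c, ?_⟩
        show f (HopfAlgebraStruct.antipode (R := K) c) = _
        rw [← GrpSchLib.HopfGalois.antipode_bialgHom f c, show f c = _ from hc, MonoidAlgebra.antipode_single]
        simp }
  let bN := Module.finBasis ℤ N.toIntSubmodule
  let u : (Fin (Module.finrank ℤ N.toIntSubmodule) → ℤ) →+ Λ :=
    (N.toIntSubmodule.subtype.comp bN.equivFun.symm.toLinearMap).toAddMonoidHom
  have hu : Function.Injective u := Subtype.val_injective.comp bN.equivFun.symm.injective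
  have huN : ∀ v, u v ∈ N := fun v => (bN.equivFun.symm v).2
  have huN' : ∀ v ∈ N, ∃ w, u w = v := fun v hv => ⟨bN.equivFun ⟨v, hv⟩, by
    simp [u]⟩
  let io := u.toMultiplicative
  let I : MonoidAlgebra K (Multiplicative (Fin (Module.finrank ℤ N.toIntSubmodule) → ℤ)) →ₐc[K] A :=
    MonoidAlgebra.mapDomainBialgHom K io
  let Ia : MonoidAlgebra K (Multiplicative (Fin (Module.finrank ℤ N.toIntSubmodule) → ℤ)) →ₐ[K] A :=
    (I : MonoidAlgebra K (Multiplicative (Fin (Module.finrank ℤ N.toIntSubmodule) → ℤ)) →ₐ[K] A)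
  have hio : Function.Injective io := hu
  have hI : Function.Injective Ia := MonoidAlgebra.mapDomain_injective hio
  have hIsingle : ∀ v r, Ia (MonoidAlgebra.single v r) = MonoidAlgebra.single (io v) r := fun v r =>
    MonoidAlgebra.mapDomain_single
  have hle : ∀ c, g c ∈ Ia.range := fun c => by
    rw [← MonoidAlgebra.sum_coeff_single (g c), Finsupp.sum]
    refine sum_mem fun m hm => ?_
    obtain ⟨w, hw⟩ := huN' m.toAdd (single_mem_range f ⟨c, rfl⟩ (Finsupp.mem_support_iff.mp hm))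
    refine ⟨MonoidAlgebra.single (Multiplicative.ofAdd w) ((g c).coeff m), ?_⟩
    show Ia _ = _
    rw [hIsingle]
    congr 1
  let f₀ : C →ₐ[K] MonoidAlgebra K (Multiplicative (Fin (Module.finrank ℤ N.toIntSubmodule) → ℤ)) := (AlgEquiv.ofInjective Ia hI).symm.toAlgHom.comp (g.codRestrict Ia.range hle)
  have hf₀ : ∀ c, Ia (f₀ c) = g c := fun c =>
    congrArg Subtype.val (AlgEquiv.apply_symm_apply (AlgEquiv.ofInjective Ia hI) (g.codRestrict Ia.range hle c))
  let f' : C →ₐc[K] MonoidAlgebra K (Multiplicative (Fin (Module.finrank ℤ N.toIntSubmodule) → ℤ)) :=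
    BialgHom.ofAlgHom f₀ (AlgHom.ext fun c => by
      show Coalgebra.counit (R := K) (f₀ c) = Coalgebra.counit (R := K) c
      rw [← CoalgHomClass.counit_comp_apply I, show I (f₀ c) = f c from hf₀ c, CoalgHomClass.counit_comp_apply])
    (AlgHom.ext fun c => by
      refine GrpSchLib.SubHopf.map_val_injective Ia Ia hI hI ?_
      show Algebra.TensorProduct.map Ia Ia (Algebra.TensorProduct.map f₀ f₀ (Coalgebra.comul (R := K) c)) =
        Algebra.TensorProduct.map Ia Ia (Coalgebra.comul (R := K) (f₀ c))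
      rw [← AlgHom.comp_apply, ← Algebra.TensorProduct.map_comp,
        show Ia.comp f₀ = g from AlgHom.ext hf₀]
      refine (CoalgHomClass.map_comp_comul_apply f c).trans ?_
      refine Eq.trans ?_ (CoalgHomClass.map_comp_comul_apply I (f₀ c)).symm
      exact congrArg _ (hf₀ c).symm)
  refine ⟨_, io, f', hio, fun y => ?_, AlgHom.ext hf₀⟩
  induction y using MonoidAlgebra.induction_linear with
  | zero => exact ⟨0, map_zero _⟩
  | add a b ha hb =>
    obtain ⟨a', rfl⟩ := ha
    obtain ⟨b', rfl⟩ := hb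
    exact ⟨a' + b', map_add _ _ _⟩
  | single v r =>
    obtain ⟨c, hc⟩ := huN v.toAdd
    refine ⟨r • c, hI ?_⟩
    rw [show f' (r • c) = f₀ (r • c) from rfl, hf₀, map_smul, hIsingle, show g c = _ from hc]
    rw [MonoidAlgebra.smul_single, smul_eq_mul, _root_.mul_one]
    rfl

end Image

set_option maxHeartbeats 1000000 in
/-- In a subgroup of an affine group over an algebraically closed field, a torus maximal among the
subtori contains the image of every torus commuting with it. -/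
theorem exists_factor_of_maximal [IsAlgClosed K] {G Z A B : Over (Spec (CommRingCat.of K))} [GrpObj G] [GrpObj Z]
    [GrpObj A] [GrpObj B] [IsAffine G.left] [LocallyOfFiniteType G.hom] (j : Z ⟶ G) [IsMonHom j]
    [Mono j] (hA : Red.IsTorus A) (hB : Red.IsTorus B) (a : A ⟶ Z) [IsMonHom a] (b : B ⟶ Z) [IsMonHom b]
    (hmax : ∀ (T : Over (Spec (CommRingCat.of K))) [GrpObj T] (t : T ⟶ Z) [IsMonHom t] [Mono t] (f : B ⟶ T),
      Red.IsTorus T → f ≫ t = b → IsIso f)
    (hcomm : ∀ (X : Over (Spec (CommRingCat.of K))) (x : X ⟶ A) (y : X ⟶ B),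
      (x ≫ a) * (y ≫ b) = (y ≫ b) * (x ≫ a)) :
    ∃ l : A ⟶ B, l ≫ b = a := by
  obtain ⟨nA, ⟨eA⟩⟩ := exists_splitTorus_iso A hA
  obtain ⟨nB, ⟨eB⟩⟩ := exists_splitTorus_iso B hB
  obtain ⟨C, _, _, ⟨eG⟩⟩ := exists_hopf G
  haveI := eA.hom.hom.isMonHom_hom
  haveI := eB.hom.hom.isMonHom_hom
  haveI := eG.hom.hom.isMonHom_hom
  haveI := eG.inv.hom.isMonHom_hom
  let Λ := (Fin nA → ℤ) × (Fin nB → ℤ)
  let Q := sp K (MonoidAlgebra K (Multiplicative Λ))
  let md : ∀ {M N : Type} [CommGroup M] [CommGroup N] (φ : M →* N),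
      sp K (MonoidAlgebra K N) ⟶ sp K (MonoidAlgebra K M) := fun φ =>
    spMap ((MonoidAlgebra.mapDomainBialgHom K φ : MonoidAlgebra K _ →ₐc[K] MonoidAlgebra K _) :
      MonoidAlgebra K _ →ₐ[K] MonoidAlgebra K _)
  have md_comp : ∀ {M N P : Type} [CommGroup M] [CommGroup N] [CommGroup P] (φ : M →* N) (ψ : N →* P),
      md ψ ≫ md φ = md (ψ.comp φ) := by
    intros
    rw [spMap_comp]
    exact congrArg spMap (MonoidAlgebra.algHom_ext (fun m => by simp) (by ext))
  let prA : Q ⟶ splitTorus K nA := md (AddMonoidHom.inl (Fin nA → ℤ) (Fin nB → ℤ)).toMultiplicative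
  let prB : Q ⟶ splitTorus K nB := md (AddMonoidHom.inr (Fin nA → ℤ) (Fin nB → ℤ)).toMultiplicative
  let sA : splitTorus K nA ⟶ Q := md (AddMonoidHom.fst (Fin nA → ℤ) (Fin nB → ℤ)).toMultiplicative
  let sB : splitTorus K nB ⟶ Q := md (AddMonoidHom.snd (Fin nA → ℤ) (Fin nB → ℤ)).toMultiplicative
  have md_id : ∀ {M : Type} [CommGroup M], md (MonoidHom.id M) = 𝟙 _ := by
    intros
    rw [← spMap_id]
    exact congrArg spMap (MonoidAlgebra.algHom_ext (fun m => by simp) (by ext))
  have md_one : ∀ {M N : Type} [CommGroup M] [CommGroup N], md (1 : M →* N) = 1 := by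
    intro M N _ _
    refine Eq.trans (congrArg spMap (MonoidAlgebra.algHom_ext (fun m => ?_) (by ext))) (map_one Spec.mapMulEquiv)
    simp [MonoidAlgebra.one_def, AlgHom.convOne_def]
  have hAA : sA ≫ prA = 𝟙 _ := by rw [md_comp]; exact md_id
  have hBB : sB ≫ prB = 𝟙 _ := by rw [md_comp]; exact md_id
  have hAB : sA ≫ prB = 1 := by rw [md_comp]; exact md_one
  have hBA : sB ≫ prA = 1 := by rw [md_comp]; exact md_one
  let a₀ : splitTorus K nA ⟶ Z := eA.hom.hom.hom ≫ a
  let b₀ : splitTorus K nB ⟶ Z := eB.hom.hom.hom ≫ b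
  let φ : Q ⟶ Z := (prA ≫ a₀) * (prB ≫ b₀)
  have md_hom : ∀ {M N : Type} [CommGroup M] [CommGroup N] (g : M →* N), IsMonHom (md g) := fun g => inferInstance
  haveI : IsMonHom prA := md_hom _
  haveI : IsMonHom prB := md_hom _
  haveI : IsMonHom a₀ := inferInstanceAs (IsMonHom (eA.hom.hom.hom ≫ a))
  haveI : IsMonHom b₀ := inferInstanceAs (IsMonHom (eB.hom.hom.hom ≫ b))
  haveI : IsMonHom φ := GrpSchLib.RankOne.isMonHom_of_comp φ fun Y x y => by
    simp only [φ, MonObj.comp_mul, MonObj.mul_comp]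
    have h := hcomm Y (y ≫ prA ≫ eA.hom.hom.hom) (x ≫ prB ≫ eB.hom.hom.hom)
    simp only [a₀, b₀, Category.assoc] at h ⊢
    simp only [_root_.mul_assoc]
    congr 1
    rw [← _root_.mul_assoc, h, _root_.mul_assoc]
  obtain ⟨f, hf⟩ := exists_bialgHom (φ ≫ j ≫ eG.inv.hom.hom)
  obtain ⟨r, io, f', hio, hf', hff'⟩ := exists_image_torus f
  let p : Q ⟶ splitTorus K r := md io
  let jT : splitTorus K r ⟶ G := spMap (f' : C →ₐ[K] MonoidAlgebra K (Multiplicative (Fin r → ℤ))) ≫ eG.hom.hom.hom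
  have hp : p ≫ jT = φ ≫ j := by
    show spMap _ ≫ spMap _ ≫ eG.hom.hom.hom = _
    rw [← Category.assoc, spMap_comp, hff', ← hf, Category.assoc, Category.assoc]
    rw [show eG.inv.hom.hom ≫ eG.hom.hom.hom = 𝟙 _ from congrArg (fun w => w.hom.hom) eG.inv_hom_id, Category.comp_id]
  haveI : Mono jT := by
    haveI : IsClosedImmersion ((Over.forget _).map (spMap (f' : C →ₐ[K] MonoidAlgebra K (Multiplicative (Fin r → ℤ))))) :=
      IsClosedImmersion.spec_of_surjective (CommRingCat.ofHom (f' : C →ₐ[K] MonoidAlgebra K (Multiplicative (Fin r → ℤ))).toRingHom) hf'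
    haveI : Mono (spMap (f' : C →ₐ[K] MonoidAlgebra K (Multiplicative (Fin r → ℤ)))) :=
      (Over.forget _).mono_of_mono_map (inferInstance : Mono ((Over.forget _).map (spMap (f' : C →ₐ[K] MonoidAlgebra K (Multiplicative (Fin r → ℤ))))))
    haveI : IsIso eG.hom.hom.hom := ((Grp.forget _).mapIso eG).isIso_hom
    infer_instance
  haveI : IsMonHom jT := inferInstanceAs (IsMonHom (spMap (f' : C →ₐ[K] MonoidAlgebra K (Multiplicative (Fin r → ℤ))) ≫ eG.hom.hom.hom))
  have hcov : FpqcDescLib.Covers p.left := by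
    haveI : AddGroup.FG Λ := Module.Finite.iff_addGroup_fg.mp inferInstance
    haveI : AddGroup.FG (Fin r → ℤ) := Module.Finite.iff_addGroup_fg.mp inferInstance
    have h := GrpSchLib.HopfFlat.faithfullyFlat (MonoidAlgebra.mapDomainBialgHom K io)
      (MonoidAlgebra.mapDomain_injective hio)
    obtain ⟨h1, h2⟩ := (RingHom.FaithfullyFlat.iff_flat_and_comap_surjective).mp h
    haveI : Flat p.left := (Flat.SpecMap_iff).mpr h1
    haveI : Surjective p.left := ⟨h2⟩
    haveI : QuasiCompact p.left := inferInstanceAs (QuasiCompact (Spec.map _))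
    exact covers_of_fpqc p.left
  obtain ⟨t, ht⟩ := exists_factor_of_covers j hcov jT φ hp.symm
  haveI : IsMonHom (t ≫ j) := by rw [ht]; infer_instance
  haveI : IsMonHom t := isMonHom_of_mono j t
  haveI : Mono (t ≫ j) := by rw [ht]; infer_instance
  haveI : Mono t := mono_of_mono t j
  have hpt : p ≫ t = φ := by rw [← cancel_mono j, Category.assoc, ht, hp]
  have hsB : sB ≫ φ = b₀ := by
    rw [MonObj.comp_mul, reassoc_of% hBB, ← Category.assoc, hBA, MonObj.one_comp, _root_.one_mul]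
  have hsA : sA ≫ φ = a₀ := by
    rw [MonObj.comp_mul, reassoc_of% hAA, ← Category.assoc sA prB, hAB, MonObj.one_comp, _root_.mul_one]
  have hinvB : eB.inv.hom.hom ≫ eB.hom.hom.hom = 𝟙 _ := congrArg (fun w => w.hom.hom) eB.inv_hom_id
  have hinvA : eA.inv.hom.hom ≫ eA.hom.hom.hom = 𝟙 _ := congrArg (fun w => w.hom.hom) eA.inv_hom_id
  let h : B ⟶ splitTorus K r := eB.inv.hom.hom ≫ sB ≫ p
  have hh : h ≫ t = b := by
    simp only [h, Category.assoc, hpt, hsB]
    rw [← Category.assoc]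
    exact (congrArg (· ≫ b) hinvB).trans (Category.id_comp b)
  haveI := hmax _ t h (isTorus_splitTorus r) hh
  refine ⟨eA.inv.hom.hom ≫ sA ≫ p ≫ inv h, ?_⟩
  rw [Category.assoc, Category.assoc, Category.assoc, show inv h ≫ b = t by rw [← hh, IsIso.inv_hom_id_assoc], hpt, hsA]
  rw [← Category.assoc]
  exact (congrArg (· ≫ a) hinvA).trans (Category.id_comp a)

end Groth.Agent.RedSub30
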