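import Groth.Agent.GrpSchLib.SubgroupEqLocus
import Groth.Agent.RedSub30.TorusClosed
import Groth.Agent.RedSub30.TorusOverField

/-!
# A maximal torus of a commutative subgroup of an affine group absorbs every torus
-/

universe u

open CategoryTheory CategoryTheory.Limits MonoidalCategory CartesianMonoidalCategory MonObj AlgebraicGeometry

noncomputable section

namespace Groth.Agent.RedSub30.TorusAbsorb

open DSPtsLib (CoordM)
open GrpSchLib GrpSchLib.SubgroupEqLocus
open DiagActionRigid (sp spm)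

variable {S : Scheme.{u}} {G A B : Over S} [GrpObj G] [GrpObj A] [GrpObj B] (iA : A ⟶ G) [IsMonHom iA]
  (iB : B ⟶ G) [IsMonHom iB]

/-- The locus where `B` lies in `A` is clopen, and `B` lies in `A` over it; the agreement locus is an input. -/
theorem main [IsImmersion iA.left]
    (hA : SGA3x.IsMultTypeFT A) (hB : SGA3x.IsMultTypeFT B)
    (hcent : (∀ (Y : Over S) (g : Y ⟶ G) (a : Y ⟶ A), g * (a ≫ iA) = (a ≫ iA) * g) ∨
      ∀ (Y : Over S) (g : Y ⟶ G) (b : Y ⟶ B), g * (b ≫ iB) = (b ≫ iB) * g)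
    {K : Scheme.{u}} (k : K ⟶ (A ⊗ B).left) [IsClosedImmersion k] [LocallyOfFinitePresentation k]
    (hk : ∀ (Y : Over S) (g : Y ⟶ A ⊗ B), g ≫ fst A B ≫ iA = g ≫ snd A B ≫ iB ↔ ∃ l, l ≫ k = g.left) :
    ∃ U : S.Opens, IsClosed (U : Set S) ∧ (∀ s : S, s ∈ U ↔ Le iA iB (S.fromSpecResidueField s)) ∧
      Le iA iB U.ι := by
  classical
  haveI : Mono iA := Over.mono_of_mono_left _
  obtain ⟨SA, fA, hAflat, hAsurj, hAqc, hAloc⟩ := hA
  obtain ⟨SB, fB, hBflat, hBsurj, hBqc, hBloc⟩ := hB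
  have hcA : FpqcDescLib.Covers fA :=
    FpqcDescLib.covers_of_hcov fA ⟨SA, fA, 𝟙 _, Category.id_comp _, hAsurj, hAflat, hAqc⟩
  have hcB : FpqcDescLib.Covers fB :=
    FpqcDescLib.covers_of_hcov fB ⟨SB, fB, 𝟙 _, Category.id_comp _, hBsurj, hBflat, hBqc⟩
  let P := pullback fA fB
  let f : P ⟶ S := pullback.fst fA fB ≫ fA
  have hcP : FpqcDescLib.Covers (pullback.fst fA fB) :=
    hcB.pullback fA _ (pullback.snd fA fB) (IsPullback.of_hasPullback fA fB)
  have hopen : ∀ s : Set S, IsOpen (f ⁻¹' s) → IsOpen s := fun s hs =>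
    isOpen_of_covers hcA (isOpen_of_covers hcP (by
      have he : pullback.fst fA fB ⁻¹' (fA ⁻¹' s) = f ⁻¹' s := Set.ext fun z => by
        show fA (pullback.fst fA fB z) ∈ s ↔ f z ∈ s
        rw [← Scheme.Hom.comp_apply]
      rw [he]; exact hs))
  -- pieces
  have hpiece : ∀ z : P, ∃ (R : CommRingCat.{u}) (j : Spec R ⟶ P) (E : Set (PrimeSpectrum R)),
      IsOpenImmersion j ∧ z ∈ Set.range j ∧ IsClopen E ∧
      (∀ p : PrimeSpectrum R, (∀ (T : Type u) [CommRing T] [Algebra R T] (_ : p.asIdeal.ResidueField →ₐ[R] T)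
          (b : sp (j ≫ f) T ⟶ B), ∃ a : sp (j ≫ f) T ⟶ A, a ≫ iA = b ≫ iB) → p ∈ E) ∧
      (∀ (T : Type u) [CommRing T] [IsLocalRing T] [Algebra R T],
        PrimeSpectrum.comap (algebraMap R T) (IsLocalRing.closedPoint T) ∈ E →
        ∀ b : sp (j ≫ f) T ⟶ B, ∃ a : sp (j ≫ f) T ⟶ A, a ≫ iA = b ≫ iB) := by
    intro z
    obtain ⟨UA, hzA, MA, iMA, -, ⟨eA⟩⟩ := hAloc (pullback.fst fA fB z)
    obtain ⟨UB, hzB, MB, iMB, -, ⟨eB⟩⟩ := hBloc (pullback.snd fA fB z)
    obtain ⟨V, hV, hzV, -⟩ := exists_isAffineOpen_mem_and_subset (show f z ∈ (⊤ : S.Opens) from trivial)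
    obtain ⟨W, hW, hzW, hWle⟩ := exists_isAffineOpen_mem_and_subset
      (show z ∈ pullback.fst fA fB ⁻¹ᵁ UA ⊓ pullback.snd fA fB ⁻¹ᵁ UB ⊓ f ⁻¹ᵁ V from ⟨⟨hzA, hzB⟩, hzV⟩)
    have hmem : ∀ r, hW.fromSpec r ∈ W := fun r => by rw [← SetLike.mem_coe, ← hW.range_fromSpec]; exact ⟨r, rfl⟩
    have hrA : Set.range (hW.fromSpec ≫ pullback.fst fA fB) ⊆ Set.range UA.ι := by
      rintro _ ⟨r, rfl⟩
      rw [Scheme.Opens.range_ι]
      exact (hWle (hmem r)).1.1
    have hrB : Set.range (hW.fromSpec ≫ pullback.snd fA fB) ⊆ Set.range UB.ι := by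
      rintro _ ⟨r, rfl⟩
      rw [Scheme.Opens.range_ι]
      exact (hWle (hmem r)).1.2
    obtain ⟨χA, hAnat, hAmul, hAbij⟩ := SubgroupFactor.exists_char (β := hW.fromSpec ≫ f) (UA.ι ≫ fA) eA
      (IsOpenImmersion.lift UA.ι _ hrA) (by rw [IsOpenImmersion.lift_fac_assoc, Category.assoc])
    obtain ⟨χB, hBnat, hBmul, hBbij⟩ := SubgroupFactor.exists_char (β := hW.fromSpec ≫ f) (UB.ι ≫ fB) eB
      (IsOpenImmersion.lift UB.ι _ hrB) (by
        rw [IsOpenImmersion.lift_fac_assoc, Category.assoc]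
        exact congrArg (hW.fromSpec ≫ ·) pullback.condition.symm)
    obtain ⟨E, hE, h1, h2⟩ := exists_piece iA iB hcent χA hAnat hAmul hAbij χB hBnat hBmul hBbij hV
      (fun r => (hWle (hmem r)).2) k hk
    refine ⟨_, hW.fromSpec, E, inferInstance, ?_, hE, h1, h2⟩
    rw [← SetLike.mem_coe, ← hW.range_fromSpec] at hzW
    exact hzW
  choose R j E hj hzj hE hE1 hE2 using hpiece
  -- stalkwise criterion
  have hle : ∀ {T : Scheme.{u}} (g : T ⟶ S),
      (∀ t : T, ∃ (z : P) (r : Spec (T.presheaf.stalk t) ⟶ Spec (R z)),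
        r ≫ j z ≫ f = T.fromSpecStalk t ≫ g ∧ r (IsLocalRing.closedPoint (T.presheaf.stalk t)) ∈ E z) →
      Le iA iB g := by
    intro T g hg Y q b
    refine exists_factor_of_stalks b fun y => ?_
    let O : Type u := Y.left.presheaf.stalk y
    haveI : IsLocalRing O := inferInstanceAs (IsLocalRing (Y.left.presheaf.stalk y))
    obtain ⟨z, r, hr, hrE⟩ := hg (q.left y)
    obtain ⟨τ, hτ⟩ : ∃ τ, Spec.map τ = Spec.map (q.left.stalkMap y) ≫ r := ⟨_, Spec.map_preimage _⟩
    letI : Algebra (R z) O := τ.hom.toAlgebra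
    let t : sp (j z ≫ f) O ⟶ Y := Over.homMk (Y.left.fromSpecStalk y) (by
      show _ = Spec.map τ ≫ j z ≫ f
      have hs : Spec.map (q.left.stalkMap y) ≫ T.fromSpecStalk (q.left y) = Y.left.fromSpecStalk y ≫ q.left :=
        Scheme.SpecMap_stalkMap_fromSpecStalk (x := y) q.left
      rw [hτ, Category.assoc, hr, ← Category.assoc]
      refine Eq.trans ?_ (congrArg (fun m => m ≫ g) hs).symm
      exact (congrArg (Y.left.fromSpecStalk y ≫ ·) (Over.w q).symm).trans (Category.assoc _ _ _).symm)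
    obtain ⟨a, ha⟩ := hE2 z O (by
      show (Spec.map τ) (IsLocalRing.closedPoint O) ∈ E z
      rw [hτ, Scheme.Hom.comp_apply]
      have hcl : (Spec.map (q.left.stalkMap y)) (IsLocalRing.closedPoint O) = IsLocalRing.closedPoint _ :=
        IsLocalRing.comap_closedPoint (q.left.stalkMap y).hom
      rw [hcl]
      exact hrE) (t ≫ b)
    refine ⟨a.left, ?_⟩
    rw [← Over.comp_left, ha, Category.assoc, Over.comp_left]
    rfl
  let L : Set S := {s | Le iA iB (S.fromSpecResidueField s)}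
  have hfield : ∀ {F : Type u} [Field F] (b : Spec (CommRingCat.of F) ⟶ S),
      Le iA iB b ↔ Le iA iB (S.fromSpecResidueField (b (IsLocalRing.closedPoint F))) := fun {F} _ b => by
    conv_lhs => rw [← Scheme.descResidueField_stalkClosedPointTo_fromSpecResidueField F S b]
    exact ⟨fun h => Le.of_covers _ (HomUnitLocus.covers_field _) h, fun h => h.comp _⟩
  have hmem : ∀ z (p : PrimeSpectrum (R z)), f (j z p) ∈ L ↔ p ∈ E z := by
    intro z p
    let κ := p.asIdeal.ResidueField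
    let r : Spec (CommRingCat.of κ) ⟶ P := Spec.map (CommRingCat.ofHom (algebraMap (R z) κ)) ≫ j z
    have hpt : ∀ w : Spec (CommRingCat.of κ), r w = j z p := fun w => by
      rw [Scheme.Hom.comp_apply]
      congr 1
      refine PrimeSpectrum.ext ?_
      show Ideal.comap (algebraMap (R z) κ) w.asIdeal = p.asIdeal
      have hw : w.asIdeal = ⊥ := (Ideal.eq_bot_or_top w.asIdeal).resolve_right w.isPrime.ne_top
      rw [hw, ← RingHom.ker_eq_comap_bot, Ideal.ker_algebraMap_residueField]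
    have hb : (r ≫ f) (IsLocalRing.closedPoint κ) = f (j z p) := by rw [Scheme.Hom.comp_apply, hpt]
    show Le iA iB _ ↔ _
    rw [← hb, ← hfield (r ≫ f)]
    constructor
    · intro h
      refine hE1 z p fun T _ _ ψ b => ?_
      letI : Algebra κ T := ψ.toRingHom.toAlgebra
      refine h _ (Over.homMk (Spec.map (CommRingCat.ofHom ψ.toRingHom)) ?_) b
      show Spec.map _ ≫ (Spec.map _ ≫ j z) ≫ f = Spec.map _ ≫ j z ≫ f
      rw [Category.assoc, ← Spec.map_comp_assoc, ← CommRingCat.ofHom_comp]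
      congr 3
      exact ψ.comp_algebraMap
    · intro hp
      refine hle _ fun t => ⟨z, (Spec (CommRingCat.of κ)).fromSpecStalk t ≫
        Spec.map (CommRingCat.ofHom (algebraMap (R z) κ)), by simp only [r, Category.assoc], ?_⟩
      rw [Scheme.Hom.comp_apply, Scheme.fromSpecStalk_closedPoint]
      exact (congrArg (· ∈ E z) ((j z).isOpenEmbedding.injective (hpt t))).mpr hp
  have hpre : ∀ z, f ⁻¹' L ∩ Set.range (j z) = j z '' E z := fun z => by
    ext x
    constructor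
    · rintro ⟨hx, p, rfl⟩; exact ⟨p, (hmem z p).mp hx, rfl⟩
    · rintro ⟨p, hp, rfl⟩; exact ⟨(hmem z p).mpr hp, p, rfl⟩
  have hpre' : ∀ z, f ⁻¹' Lᶜ ∩ Set.range (j z) = j z '' (E z)ᶜ := fun z => by
    ext x
    constructor
    · rintro ⟨hx, p, rfl⟩; exact ⟨p, fun h => hx ((hmem z p).mpr h), rfl⟩
    · rintro ⟨p, hp, rfl⟩; exact ⟨fun h => hp ((hmem z p).mp h), p, rfl⟩
  have hcov : ∀ X : Set P, (∀ z, IsOpen (X ∩ Set.range (j z))) → IsOpen X := fun X hX => by
    rw [show X = ⋃ z, X ∩ Set.range (j z) from Set.ext fun x =>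
      ⟨fun hx => Set.mem_iUnion.mpr ⟨x, hx, hzj x⟩, fun hx => (Set.mem_iUnion.mp hx).choose_spec.1⟩]
    exact isOpen_iUnion hX
  have hL : IsOpen L := hopen L (hcov _ fun z => by
    rw [hpre]; exact (j z).isOpenEmbedding.isOpenMap _ (hE z).2)
  have hL' : IsOpen Lᶜ := hopen Lᶜ (hcov _ fun z => by
    rw [hpre']; exact (j z).isOpenEmbedding.isOpenMap _ (hE z).1.isOpen_compl)
  refine ⟨⟨L, hL⟩, ⟨hL'⟩, fun s => Iff.rfl, ?_⟩
  let U0 : S.Opens := ⟨L, hL⟩
  refine Le.of_covers (pullback.fst U0.ι fA)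
    (hcA.pullback U0.ι _ (pullback.snd U0.ι fA) (IsPullback.of_hasPullback _ _)) ?_
  refine Le.of_covers (pullback.fst (pullback.snd U0.ι fA) (pullback.fst fA fB))
    (hcP.pullback _ _ (pullback.snd _ _) (IsPullback.of_hasPullback _ _)) ?_
  let T := pullback (pullback.snd U0.ι fA) (pullback.fst fA fB)
  let pr : T ⟶ P := pullback.snd _ _
  have hg : pullback.fst (pullback.snd U0.ι fA) (pullback.fst fA fB) ≫ pullback.fst U0.ι fA ≫ U0.ι = pr ≫ f := by
    rw [pullback.condition, pullback.condition_assoc]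
  rw [hg]
  refine hle _ fun t => ?_
  have hrange : Set.range (T.fromSpecStalk t ≫ pr) ⊆ Set.range (j (pr t)) := by
    rintro _ ⟨w, rfl⟩
    have hw : T.fromSpecStalk t w ⤳ t := by
      have : T.fromSpecStalk t w ∈ Set.range (T.fromSpecStalk t) := ⟨w, rfl⟩
      rwa [Scheme.range_fromSpecStalk] at this
    exact (hw.map pr.continuous).mem_open (j (pr t)).isOpenEmbedding.isOpen_range (hzj (pr t))
  refine ⟨pr t, IsOpenImmersion.lift (j (pr t)) _ hrange, by rw [IsOpenImmersion.lift_fac_assoc, Category.assoc], ?_⟩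
  refine (hmem _ _).mp ?_
  have h := congrArg (fun m : Spec (T.presheaf.stalk t) ⟶ P => f (m (IsLocalRing.closedPoint (T.presheaf.stalk t))))
    (IsOpenImmersion.lift_fac (j (pr t)) _ hrange)
  simp only [Scheme.Hom.comp_apply, Scheme.fromSpecStalk_closedPoint] at h
  rw [h, ← Scheme.Hom.comp_apply, ← hg, Scheme.Hom.comp_apply, Scheme.Hom.comp_apply]
  exact Subtype.coe_prop _

section Absorb

/-- Tori are stable under base change. -/
theorem isTorus_bc {S T : Scheme.{u}} (g : T ⟶ S) {H : Over S} [GrpObj H] (hH : Red.IsTorus H) :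
    Red.IsTorus (Red.bc g H) := by
  obtain ⟨S', f, hflat, hsurj, hqc, hloc⟩ := hH
  have hcf : FpqcDescLib.Covers f :=
    FpqcDescLib.covers_of_hcov f ⟨S', f, 𝟙 _, Category.id_comp _, hsurj, hflat, hqc⟩
  obtain ⟨Z, r, hr⟩ := hcf.pullback g (pullback.fst g f) (pullback.snd g f) (IsPullback.of_hasPullback g f)
  obtain ⟨hfl, hcov⟩ := flat_hcov_of_isCovering hr
  refine ⟨Z, r ≫ pullback.fst g f, hfl, ⟨fun x => ?_⟩, hcov, fun z => ?_⟩
  · obtain ⟨V, hV, hxV, -⟩ := exists_isAffineOpen_mem_and_subset (show x ∈ (⊤ : T.Opens) from trivial)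
    obtain ⟨W, -, hW⟩ := hcov V hV
    have hx : x ∈ (V : Set T) := hxV
    rw [← hW] at hx
    obtain ⟨w, -, hw⟩ := hx
    exact ⟨w, hw⟩
  · obtain ⟨U, hzU, n, ⟨e⟩⟩ := hloc ((r ≫ pullback.snd g f) z)
    let U' : Z.Opens := (r ≫ pullback.snd g f) ⁻¹ᵁ U
    let l : (U' : Scheme.{u}) ⟶ U := (r ≫ pullback.snd g f) ∣_ U
    have hl : (U'.ι ≫ r ≫ pullback.fst g f) ≫ g = l ≫ U.ι ≫ f := by
      rw [← Category.assoc l, morphismRestrict_ι, Category.assoc, Category.assoc, Category.assoc, Category.assoc,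
        pullback.condition]
    obtain ⟨e₁⟩ := MultTypeBC.bc_bc (U'.ι ≫ r ≫ pullback.fst g f) g H
    obtain ⟨e₂⟩ := MultTypeBC.bc_congr hl H
    obtain ⟨e₃⟩ := MultTypeBC.bc_bc l (U.ι ≫ f) H
    obtain ⟨e₄⟩ := MultTypeBC.bc_iso l e
    obtain ⟨e₅⟩ := MultTypeBC.bc_DS l (Fin n → ℤ)
    exact ⟨U', hzU, n, ⟨e₁ ≪≫ e₂ ≪≫ e₃.symm ≪≫ e₄ ≪≫ e₅⟩⟩

/-- A factorisation of pull-backs along `g` gives a factorisation over `g`. -/
theorem le_of_bc {S T : Scheme.{u}} {Z A B : Over S} [GrpObj Z] [GrpObj A] [GrpObj B] (b : B ⟶ Z) (a : A ⟶ Z)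
    (g : T ⟶ S) (l : Red.bc g A ⟶ Red.bc g B) (hl : l ≫ (Over.pullback g).map b = (Over.pullback g).map a) :
    Le b a g := by
  intro Y q y
  let Y' : Over T := Over.mk q.left
  let y' : Y' ⟶ Red.bc g A := Over.homMk (pullback.lift y.left q.left (by
    rw [Over.w y]; exact (Over.w q).symm)) (pullback.lift_snd _ _ _)
  have h := congrArg (fun k => k.left ≫ pullback.fst Z.hom g) (congrArg (y' ≫ ·) hl)
  simp only [Over.comp_left, Category.assoc, HomSplitLocal.map_fst] at h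
  refine ⟨Over.homMk ((y' ≫ l).left ≫ pullback.fst B.hom g) ?_, Over.OverMorphism.ext ?_⟩
  · rw [Category.assoc, pullback.condition, ← Category.assoc]
    exact (congrArg (· ≫ g) (Over.w (y' ≫ l))).trans (Over.w q)
  · show ((y' ≫ l).left ≫ pullback.fst B.hom g) ≫ b.left = y.left ≫ a.left
    rw [Over.comp_left, Category.assoc, Category.assoc]
    refine h.trans ?_
    show pullback.lift y.left q.left _ ≫ pullback.fst A.hom g ≫ a.left = _
    rw [pullback.lift_fst_assoc]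

/-- A maximal torus of a commutative subgroup of an affine group contains the image of every torus mapping to
that subgroup. -/
theorem exists_factor {S : Scheme.{u}} {G Z A B : Over S} [GrpObj G] [GrpObj Z] [GrpObj A] [GrpObj B]
    [IsCommMonObj Z] [IsAffineHom G.hom] [LocallyOfFiniteType G.hom] (j : Z ⟶ G) [IsMonHom j] [Mono j]
    (hA : Red.IsTorus A) (a : A ⟶ Z) [IsMonHom a] (b : B ⟶ Z) (hb : Red.IsMaximalTorus b) :
    ∃ l : A ⟶ B, l ≫ b = a := by
  obtain ⟨hbhom, hbmono, hB, hmax⟩ := hb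
  haveI := hbhom
  haveI := hbmono
  haveI : IsClosedImmersion (b ≫ j).left :=
    TorusClosed.isClosedImmersion_of_mono (b ≫ j) (RankOne.isMultTypeFT_of_isTorus hB)
  haveI : IsClosedImmersion (b.left ≫ j.left) := by rwa [← Over.comp_left]
  haveI : IsImmersion b.left := IsImmersion.of_comp b.left j.left
  obtain ⟨K, k, hkc, hkfp, hk⟩ := exists_agree (b ≫ j) (a ≫ j)
  haveI := hkfp (Or.inr inferInstance)
  obtain ⟨U, -, hU, hle⟩ := main b a (RankOne.isMultTypeFT_of_isTorus hB) (RankOne.isMultTypeFT_of_isTorus hA)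
    (Or.inl fun Y g x => mul_comm _ _) k (fun Y g => by
      rw [← hk Y g, ← cancel_mono j]
      simp only [Category.assoc])
  have hall : ∀ s : S, s ∈ U := fun s => by
    rw [hU]
    refine Le.of_covers (Spec.map (CommRingCat.ofHom
      (algebraMap (S.residueField s) (AlgebraicClosure (S.residueField s))))) (HomUnitLocus.covers_field _) ?_
    let g := Red.geomPt s
    haveI : IsAffineHom (pullback.snd G.hom g) := MorphismProperty.pullback_snd _ _ inferInstance
    haveI : IsAffine (Red.geomFibre s G).left := isAffine_of_isAffineHom (pullback.snd G.hom g)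
    haveI : LocallyOfFiniteType (Red.geomFibre s G).hom := inferInstanceAs (LocallyOfFiniteType (pullback.snd G.hom g))
    haveI : IsCommMonObj (Red.geomFibre s Z) := RankOne.isCommMonObj_bc g Z
    obtain ⟨l, hl⟩ := exists_factor_of_maximal ((Over.pullback g).map j) (isTorus_bc g hA) (isTorus_bc g hB)
      ((Over.pullback g).map a) ((Over.pullback g).map b) (fun T _ t _ _ f hT hf => hmax s T t f hT hf) fun _ _ _ => mul_comm _ _
    exact le_of_bc b a g l hl
  obtain ⟨l, hl⟩ := hle A (Over.homMk (IsOpenImmersion.lift U.ι A.hom (by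
    rw [Scheme.Opens.range_ι]
    rintro x -
    exact hall x)) (IsOpenImmersion.lift_fac _ _ _)) (𝟙 A)
  exact ⟨l, hl.trans (Category.id_comp a)⟩

end Absorb

end Groth.Agent.RedSub30.TorusAbsorb
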