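import Groth.Agent.RedSub30.TorusAbsorb
import Groth.Prelude.Def_Red2

/-!
# Points of centralisers and centres; tori in centres of centralisers
-/

universe u

open CategoryTheory MonoidalCategory CartesianMonoidalCategory MonObj AlgebraicGeometry

noncomputable section

namespace Groth.Agent.RedSub30

variable {S : Scheme.{u}} {G H Z W : Over S} [GrpObj G] [GrpObj H] [GrpObj Z] [GrpObj W]

/-- Points of a centraliser commute with points of the subgroup. -/
theorem centralizer_comm {i : H ⟶ G} {j : Z ⟶ G} (hj : Red.IsCentralizerOf i j) {X : Over S} (z : X ⟶ Z)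
    (h : X ⟶ H) : (z ≫ j) * (h ≫ i) = (h ≫ i) * (z ≫ j) := by
  have := (hj.2.2 X (z ≫ j)).mp ⟨z, rfl⟩ X (𝟙 X) h
  rwa [Category.id_comp] at this

/-- A commutative group mapping to `G` factors through its centraliser. -/
theorem exists_lift_centralizer_self {i : H ⟶ G} [IsMonHom i] {j : Z ⟶ G} (hj : Red.IsCentralizerOf i j)
    (hc : ∀ (X : Over S) (a b : X ⟶ H), a * b = b * a) : ∃ l : H ⟶ Z, l ≫ j = i :=
  (hj.2.2 H i).mpr fun X x h => by rw [← MonObj.mul_comp, ← MonObj.mul_comp, hc]

omit [GrpObj W] in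
/-- The centre is commutative. -/
theorem isCommMonObj_centre {j : Z ⟶ G} (hj : Red.IsCentre j) : IsCommMonObj Z := by
  haveI := hj.1
  haveI := hj.2.1
  have h : ∀ (X : Over S) (a b : X ⟶ Z), a * b = b * a := fun X a b => by
    rw [← cancel_mono j, MonObj.mul_comp, MonObj.mul_comp]
    have := centralizer_comm hj a (b ≫ j)
    rwa [Category.comp_id] at this
  constructor
  have e := h (Z ⊗ Z) (snd Z Z) (fst Z Z)
  rw [Hom.mul_def, Hom.mul_def, lift_fst_snd, Category.id_comp] at e
  rwa [show (β_ Z Z).hom = lift (snd Z Z) (fst Z Z) from CartesianMonoidalCategory.hom_ext _ _ (by simp) (by simp)]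

/-- A homomorphism commuting with all points lands in the centre. -/
theorem exists_lift_centre {j : Z ⟶ G} (hj : Red.IsCentre j) (f : H ⟶ G) [IsMonHom f]
    (hc : ∀ (X : Over S) (g : X ⟶ G) (h : X ⟶ H), (h ≫ f) * g = g * (h ≫ f)) :
    ∃ l : H ⟶ Z, IsMonHom l ∧ l ≫ j = f := by
  haveI := hj.1
  haveI := hj.2.1
  obtain ⟨l, hl⟩ := (hj.2.2 H f).mpr fun X x g => by rw [Category.comp_id]; exact hc X g x
  haveI : IsMonHom (l ≫ j) := by rwa [hl]
  exact ⟨l, isMonHom_of_mono j l, hl⟩

end Groth.Agent.RedSub30
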