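import Mathlib.LinearAlgebra.RootSystem.Finite.Lemmas
import Mathlib.LinearAlgebra.RootSystem.Finite.CanonicalBilinear

/-!
# Closed sets of roots of a root pairing over the integers
-/

set_option autoImplicit false

namespace Groth.Agent.RedSub30

open RootPairing

variable {ι M N : Type*} [AddCommGroup M] [AddCommGroup N]

/-- A set of roots containing the sum of two of its members whenever that is a root. -/
def IsClosedSet (P : RootPairing ι ℤ M N) (Ψ : Set ι) : Prop :=
  ∀ a b c, a ∈ Ψ → b ∈ Ψ → P.root a + P.root b = P.root c → c ∈ Ψ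

variable [Finite ι] {P : RootPairing ι ℤ M N} {Ψ : Set ι}

theorem pairingIn_eq (i j : ι) : P.pairingIn ℤ i j = P.pairing i j := by
  simpa using P.algebraMap_pairingIn ℤ i j

/-- A root which is a sum of members of a closed set, all positive for a form, is a member. -/
theorem IsClosedSet.mem_of_sum (hΨ : IsClosedSet P Ψ) (lam : M →ₗ[ℤ] ℤ) (hpos : ∀ a ∈ Ψ, 0 < lam (P.root a))
    (L : Multiset ι) (hL : ∀ a ∈ L, a ∈ Ψ) (d : ι) (hd : P.root d = (L.map fun a => P.root a).sum) : d ∈ Ψ := by
  classical
  induction hn : Multiset.card L using Nat.strong_induction_on generalizing L d with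
  | _ n ih =>
    obtain ⟨b, hb, hbd⟩ : ∃ b ∈ L, 0 < P.pairing b d := by
      by_contra! h
      have h1 := congrArg (P.coroot' d) hd
      rw [root_coroot'_eq_pairing, pairing_same, map_multiset_sum, Multiset.map_map] at h1
      have h3 : (Multiset.map (⇑(P.coroot' d) ∘ fun a => P.root a) L).sum ≤ 0 := by
        refine le_of_le_of_eq (Multiset.sum_le_card_nsmul _ 0 fun x hx => ?_) (nsmul_zero _)
        obtain ⟨a, ha, rfl⟩ := Multiset.mem_map.mp hx
        simpa using h a ha
      omega
    by_cases hbd' : b = d
    · exact hbd' ▸ hL b hb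
    obtain ⟨e, he⟩ := P.root_sub_root_mem_of_pairingIn_pos (by rwa [pairingIn_eq]) hbd'
    letI := P.indexNeg
    -- `e' = d - b`
    obtain ⟨e', he'⟩ : ∃ e', P.root e' = P.root d - P.root b :=
      ⟨P.reflectionPerm e e, by rw [root_reflectionPerm, reflection_apply_self, he, neg_sub]⟩
    have hsum : P.root e' = ((L.erase b).map fun a => P.root a).sum := by
      rw [he', hd, ← Multiset.sum_map_erase hb, add_sub_cancel_left]
    have he'mem : e' ∈ Ψ := ih _ (by rw [← hn]; exact Multiset.card_erase_lt_of_mem hb) _
      (fun a ha => hL a (Multiset.mem_of_mem_erase ha)) e' hsum rfl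
    exact hΨ e' b d he'mem (hL b hb) (by rw [he', sub_add_cancel])

/-- Negative pairing: the reflected root stays in the set. -/
theorem IsClosedSet.reflection_mem (hΨ : IsClosedSet P Ψ) (hneg : ∀ a b, a ∈ Ψ → P.root b = -P.root a → b ∉ Ψ)
    {b : ι} (hb : b ∈ Ψ) {a : ι} (ha : a ∈ Ψ) (h : P.pairing a b < 0) : P.reflectionPerm b a ∈ Ψ := by
  induction hk : (-P.pairing a b).toNat using Nat.strong_induction_on generalizing a with
  | _ k ih =>
    have hne : P.root a ≠ -P.root b := fun e => hneg b a hb e ha
    obtain ⟨c, hc⟩ := P.root_add_root_mem_of_pairingIn_neg (i := a) (j := b) (by rwa [pairingIn_eq]) hne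
    have hcΨ : c ∈ Ψ := hΨ a b c ha hb hc.symm
    have hcb : P.pairing c b = P.pairing a b + 2 := by
      rw [← root_coroot'_eq_pairing, hc, map_add, root_coroot'_eq_pairing, root_coroot'_eq_pairing, pairing_same]
    have hs : P.root (P.reflectionPerm b a) = P.root a - P.pairing a b • P.root b := by
      rw [root_reflectionPerm, reflection_apply_root]
    rcases lt_trichotomy (P.pairing c b) 0 with hlt | heq | hgt
    · have h1 := ih _ (by omega) hcΨ hlt rfl
      refine hΨ _ b _ h1 hb ?_
      rw [root_reflectionPerm, reflection_apply_root, hs, hc, hcb]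
      simp only [add_smul, two_smul, two_zsmul]
      abel
    · have e : P.pairing a b = -2 := by omega
      refine hΨ c b _ hcΨ hb ?_
      rw [hs, hc, e]
      simp only [neg_smul, two_smul, two_zsmul]
      abel
    · have e : P.pairing a b = -1 := by omega
      suffices P.reflectionPerm b a = c by rwa [this]
      apply P.root.injective
      rw [hs, hc, e]
      simp

/-- A closed set without opposite roots is positive for the form of the sum of its members. -/
theorem IsClosedSet.rootForm_sum_pos [Fintype ι] [DecidablePred (· ∈ Ψ)] (hΨ : IsClosedSet P Ψ)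
    (hneg : ∀ a b, a ∈ Ψ → P.root b = -P.root a → b ∉ Ψ) {b : ι} (hb : b ∈ Ψ) :
    0 < P.RootForm (∑ a with a ∈ Ψ, P.root a) (P.root b) := by
  classical
  let v : M := ∑ a with a ∈ Ψ, P.root a
  have hsum : 0 < P.coroot' b v := by
    simp only [v, map_sum, root_coroot'_eq_pairing]
    let s := Finset.univ.filter fun a => a ∈ Ψ
    have hbs : b ∈ s := by simp [s, hb]
    let N' := s.filter fun a => P.pairing a b < 0
    have himg : N'.image (P.reflectionPerm b) ⊆ (s.erase b).filter fun a => ¬ P.pairing a b < 0 := by
      intro c hc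
      obtain ⟨a, ha, rfl⟩ := Finset.mem_image.mp hc
      simp only [N', s, Finset.mem_filter, Finset.mem_univ, true_and] at ha
      have hp : P.pairing (P.reflectionPerm b a) b = -P.pairing a b := by
        rw [← root_coroot'_eq_pairing, root_reflectionPerm, reflection_apply_root, map_sub, map_zsmul,
          root_coroot'_eq_pairing, root_coroot'_eq_pairing, pairing_same]
        simp; ring
      refine Finset.mem_filter.mpr ⟨Finset.mem_erase.mpr ⟨fun e => ?_, ?_⟩, by omega⟩
      · have : a = P.reflectionPerm b b := by
          have h' := P.reflectionPerm_self b a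
          rw [e] at h'
          exact h'.symm
        exact hneg b a hb (by rw [this, root_reflectionPerm, reflection_apply_self]) ha.1
      · simp [s, hΨ.reflection_mem hneg hb ha.1 ha.2]
    have h1 : ∑ a ∈ N'.image (P.reflectionPerm b), P.pairing a b = ∑ a ∈ N', -P.pairing a b := by
      rw [Finset.sum_image fun x _ y _ e => (P.reflectionPerm b).injective e]
      refine Finset.sum_congr rfl fun a _ => ?_
      rw [← root_coroot'_eq_pairing, root_reflectionPerm, reflection_apply_root, map_sub, map_zsmul,
        root_coroot'_eq_pairing, root_coroot'_eq_pairing, pairing_same]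
      simp; ring
    have h2 : ∑ a ∈ N'.image (P.reflectionPerm b), P.pairing a b ≤
        ∑ a ∈ (s.erase b).filter (fun a => ¬ P.pairing a b < 0), P.pairing a b :=
      Finset.sum_le_sum_of_subset_of_nonneg himg fun a ha _ => not_lt.mp (Finset.mem_filter.mp ha).2
    have h3 : (s.erase b).filter (fun a => P.pairing a b < 0) = N' := by
      ext a
      simp only [N', Finset.mem_filter, Finset.mem_erase]
      exact ⟨fun h => ⟨h.1.2, h.2⟩, fun h => ⟨⟨fun e => by rw [e, pairing_same] at h; omega, h.1⟩, h.2⟩⟩
    show 0 < ∑ a ∈ s, P.pairing a b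
    rw [← Finset.add_sum_erase s _ hbs, pairing_same, ← Finset.sum_filter_add_sum_filter_not (s.erase b)
      (fun a => P.pairing a b < 0), h3]
    rw [h1, Finset.sum_neg_distrib] at h2
    omega
  have hq : 0 < P.RootForm (P.root b) (P.root b) := by
    rw [rootForm_root_self]
    exact Finset.sum_pos' (fun i _ => mul_self_nonneg _) ⟨b, Finset.mem_univ b, by simp⟩
  have key := congrArg (P.toLinearMap v) (P.rootForm_self_smul_coroot b)
  rw [map_zsmul, map_nsmul, toLinearMap_apply_apply_Polarization, smul_eq_mul, nsmul_eq_mul] at key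
  have hsym : P.RootForm v (P.root b) = P.RootForm (P.root b) v := by
    rw [rootForm_apply_apply, rootForm_apply_apply]
    simp [mul_comm]
  have key' : P.RootForm (P.root b) (P.root b) * P.coroot' b v = 2 * P.RootForm (P.root b) v := key
  show 0 < P.RootForm v (P.root b)
  rw [hsym]
  nlinarith

/-- A closed set without opposite roots is positive for some linear form. -/
theorem IsClosedSet.exists_pos [Fintype ι] (hΨ : IsClosedSet P Ψ)
    (hneg : ∀ a b, a ∈ Ψ → P.root b = -P.root a → b ∉ Ψ) : ∃ lam : M →ₗ[ℤ] ℤ, ∀ a ∈ Ψ, 0 < lam (P.root a) := by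
  classical
  exact ⟨_, fun _ hb => hΨ.rootForm_sum_pos hneg hb⟩

end Groth.Agent.RedSub30
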