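import Groth.Agent.RedSub30.RootPoly
import Groth.Agent.RedSub30.ClosedRoots
import Groth.Prelude.Def_RedSub

/-!
# Products of root groups over a closed set of positive roots form subgroups
-/

set_option autoImplicit false

universe u

open CategoryTheory CategoryTheory.Limits AlgebraicGeometry MonoidalCategory CartesianMonoidalCategory
open scoped MonObj

noncomputable section

namespace Groth.Agent.RedSub30.RootPoly

open GrpSchLib Rank2Red38

variable {S : Scheme.{u}} {G : Over S} [GrpObj G] (D : Red.SplitRed G)

/-- The product of root elements along a sequence, with repetitions allowed. -/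
def wordPt (X : Over S) {n : ℕ} (w : Fin n → D.idx) (x : Fin n → Γ(X.left, ⊤)) : X ⟶ G :=
  (List.ofFn fun k => U D X (w k) (x k)).prod

theorem comp_wordPt {X X' : Over S} (g : X' ⟶ X) {n : ℕ} (w : Fin n → D.idx) (x : Fin n → Γ(X.left, ⊤)) :
    g ≫ wordPt D X w x = wordPt D X' w fun k => g.left.appTop (x k) := by
  induction n with
  | zero => simp [wordPt, MonObj.comp_one]
  | succ n ih =>
    simp only [wordPt, List.ofFn_succ, List.prod_cons, comp_mul', comp_U] at ih ⊢
    rw [ih]

theorem isWeighted_wordPt {n : ℕ} (w : Fin n → D.idx) : IsWeighted D w fun X => wordPt D X w where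
  nat X X' g x := comp_wordPt D g w x
  equiv X t x := by
    show MulAut.conj (I D X t) (wordPt D X w x) = _
    rw [wordPt, map_list_prod, List.map_ofFn, wordPt]
    congr 1
    refine List.ofFn_inj.mpr (funext fun k => ?_)
    exact conj_U D (w k) t (x k)
  zero X := List.prod_eq_one fun g hg => by
    obtain ⟨k, rfl⟩ := List.mem_ofFn.mp hg
    exact (U_oneParam D _).zero

/-- A list of distinct roots forming a closed set on which a form is positive. -/
structure IsPosClosed (lam : Module.Dual ℤ D.M) (l : List D.idx) : Prop where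
  nodup : l.Nodup
  pos : ∀ c ∈ l, 0 < lam (D.P.root c)
  closed : IsClosedSet D.P {c | c ∈ l}

variable {D} {lam : Module.Dual ℤ D.M} {l : List D.idx} (hl : IsPosClosed D lam l) {X : Over S}
include hl

theorem IsPosClosed.mem_of_wt {n : ℕ} {w : Fin n → D.idx} (hw : ∀ k, w k ∈ l) (d : D.idx) (m : Fin n →₀ ℕ)
    (h : D.P.root d = wt D w m) : d ∈ l := by
  classical
  refine hl.closed.mem_of_sum lam (fun a ha => hl.pos a ha) (∑ k, Multiset.replicate (m k) (w k)) (fun a ha => ?_) d ?_
  · obtain ⟨k, -, hk⟩ := Multiset.mem_sum.mp ha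
    rw [Multiset.eq_of_mem_replicate hk]
    exact hw k
  · rw [h, wt, show (Multiset.map (fun a => D.P.root a) (∑ k, Multiset.replicate (m k) (w k))) =
      ∑ k, Multiset.replicate (m k) (D.P.root (w k)) by
        rw [← Multiset.coe_mapAddMonoidHom, map_sum]
        simp [Multiset.map_replicate]]
    rw [← Multiset.coe_sumAddMonoidHom, map_sum]
    simp [Multiset.sum_replicate]

/-- Words in root elements of the set are products along the list. -/
theorem IsPosClosed.wordPt_inProd {n : ℕ} (w : Fin n → D.idx) (hw : ∀ k, w k ∈ l) (x : Fin n → Γ(X.left, ⊤)) :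
    InProd D X l (wordPt D X w x) :=
  inProd_of_isWeighted D lam w (fun X => wordPt D X w) (fun k => hl.pos _ (hw k)) (isWeighted_wordPt D w) l hl.nodup
    hl.pos (hl.mem_of_wt hw) X x

theorem IsPosClosed.list_inProd (L : List (D.idx × Γ(X.left, ⊤))) (hL : ∀ p ∈ L, p.1 ∈ l) :
    InProd D X l (L.map fun p => U D X p.1 p.2).prod := by
  have h := hl.wordPt_inProd (fun k : Fin L.length => (L.get k).1) (fun k => hL _ (List.get_mem L k))
    fun k => (L.get k).2
  rwa [wordPt, show (List.ofFn fun k : Fin L.length => U D X (L.get k).1 (L.get k).2) = L.map fun p => U D X p.1 p.2 from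
    List.ext_getElem (by simp) fun i h₁ h₂ => by simp] at h

theorem IsPosClosed.one : InProd D X l (1 : X ⟶ G) := hl.list_inProd [] (by simp)

theorem IsPosClosed.U_mem {c : D.idx} (hc : c ∈ l) (x : Γ(X.left, ⊤)) : InProd D X l (U D X c x) := by
  simpa using hl.list_inProd [(c, x)] (by simpa using hc)

theorem IsPosClosed.mul {g g' : X ⟶ G} (hg : InProd D X l g) (hg' : InProd D X l g') : InProd D X l (g * g') := by
  obtain ⟨z, rfl⟩ := hg
  obtain ⟨z', rfl⟩ := hg'
  have h := hl.list_inProd ((l.map fun c => (c, z c)) ++ l.map fun c => (c, z' c))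
    (by simp only [List.mem_append, List.mem_map]; rintro p (⟨c, hc, rfl⟩ | ⟨c, hc, rfl⟩) <;> exact hc)
  simpa [rootProd, List.map_map, Function.comp_def] using h

theorem IsPosClosed.inv {g : X ⟶ G} (hg : InProd D X l g) : InProd D X l g⁻¹ := by
  obtain ⟨z, rfl⟩ := hg
  have h := hl.list_inProd (l.reverse.map fun c => (c, -z c))
    (by simp only [List.mem_map, List.mem_reverse]; rintro p ⟨c, hc, rfl⟩; exact hc)
  rw [rootProd, List.prod_inv_reverse]
  convert h using 2
  rw [List.map_map, List.map_map, ← List.map_reverse]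
  exact List.map_congr_left fun c _ => ((U_oneParam D c).neg (z c)).symm

/-- The torus normalises the products. -/
theorem IsPosClosed.conj_torus (t : X ⟶ D.T) {g : X ⟶ G} (hg : InProd D X l g) :
    InProd D X l (I D X t * g * (I D X t)⁻¹) := by
  obtain ⟨z, rfl⟩ := hg
  refine ⟨fun c => rootVal D X c t * z c, ?_⟩
  show MulAut.conj (I D X t) _ = _
  rw [rootProd, map_list_prod, List.map_map, rootProd]
  congr 1
  exact List.map_congr_left fun c _ => conj_U D c t (z c)

end Groth.Agent.RedSub30.RootPoly
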