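import Groth.Agent.RedSub30.ClosedProd
import Groth.Agent.RedSub30.TorusClosed
import Groth.Agent.RedSub30.TorusOverField
import Groth.Agent.BigCell29.CellMap
import Groth.Agent.GrpSchLib.MonoSubgroup

/-!
# The subgroup scheme of a closed set of positive roots
-/

set_option autoImplicit false
set_option synthInstance.maxHeartbeats 100000

universe u

open CategoryTheory CategoryTheory.Limits AlgebraicGeometry MonoidalCategory CartesianMonoidalCategory WithConv
open scoped MonObj AddMonoidAlgebra

noncomputable section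

namespace Groth.Agent.RedSub30.RootPoly

open GrpSchLib Rank2Red38 BigCell29
open GrpSchLib.AffineHopf DSPtsLib

variable {S : Scheme.{u}}

section Coord

/-- The coordinates of a point of a power of the additive group. -/
def coord {X : Over S} : {n : ℕ} → (X ⟶ RedSub.pow (Red.Ga S) n) → Fin n → Γ(X.left, ⊤)
  | 0, _ => Fin.elim0
  | _ + 1, x => Fin.cons (Red.gaFn (x ≫ fst _ _)) (coord (x ≫ snd _ _))

/-- The point with given coordinates. -/
def ofCoord {X : Over S} : {n : ℕ} → (Fin n → Γ(X.left, ⊤)) → (X ⟶ RedSub.pow (Red.Ga S) n)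
  | 0, _ => toUnit _
  | _ + 1, v => lift (GaPts.ptOfFn (v 0)) (ofCoord fun k => v k.succ)

theorem coord_ofCoord {X : Over S} {n : ℕ} (v : Fin n → Γ(X.left, ⊤)) : coord (ofCoord v) = v := by
  induction n with
  | zero => exact funext fun k => k.elim0
  | succ n ih =>
    show Fin.cons (Red.gaFn (lift _ _ ≫ fst _ _)) (coord (lift _ _ ≫ snd _ _)) = v
    rw [lift_fst, lift_snd, ih, GaPts.gaFn_ptOfFn]
    exact Fin.cons_self_tail v

theorem coord_injective {X : Over S} : ∀ {n : ℕ}, Function.Injective (coord : (X ⟶ RedSub.pow (Red.Ga S) n) → _)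
  | 0, x, y, _ => toUnit_unique x y
  | n + 1, x, y, h => by
    change Fin.cons (α := fun _ => Γ(X.left, ⊤)) (Red.gaFn (x ≫ fst (Red.Ga S) _)) (coord (x ≫ snd (Red.Ga S) _)) =
      Fin.cons (α := fun _ => Γ(X.left, ⊤)) (Red.gaFn (y ≫ fst (Red.Ga S) _)) (coord (y ≫ snd (Red.Ga S) _)) at h
    exact CartesianMonoidalCategory.hom_ext _ _ (GaPts.gaFn_injective (congrFun h 0))
      (coord_injective (funext fun k => by
        have := congrFun h k.succ
        rw [Fin.cons_succ, Fin.cons_succ] at this
        exact this))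

end Coord

variable {G : Over S} [GrpObj G] (D : Red.SplitRed G) {X : Over S}

theorem comp_prodMap {n : ℕ} (e : Fin n → D.idx) (x : X ⟶ RedSub.pow (Red.Ga S) n) :
    x ≫ RedSub.prodMap (Red.Ga S) n (fun k => D.u (e k)) = wordPt D X e (coord x) := by
  induction n with
  | zero =>
    show x ≫ (1 : RedSub.pow (Red.Ga S) 0 ⟶ G) = _
    rw [MonObj.comp_one]
    simp [wordPt]
  | succ n ih =>
    refine Eq.trans (MonObj.comp_mul (M := G) (x : X ⟶ Red.Ga S ⊗ RedSub.pow (Red.Ga S) n) _ _) ?_
    conv_rhs => rw [wordPt, List.ofFn_succ, List.prod_cons]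
    refine congrArg₂ (· * ·) ((Category.assoc _ _ _).symm.trans (pt_comp_eq (D := D) (e 0) _)) ?_
    exact (Category.assoc _ _ _).symm.trans (ih (fun k => e k.succ) (x ≫ snd (Red.Ga S) _))

theorem rootProd_ofFn {n : ℕ} (e : Fin n → D.idx) (z : D.idx → Γ(X.left, ⊤)) :
    rootProd D X (List.ofFn e) z = wordPt D X e fun k => z (e k) := by
  rw [rootProd, wordPt, List.map_ofFn]
  rfl

variable {D} {lam : Module.Dual ℤ D.M}

theorem IsPosClosed.perm {l l' : List D.idx} (hl : IsPosClosed D lam l) (hd : l'.Nodup) (hm : ∀ c, c ∈ l' ↔ c ∈ l) :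
    IsPosClosed D lam l' where
  nodup := hd
  pos c hc := hl.pos c ((hm c).mp hc)
  closed := by simpa only [hm] using hl.closed

theorem IsPosClosed.of_enumerates {Ψ : Set D.idx} (hΨ : IsClosedSet D.P Ψ) (hpos : ∀ a ∈ Ψ, 0 < lam (D.P.root a))
    {m : ℕ} {e : Fin m → D.idx} (he : RedSub.Enumerates Ψ e) : IsPosClosed D lam (List.ofFn e) := by
  have hm : ∀ c, c ∈ List.ofFn e ↔ c ∈ Ψ := fun c => by rw [List.mem_ofFn, ← he.2, Set.mem_range]
  exact ⟨List.nodup_ofFn.mpr he.1, fun c hc => hpos c ((hm c).mp hc), by simpa only [hm, Set.setOf_mem_eq] using hΨ⟩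

section Param

variable {m : ℕ} {e : Fin m → D.idx} (hl : IsPosClosed D lam (List.ofFn e))
include hl

theorem IsPosClosed.mono_prodMap : Mono (RedSub.prodMap (Red.Ga S) m (fun k => D.u (e k))) := by
  classical
  constructor
  intro X x y h
  have he : Function.Injective e := List.nodup_ofFn.mp hl.nodup
  rw [comp_prodMap, comp_prodMap] at h
  let z : (Fin m → Γ(X.left, ⊤)) → D.idx → Γ(X.left, ⊤) := fun v => Function.extend e v 0
  have hz : ∀ v k, z v (e k) = v k := fun v k => he.extend_apply v 0 k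
  have h' := inj_global D lam _ hl.nodup hl.pos X (z (coord x)) (z (coord y)) (by
    rw [rootProd_ofFn, rootProd_ofFn]
    simpa only [hz] using h)
  exact coord_injective (funext fun k => by simpa only [hz] using h' (e k) (List.mem_ofFn.mpr ⟨k, rfl⟩))

theorem IsPosClosed.exists_lift {g : X ⟶ G} (hg : InProd D X (List.ofFn e) g) :
    ∃ x : X ⟶ RedSub.pow (Red.Ga S) m, x ≫ RedSub.prodMap (Red.Ga S) m (fun k => D.u (e k)) = g := by
  obtain ⟨z, rfl⟩ := hg
  exact ⟨ofCoord fun k => z (e k), by rw [comp_prodMap, coord_ofCoord, rootProd_ofFn]⟩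

theorem IsPosClosed.prodMap_inProd (x : X ⟶ RedSub.pow (Red.Ga S) m) :
    InProd D X (List.ofFn e) (x ≫ RedSub.prodMap (Red.Ga S) m (fun k => D.u (e k))) := by
  rw [comp_prodMap]
  exact hl.wordPt_inProd e (fun k => List.mem_ofFn.mpr ⟨k, rfl⟩) _

/-- The products form a group object. -/
theorem IsPosClosed.exists_grpObj :
    ∃ str : GrpObj (RedSub.pow (Red.Ga S) m),
      @IsMonHom _ _ _ _ G str.toMonObj _ (RedSub.prodMap (Red.Ga S) m (fun k => D.u (e k))) := by
  haveI := hl.mono_prodMap
  set a := RedSub.prodMap (Red.Ga S) m (fun k => D.u (e k)) with ha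
  have h : ∀ {Y : Over S} (y : Y ⟶ RedSub.pow (Red.Ga S) m), InProd D Y (List.ofFn e) (y ≫ a) :=
    fun y => hl.prodMap_inProd y
  obtain ⟨η', he⟩ := hl.exists_lift (hl.one (X := 𝟙_ (Over S)))
  obtain ⟨μ', hm⟩ := hl.exists_lift (hl.mul (h (fst (RedSub.pow (Red.Ga S) m) (RedSub.pow (Red.Ga S) m)))
    (h (snd (RedSub.pow (Red.Ga S) m) (RedSub.pow (Red.Ga S) m))))
  obtain ⟨v, hv⟩ := hl.exists_lift (hl.inv (h (𝟙 (RedSub.pow (Red.Ga S) m))))
  exact GrpSchLib.exists_grpObj_of_mono a η' (he.trans (MonObj.one_eq_one (M := G)).symm) μ' hm v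
    (by rw [hv, Category.id_comp])

variable {R : Type u} [CommRing R] (f : Spec (CommRingCat.of R) ⟶ S)

theorem IsPosClosed.cl_chart [IsOpenImmersion f] : TorusClosed.Cl (RedSub.prodMap (Red.Ga S) m (fun k => D.u (e k))) f := by
  classical
  have : IsAffineHom G.hom := D.reductive.1
  obtain ⟨A, _, _, ⟨Md⟩⟩ := exists_model f G
  set F := Md.frame D
  obtain ⟨r, hd, hpos, hfull⟩ := exists_full D lam (List.ofFn e) hl.nodup hl.pos
  set L := List.ofFn e ++ r with hLdef
  have he : ∀ j, 0 < lam.toAddMonoidHom (F.root (L.get j)) := fun j => hpos _ (List.get_mem L j)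
  have hinj : Function.Injective e := List.nodup_ofFn.mp hl.nodup
  have hbij := F.bijective_uLift_prodPt lam.toAddMonoidHom L.get he (List.nodup_iff_injective_get.mp hd)
    (fun i hi => List.mem_iff_get.mp (hfull i hi))
  have hsurjL : Function.Surjective (F.prodPt L.get (MvPolynomial.X (R := R))).ofConv :=
    hbij.2.comp Ideal.Quotient.mk_surjective
  -- forget the coordinates outside the set
  let v : D.idx → MvPolynomial (Fin m) R := Function.extend e MvPolynomial.X 0
  let σ : MvPolynomial (Fin L.length) R →ₐ[R] MvPolynomial (Fin m) R := MvPolynomial.aeval fun j => v (L.get j)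
  have hσ : mapPt σ (F.prodPt L.get MvPolynomial.X) = F.prodPt e MvPolynomial.X := by
    rw [F.mapPt_prodPt]
    have hgen : ∀ k : Fin m, v (e k) = MvPolynomial.X k := fun k => hinj.extend_apply _ _ k
    have h1 : σ ∘ MvPolynomial.X = fun j => v (L.get j) := funext fun j => MvPolynomial.aeval_X _ _
    rw [h1, Frame.prodPt, Frame.prodPt]
    have h2 : (List.ofFn fun j : Fin L.length => F.rt (L.get j) (v (L.get j))) = L.map fun c => F.rt c (v c) :=
      List.ext_getElem (by simp) fun i h₁ h₂ => by simp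
    rw [h2, hLdef, List.map_append, List.prod_append, List.map_ofFn, List.prod_eq_one (l := r.map _) fun w hw => ?_,
      _root_.mul_one]
    · congr 1
      exact List.ofFn_inj.mpr (funext fun k => by simp only [Function.comp_apply, hgen])
    · obtain ⟨c, hc, rfl⟩ := List.mem_map.mp hw
      have hc' : ¬ ∃ k, e k = c := fun ⟨k, hk⟩ =>
        (List.nodup_append.mp hd).2.2 c (List.mem_ofFn.mpr ⟨k, hk⟩) c hc rfl
      rw [show v c = 0 from Function.extend_apply' _ _ _ hc']
      exact F.rt_zero c
  have hsurjσ : Function.Surjective σ := by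
    rw [← AlgHom.range_eq_top, eq_top_iff, ← MvPolynomial.adjoin_range_X]
    refine Algebra.adjoin_le ?_
    rintro _ ⟨k, rfl⟩
    obtain ⟨j, hj⟩ := List.mem_iff_get.mp (List.mem_append_left r (List.mem_ofFn.mpr ⟨k, rfl⟩) : e k ∈ L)
    exact ⟨MvPolynomial.X j, by
      show σ (MvPolynomial.X j) = MvPolynomial.X k
      rw [MvPolynomial.aeval_X, hj]
      exact hinj.extend_apply _ _ k⟩
  have hsurj : Function.Surjective (F.prodPt e (MvPolynomial.X (R := R))).ofConv := by
    rw [← hσ]
    exact hsurjσ.comp hsurjL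
  -- the base change is this comorphism
  have : IsAffineHom (pullback.snd (RedSub.pow (Red.Ga S) m).hom f) :=
    MorphismProperty.pullback_snd _ _ (isAffineHom_pow m)
  have : IsAffine (Red.bc f (RedSub.pow (Red.Ga S) m)).left := isAffine_of_isAffineHom (pullback.snd _ f)
  obtain ⟨c, hc, hciso⟩ := isIso_of_points (X := RedSub.pow (Red.Ga S) m) f (C := MvPolynomial (Fin m) R)
    (powPt f MvPolynomial.X) fun B _ _ => by
      have e1 : (fun φ : MvPolynomial (Fin m) R →ₐ[R] B => tMap f φ ≫ powPt f MvPolynomial.X) =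
          powPt f ∘ fun φ k => φ (MvPolynomial.X k) := funext fun φ => powPt_map φ _
      rw [e1]
      exact (powPt_bijective m).comp ⟨fun φ ψ h => MvPolynomial.algHom_ext (congrFun h),
        fun x => ⟨MvPolynomial.aeval x, funext fun k => MvPolynomial.aeval_X x k⟩⟩
  have key : c ≫ (Over.pullback f).map (RedSub.prodMap (Red.Ga S) m (fun k => D.u (e k))) =
      spMap (F.prodPt e (MvPolynomial.X (R := R))).ofConv ≫ Md.hom := by
    refine (theta_bijective f).1 ?_
    rw [BigCell29.theta_map, hc]
    exact Md.powPt_prodMap D e MvPolynomial.X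
  haveI := hciso
  haveI : IsIso c.left := inferInstanceAs (IsIso ((Over.forget _).map c))
  haveI : IsClosedImmersion (spMap (F.prodPt e (MvPolynomial.X (R := R))).ofConv).left :=
    IsClosedImmersion.spec_of_surjective (CommRingCat.ofHom (F.prodPt e (MvPolynomial.X (R := R))).ofConv.toRingHom) hsurj
  have h2 := congrArg (fun k => k.left) key
  simp only [Over.comp_left] at h2
  have h3 : IsClosedImmersion
      (c.left ≫ ((Over.pullback f).map (RedSub.prodMap (Red.Ga S) m (fun k => D.u (e k)))).left) := by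
    erw [h2]
    exact MorphismProperty.comp_mem @IsClosedImmersion _ _ inferInstance
      (inferInstanceAs (IsClosedImmersion Md.hom.left))
  exact (MorphismProperty.cancel_left_of_respectsIso @IsClosedImmersion c.left _).mp h3

theorem IsPosClosed.isClosedImmersion_prodMap :
    IsClosedImmersion (RedSub.prodMap (Red.Ga S) m (fun k => D.u (e k))).left := by
  set a := RedSub.prodMap (Red.Ga S) m (fun k => D.u (e k))
  have key : TorusClosed.Cl a (𝟙 S) := TorusClosed.cl_of_cover a _ S.affineCover fun i => by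
    rw [Category.comp_id]
    exact @IsPosClosed.cl_chart _ _ _ _ _ _ _ hl _ _ (S.affineCover.f i) (S.affineCover.map_prop i)
  have sq := HomSplitLocal.isPullback_map a (𝟙 S)
  have h : IsClosedImmersion (((Over.pullback (𝟙 S)).map a).left ≫ pullback.fst G.hom (𝟙 S)) :=
    (MorphismProperty.cancel_right_of_respectsIso @IsClosedImmersion _ _).mpr key
  rw [← sq.w] at h
  exact (MorphismProperty.cancel_left_of_respectsIso @IsClosedImmersion _ _).mp h

end Param

theorem smooth_pow (n : ℕ) : Smooth (RedSub.pow (Red.Ga S) n).hom := by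
  induction n with
  | zero => exact inferInstanceAs (Smooth (𝟙 S))
  | succ n ih =>
    haveI := RankOne.smooth_ga S
    haveI := ih
    show Smooth (Red.Ga S ⊗ RedSub.pow (Red.Ga S) n).hom
    rw [Over.tensorObj_hom]
    infer_instance

theorem connected_bc_pow {K : Type u} [Field K] (f : Spec (CommRingCat.of K) ⟶ S) (n : ℕ) :
    ConnectedSpace (Red.bc f (RedSub.pow (Red.Ga S) n)).left := by
  have : IsAffineHom (pullback.snd (RedSub.pow (Red.Ga S) n).hom f) :=
    MorphismProperty.pullback_snd _ _ (isAffineHom_pow n)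
  have : IsAffine (Red.bc f (RedSub.pow (Red.Ga S) n)).left := isAffine_of_isAffineHom (pullback.snd _ f)
  obtain ⟨c, -, hc⟩ := isIso_of_points (X := RedSub.pow (Red.Ga S) n) f
    (C := MvPolynomial (Fin n) K) (powPt f MvPolynomial.X) fun B _ _ => by
      have e1 : (fun φ : MvPolynomial (Fin n) K →ₐ[K] B =>
          tMap f φ ≫ powPt f MvPolynomial.X) = powPt f ∘ fun φ k => φ (MvPolynomial.X k) :=
        funext fun φ => powPt_map φ _
      rw [e1]
      exact (powPt_bijective n).comp ⟨fun φ ψ h => MvPolynomial.algHom_ext (congrFun h),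
        fun x => ⟨MvPolynomial.aeval x, funext fun k => MvPolynomial.aeval_X x k⟩⟩
  haveI := hc
  haveI : IsIso c.left := inferInstanceAs (IsIso ((Over.forget _).map c))
  haveI : IrreducibleSpace ↥(Spec (CommRingCat.of (MvPolynomial (Fin n) K))) :=
    inferInstanceAs (IrreducibleSpace (PrimeSpectrum (MvPolynomial (Fin n) K)))
  haveI : ConnectedSpace ↥(Spec (CommRingCat.of (MvPolynomial (Fin n) K))) := inferInstance
  haveI : ConnectedSpace ↥(sp K (MvPolynomial (Fin n) K)).left :=
    inferInstanceAs (ConnectedSpace ↥(Spec (CommRingCat.of (MvPolynomial (Fin n) K))))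
  exact (asIso c.left).hom.homeomorph.surjective.connectedSpace (asIso c.left).hom.homeomorph.continuous

theorem connected_geomFibre_pow (n : ℕ) (s : S) : ConnectedSpace (Red.geomFibre s (RedSub.pow (Red.Ga S) n)).left :=
  connected_bc_pow (Red.geomPt s) n

end Groth.Agent.RedSub30.RootPoly
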