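import Groth.Agent.RedSub30.CellHom

/-!
# The reduced big cell `U⁻ T' U` as the kernel on the big cell
-/

set_option autoImplicit false

universe u

open CategoryTheory CategoryTheory.Limits AlgebraicGeometry MonoidalCategory CartesianMonoidalCategory
open scoped MonObj

noncomputable section

namespace Groth.Agent.RedSub30.CellChar

open GrpSchLib Rank2Red38 RedSub30.RootPoly BigCell29

variable {S : Scheme.{u}} {G : Over S} [GrpObj G] (D : Red.SplitRed G) (b : D.P.Base) {n m : ℕ}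
  (eneg : Fin n → D.idx) (epos : Fin m → D.idx)
  {H : Over S} [GrpObj H]

theorem prodMap_comp (φ : G ⟶ H) [IsMonHom φ] (hU : ∀ c : D.idx, D.u c ≫ φ = 1) :
    ∀ {k : ℕ} (e : Fin k → D.idx), RedSub.prodMap (Red.Ga S) k (fun j => D.u (e j)) ≫ φ = 1
  | 0, e => MonObj.one_comp φ
  | k + 1, e => by
    show ((fst _ _ ≫ D.u (e 0)) * (snd _ _ ≫ RedSub.prodMap (Red.Ga S) k fun j => D.u (e j.succ)) :
        Red.Ga S ⊗ RedSub.pow (Red.Ga S) k ⟶ G) ≫ φ = 1
    rw [MonObj.mul_comp, Category.assoc, hU, Category.assoc, prodMap_comp φ hU (fun j => e j.succ), MonObj.comp_one,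
      MonObj.comp_one]
    exact one_mul _

theorem ds_comm {M : Type} [AddCommGroup M] {X : Over S} (u v : X ⟶ Red.DS S M) : u * v = v * u :=
  ds_ext fun x => by
    haveI : IsMonHom (Red.chi S x) := S5427.isMonHom_DSmap S _
    rw [dsVal_mul, dsVal_mul, mul_comm]

/-- A point landing in the image of an open immersion lifts. -/
theorem exists_lift_of_range {Y X Z : Over S} (c : Y ⟶ Z) [IsOpenImmersion c.left] (g : X ⟶ Z)
    (h : Set.range g.left.base ⊆ Set.range c.left.base) : ∃ y : X ⟶ Y, y ≫ c = g :=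
  ⟨Over.homMk (IsOpenImmersion.lift c.left g.left h) (by rw [← Over.w c, IsOpenImmersion.lift_fac_assoc, Over.w]),
    Over.OverMorphism.ext (IsOpenImmersion.lift_fac _ _ _)⟩

theorem cellMap_comp (φ : G ⟶ H) [IsMonHom φ] (hU : ∀ c : D.idx, D.u c ≫ φ = 1) :
    RedSub.cellMap D eneg epos ≫ φ = snd _ _ ≫ fst _ _ ≫ D.i ≫ φ := by
  simp only [RedSub.cellMap, MonObj.mul_comp, Category.assoc, prodMap_comp D φ hU, MonObj.comp_one, one_mul, mul_one]

/-- The product map of the reduced cell. -/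
def primeMap (N : AddSubgroup D.M) :
    RedSub.pow (Red.Ga S) n ⊗ (Red.DS S (D.M ⧸ N) ⊗ RedSub.pow (Red.Ga S) m) ⟶ G :=
  (fst _ _ ≫ RedSub.prodMap (Red.Ga S) n (fun k => D.u (eneg k))) *
    ((snd _ _ ≫ fst _ _ ≫ Red.DSmap S (QuotientAddGroup.mk' N) ≫ D.split.inv.hom.hom ≫ D.i) *
      (snd _ _ ≫ snd _ _ ≫ RedSub.prodMap (Red.Ga S) m (fun k => D.u (epos k))))

variable {D b eneg epos} {N : AddSubgroup D.M} {φ : G ⟶ Red.DS S ↥N} [IsMonHom φ]
  (hT : D.i ≫ φ = D.split.hom.hom.hom ≫ Red.DSmap S N.subtype) (hU : ∀ c : D.idx, D.u c ≫ φ = 1)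

include hT hU in
theorem primeMap_comp : primeMap D eneg epos N ≫ φ = 1 := by
  have e : D.split.inv.hom.hom ≫ D.split.hom.hom.hom = 𝟙 _ := congrArg (fun k => k.hom.hom) D.split.inv_hom_id
  have e2 : Red.DSmap S (QuotientAddGroup.mk' N) ≫ D.split.inv.hom.hom ≫ D.i ≫ φ = 1 := by
    rw [hT, ← Category.assoc D.split.inv.hom.hom, e, Category.id_comp]
    exact HTop83.DSmap_comp_eq_one _ _ fun x => (QuotientAddGroup.eq_zero_iff _).mpr x.2
  simp only [primeMap, MonObj.mul_comp, Category.assoc, prodMap_comp D φ hU, e2, MonObj.comp_one, one_mul]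

include hT hU in
/-- A cell point killed by the homomorphism lies in the reduced cell. -/
theorem exists_primePt {X : Over S} (y : X ⟶ cellObj D n m) (hy : y ≫ RedSub.cellMap D eneg epos ≫ φ = 1) :
    ∃ g : X ⟶ RedSub.pow (Red.Ga S) n ⊗ (Red.DS S (D.M ⧸ N) ⊗ RedSub.pow (Red.Ga S) m),
      y ≫ RedSub.cellMap D eneg epos = g ≫ primeMap D eneg epos N := by
  rw [cellMap_comp D eneg epos φ hU, hT] at hy
  obtain ⟨k, hk, -⟩ := HTop83.existsUnique_of_exact N.subtype (QuotientAddGroup.mk' N)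
    (QuotientAddGroup.mk'_surjective N) (fun x hx => ⟨⟨x, (QuotientAddGroup.eq_zero_iff x).mp hx⟩, rfl⟩)
    (y ≫ snd _ _ ≫ fst _ _ ≫ D.split.hom.hom.hom) (by simpa only [Category.assoc] using hy)
  have e : D.split.hom.hom.hom ≫ D.split.inv.hom.hom = 𝟙 _ := congrArg (fun k => k.hom.hom) D.split.hom_inv_id
  refine ⟨lift (y ≫ fst _ _) (lift k (y ≫ snd _ _ ≫ snd _ _)), ?_⟩
  simp only [RedSub.cellMap, primeMap, MonObj.comp_mul, lift_fst_assoc, lift_snd_assoc, Category.assoc]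
  rw [← Category.assoc k, hk]
  simp only [Category.assoc]
  rw [← Category.assoc D.split.hom.hom.hom, e, Category.id_comp]

end Groth.Agent.RedSub30.CellChar
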