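import Groth.Agent.RedSub30.TypeRLift
import Mathlib.Data.Fin.Tuple.Basic
import Mathlib.Data.List.OfFn

/-!
# Coordinates of the points of a smooth subgroup containing the torus in the big cell
-/

set_option autoImplicit false
set_option synthInstance.maxHeartbeats 100000

universe u

open TensorProduct WithConv Finsupp
open scoped AddMonoidAlgebra

namespace Groth.Agent.RedSub30

open BigCell29

variable {R : Type u} [CommRing R] {A : Type u} [CommRing A] [HopfAlgebra R A] {M ι : Type} [AddCommGroup M]
  {B C : Type u} [CommRing B] [Algebra R B] [CommRing C] [Algebra R C]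
  (F : Frame R A M ι) {W : SmSub R A}

theorem prodPt_append {k l : ℕ} (e : Fin k → ι) (e' : Fin l → ι) (x : Fin k → B) (x' : Fin l → B) :
    F.prodPt (Fin.append e e') (Fin.append x x') = F.prodPt e x * F.prodPt e' x' := by
  rw [Frame.prodPt, Frame.prodPt, Frame.prodPt, ← List.prod_append, ← List.ofFn_fin_append]
  congr 2
  funext j
  induction j using Fin.addCases <;> simp

theorem prodPt_zero {k : ℕ} (e : Fin k → ι) : F.prodPt e (0 : Fin k → B) = 1 :=
  List.prod_eq_one fun g hg => by
    obtain ⟨j, rfl⟩ := List.mem_ofFn.mp hg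
    exact F.rt_zero _

theorem prodPt_succ {k : ℕ} (e : Fin (k + 1) → ι) (x : Fin (k + 1) → B) :
    F.prodPt e x = F.rt (e 0) (x 0) * F.prodPt (fun j => e j.succ) fun j => x j.succ := by
  simp [Frame.prodPt, List.ofFn_succ]

theorem prodPt_mem {k : ℕ} {e : Fin k → ι} (h : ∀ j, Full F W (e j)) (x : Fin k → B) : F.prodPt e x ∈ W.mem B :=
  Subgroup.list_prod_mem _ fun g hg => by
    obtain ⟨j, rfl⟩ := List.mem_ofFn.mp hg
    exact h j B _

theorem conj_prodPt {k : ℕ} (e : Fin k → ι) (χ : Multiplicative M →* B) (x : Fin k → B) :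
    F.T.tor χ * F.prodPt e x * (F.T.tor χ)⁻¹ =
      F.prodPt e fun j => χ (Multiplicative.ofAdd (F.root (e j))) * x j := by
  rw [← MulAut.conj_apply, Frame.prodPt, map_list_prod, List.map_ofFn, Frame.prodPt]
  congr 1
  refine List.ofFn_inj.mpr (funext fun j => ?_)
  simp [F.conj_rt]

/-- The tangent vector of a root point. -/
theorem tanOf_rt (i : ι) {x : B} (hx : x * x = 0) (a : A) :
    tanOf (F.rt i x) a = algebraMap R B (F.du i a) * x := by
  have h0 : (F.φ i a).coeff 0 = Coalgebra.counit (R := R) a := by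
    have := DFunLike.congr_fun (congrArg WithConv.ofConv (F.rt_zero i (B := R))) a
    simpa [PreFrame.rt, linePt_apply, Polynomial.coe_aeval_eq_eval, Polynomial.coeff_zero_eq_eval_zero] using this
  rw [tanOf_apply, PreFrame.rt, linePt_apply,
    Polynomial.aeval_eq_sum_range' (n := max 2 ((F.φ i a).natDegree + 1)) (by omega),
    ← Finset.sum_subset (s₁ := Finset.range 2) (Finset.range_mono (le_max_left _ _)) fun n _ hn => ?_]
  · simp [Finset.sum_range_succ, h0, Algebra.smul_def, F.du_apply]
  · obtain ⟨n, rfl⟩ : ∃ m, n = m + 1 + 1 := ⟨n - 2, by simp at hn; omega⟩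
    rw [pow_succ, pow_succ, mul_assoc, hx, mul_zero, smul_zero]

/-- The tangent vector of a product of infinitesimal root points. -/
theorem tanOf_prodPt {φ : B →ₐ[R] C} (h : SqZero φ) {k : ℕ} (e : Fin k → ι) (x : Fin k → B)
    (hx : ∀ j, φ (x j) = 0) (a : A) :
    tanOf (F.prodPt e x) a = ∑ j, algebraMap R B (F.du (e j) a) * x j := by
  induction k with
  | zero => simp [Frame.prodPt]
  | succ k ih =>
    have h1 : mapPt φ (F.rt (e 0) (x 0)) = 1 := by rw [F.mapPt_rt, hx, F.rt_zero]
    have h2 : mapPt φ (F.prodPt (fun j : Fin k => e j.succ) fun j => x j.succ) = 1 := by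
      rw [F.mapPt_prodPt]
      convert prodPt_zero F _ using 2
      exact funext fun j => hx j.succ
    rw [prodPt_succ, tanOf_mul h h1 h2, LinearMap.add_apply, tanOf_rt F _ (h _ _ (hx 0) (hx 0)),
      ih _ _ fun j => hx j.succ, Fin.sum_univ_succ]

/-- An infinitesimal product of root points lies in the subgroup only if its coordinates along root groups without
tangent vectors in the subgroup vanish. -/
theorem eq_zero_of_tangent (hs : TStable F W) {φ : B →ₐ[R] C} (h : SqZero φ) {k : ℕ} {e : Fin k → ι}
    (hinj : Function.Injective e) (hno : ∀ j, NoTan F W (e j)) {x : Fin k → B} (hx : ∀ j, φ (x j) = 0)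
    (hmem : F.prodPt e x ∈ W.mem B) (j : Fin k) : x j = 0 := by
  classical
  refine hno j B (x j) (h _ _ (hx j) (hx j)) ?_
  refine W.of_ann φ h _ (by rw [F.mapPt_rt, hx, F.rt_zero]) fun a ha => ?_
  have e1 : tanOf (F.rt (e j) (x j)) a = tanOf (F.prodPt e x) (F.T.coact.p (F.root (e j)) a) := by
    rw [tanOf_rt F _ (h _ _ (hx j) (hx j)), tanOf_prodPt F h e x hx, Finset.sum_eq_single j]
    · rw [F.du_p_self]
    · intro l _ hl
      rw [F.du_p_ne fun hh => hl (hinj (F.root_inj hh)), map_zero, zero_mul]
    · simp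
  rw [W.tanOf_ann hmem (hs.ann_p ha _)] at e1
  have h0 := W.eps_ann (B := B) ha
  rw [eps_apply] at h0
  rw [tanOf_apply, h0, sub_zero] at e1
  exact e1

/-- A product of attracted root points lies in the subgroup only if its coordinates along root groups without tangent
vectors in the subgroup vanish. -/
theorem eq_zero_of_inU (hs : TStable F W) {lam : M →+ ℤ} {k : ℕ} {e : Fin k → ι}
    (hpos : ∀ j, 0 < lam (F.root (e j))) (hinj : Function.Injective e) (hno : ∀ j, NoTan F W (e j)) {y : Fin k → B}
    (hmem : F.prodPt e y ∈ W.mem B) (j : Fin k) : y j = 0 := by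
  classical
  let w : Fin k → ℕ := fun j => (lam (F.root (e j))).toNat
  have hw : ∀ j, (w j : ℤ) = lam (F.root (e j)) := fun j => Int.toNat_of_nonneg (hpos j).le
  let z : Fin k → nonneg R B := fun j => ⟨AddMonoidAlgebra.single (w j : ℤ) (y j), fun n hn => by
    rw [AddMonoidAlgebra.coeff_single, Finsupp.single_apply, if_neg (by omega)]⟩
  have hz : F.prodPt e z ∈ W.mem (nonneg R B) := by
    refine W.mem_nonneg _ ?_ ?_
    · rw [F.mapPt_prodPt]
      convert prodPt_zero F e using 2
      funext j
      show (AddMonoidAlgebra.single (w j : ℤ) (y j) : B[ℤ]).coeff 0 = 0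
      rw [AddMonoidAlgebra.coeff_single, Finsupp.single_apply, if_neg (by have := hpos j; have := hw j; omega)]
    · have e1 : mapPt (nonneg R B).val (F.prodPt e z) = (F.cochar lam).act (F.prodPt e y) := by
        rw [F.mapPt_prodPt, Frame.prodPt, Frame.prodPt, map_list_prod, List.map_ofFn]
        congr 1
        refine List.ofFn_inj.mpr (funext fun j => ?_)
        simp [z, hw, Coact.act_push, F.act_rt, F.mapPt_rt]
      rw [e1]
      exact hs.push lam B _ hmem
  suffices h : ∀ n j, w j = n → y j = 0 from h _ j rfl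
  intro n
  induction n using Nat.strong_induction_on with
  | _ n ih =>
    intro j hj
    have hn : 0 < n := by have := hpos j; have := hw j; omega
    let s : nonneg R B := ⟨AddMonoidAlgebra.single 1 1, fun m hm => by
      rw [AddMonoidAlgebra.coeff_single, Finsupp.single_apply, if_neg (by omega)]⟩
    let J : Ideal (nonneg R B) := Ideal.span {s ^ (n + 1)}
    letI : CommRing (nonneg R B ⧸ J) := Ideal.Quotient.commRing J
    let K : Ideal (nonneg R B ⧸ J) := Ideal.span {Ideal.Quotient.mk J (s ^ n)}
    haveI : K.IsTwoSided := inferInstance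
    letI : CommRing ((nonneg R B ⧸ J) ⧸ K) := Ideal.Quotient.commRing K
    let π : (nonneg R B ⧸ J) →ₐ[R] (nonneg R B ⧸ J) ⧸ K := Ideal.Quotient.mkₐ R K
    have hπ : SqZero (R := R) (B := nonneg R B ⧸ J) (C := (nonneg R B ⧸ J) ⧸ K) π := by
      intro u v hu hv
      obtain ⟨u', rfl⟩ := Ideal.mem_span_singleton.mp (Ideal.Quotient.eq_zero_iff_mem.mp hu)
      obtain ⟨v', rfl⟩ := Ideal.mem_span_singleton.mp (Ideal.Quotient.eq_zero_iff_mem.mp hv)
      rw [mul_mul_mul_comm, ← map_mul, ← pow_add,
        Ideal.Quotient.eq_zero_iff_mem.mpr (Ideal.mem_span_singleton.mpr (pow_dvd_pow s (by omega : n + 1 ≤ n + n))),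
        zero_mul]
    have hzmul : ∀ (l : Fin k) (m : ℕ), m ≤ w l →
        z l = s ^ m * ⟨AddMonoidAlgebra.single ((w l - m : ℕ) : ℤ) (y l), fun q hq => by
          rw [AddMonoidAlgebra.coeff_single, Finsupp.single_apply, if_neg (by omega)]⟩ := fun l m hm => by
      refine Subtype.ext ?_
      show AddMonoidAlgebra.single (w l : ℤ) (y l) =
        ((s ^ m : nonneg R B) : B[ℤ]) * AddMonoidAlgebra.single ((w l - m : ℕ) : ℤ) (y l)
      rw [SubmonoidClass.coe_pow, AddMonoidAlgebra.single_pow, AddMonoidAlgebra.single_mul_single, one_pow, one_mul]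
      congr 1
      simp; omega
    have hker : ∀ l, π (Ideal.Quotient.mk J (z l)) = 0 := fun l => by
      refine Ideal.Quotient.eq_zero_iff_mem.mpr ?_
      rcases lt_or_ge (w l) n with hl | hl
      · have : z l = 0 := Subtype.ext (by
          show AddMonoidAlgebra.single (w l : ℤ) (y l) = 0
          rw [ih _ hl l rfl, AddMonoidAlgebra.single_zero])
        rw [this, map_zero]; exact zero_mem _
      · rw [hzmul l n hl, map_mul]
        exact Ideal.mul_mem_right _ _ (Ideal.mem_span_singleton_self _)
    have hm2 : F.prodPt e (fun l => Ideal.Quotient.mk J (z l)) ∈ W.mem (nonneg R B ⧸ J) := by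
      have := W.map_mem (Ideal.Quotient.mkₐ R J) hz
      rwa [F.mapPt_prodPt] at this
    have h1 := eq_zero_of_tangent F hs hπ hinj hno hker hm2 j
    obtain ⟨q, hq⟩ := Ideal.mem_span_singleton.mp (Ideal.Quotient.eq_zero_iff_mem.mp h1)
    have h2 := congrArg (fun x : nonneg R B => (x : B[ℤ]).coeff (n : ℤ)) hq
    simp only [MulMemClass.coe_mul, SubmonoidClass.coe_pow] at h2
    rw [show ((s : B[ℤ])) = AddMonoidAlgebra.single 1 1 from rfl, AddMonoidAlgebra.single_pow, one_pow,
      AddMonoidAlgebra.coeff_mul_apply_left, show (z j : B[ℤ]) = AddMonoidAlgebra.single (w j : ℤ) (y j) from rfl]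
      at h2
    simp only [AddMonoidAlgebra.coeff_single, hj] at h2
    rw [Finsupp.single_eq_same, Finsupp.sum_single_index (by simp), one_mul, q.2 _ (by simp)] at h2
    exact h2

/-- The positive roots split into those whose root groups lie in the subgroup and those without tangent vectors in
it. -/
structure RootSplit (W : SmSub R A) (lam : M →+ ℤ) {m m' : ℕ} (e : Fin m → ι) (e' : Fin m' → ι) : Prop where
  pos : ∀ j, 0 < lam (F.root (e j))
  pos' : ∀ j, 0 < lam (F.root (e' j))
  inj : Function.Injective (Fin.append e e')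
  range : ∀ i, 0 < lam (F.root i) → i ∈ Set.range e ∪ Set.range e'
  full : ∀ j, Full F W (e j)
  none : ∀ j, NoTan F W (e' j)

variable {F} {lam : M →+ ℤ} {m m' : ℕ} {e : Fin m → ι} {e' : Fin m' → ι} (h : RootSplit F W lam e e')
include h

theorem RootSplit.append_pos (j : Fin (m + m')) : 0 < lam (F.root (Fin.append e e' j)) := by
  induction j using Fin.addCases <;> simp [h.pos, h.pos']

theorem RootSplit.append_range (i : ι) (hi : 0 < lam (F.root i)) : i ∈ Set.range (Fin.append e e') := by
  rcases h.range i hi with ⟨j, rfl⟩ | ⟨j, rfl⟩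
  · exact ⟨Fin.castAdd m' j, by simp⟩
  · exact ⟨Fin.natAdd m j, by simp⟩

theorem RootSplit.inj_left : Function.Injective e := fun a b hab =>
  Fin.castAdd_injective m m' (h.inj (by simpa using hab))

theorem RootSplit.inj_right : Function.Injective e' := fun a b hab =>
  Fin.natAdd_injective m' m (h.inj (by simpa using hab))

theorem RootSplit.prodPt_injective : Function.Injective (F.prodPt e : (Fin m → B) → Pt R A B) := fun x y hxy => by
  have h1 := prodPt_append F e e' x (0 : Fin m' → B)
  have h2 := prodPt_append F e e' y (0 : Fin m' → B)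
  rw [hxy] at h1
  have h3 := (F.exists_coords h.append_pos h.inj h.append_range
    (F.prodPt_inU lam _ h.append_pos (Fin.append y (0 : Fin m' → B)))).unique (h1.trans h2.symm) rfl
  exact funext fun j => by simpa using congrFun h3 (Fin.castAdd m' j)

/-- The attracted points of the subgroup are the products of its root points, in any order. -/
theorem RootSplit.exists_coords (hs : TStable F W) {g : Pt R A B} (hg : g ∈ W.mem B) (hU : (F.cochar lam).InU g) :
    ∃ x : Fin m → B, F.prodPt e x = g := by
  obtain ⟨z, hz, -⟩ := F.exists_coords h.append_pos h.inj h.append_range hU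
  refine ⟨fun j => z (Fin.castAdd m' j), ?_⟩
  have e1 : z = Fin.append (fun j => z (Fin.castAdd m' j)) fun j => z (Fin.natAdd m j) :=
    (Fin.append_castAdd_natAdd (f := z)).symm
  rw [e1, prodPt_append] at hz
  have hmem : F.prodPt e' (fun j => z (Fin.natAdd m j)) ∈ W.mem B := by
    have := mul_mem (inv_mem (prodPt_mem F h.full fun j => z (Fin.castAdd m' j))) hg
    rwa [← hz, inv_mul_cancel_left] at this
  have h0 := eq_zero_of_inU F hs h.pos' h.inj_right h.none hmem
  rw [show (fun j => z (Fin.natAdd m j)) = 0 from funext h0, prodPt_zero, mul_one] at hz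
  exact hz

omit h

/-- A point of the subgroup close to the cell of its root groups lies in that cell. -/
theorem exists_subCell_lift [Fintype ι] [Module.Free ℤ M] [Module.Finite ℤ M] [Algebra.FormallySmooth R A]
    (hs : TStable F W) (htor : ∀ (B : Type u) [CommRing B] [Algebra R B] (χ : Multiplicative M →* B),
      F.T.tor χ ∈ W.mem B)
    {n n' p p' : ℕ} {en : Fin n → ι} {en' : Fin n' → ι} {ep : Fin p → ι} {ep' : Fin p' → ι}
    (hn : RootSplit F W (-lam) en en') (hp : RootSplit F W lam ep ep') (hreg : ∀ i, lam (F.root i) ≠ 0)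
    {φ : B →ₐ[R] C} (hsq : SqZero φ) (hφ : Function.Surjective φ) {g : Pt R A B} (hg : g ∈ W.mem B)
    (y : Fin n → C) (χ : Multiplicative M →* C) (x : Fin p → C)
    (hgφ : mapPt φ g = F.prodPt en y * F.T.tor χ * F.prodPt ep x) :
    ∃ (y' : Fin n → B) (χ' : Multiplicative M →* B) (x' : Fin p → B), (∀ j, φ (y' j) = y j) ∧
      φ.toRingHom.toMonoidHom.comp χ' = χ ∧ (∀ j, φ (x' j) = x j) ∧
        F.prodPt en y' * F.T.tor χ' * F.prodPt ep x' = g := by
  classical
  have hen : ∀ j, lam (F.root (en j)) < 0 := fun j => by have := hn.pos j; simp only [AddMonoidHom.neg_apply] at this; omega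
  have hny : (F.cochar lam).inv.InU (F.prodPt en y) := by
    rw [F.inv_cochar]; exact F.prodPt_inU _ _ hn.pos _
  obtain ⟨a, z, c, ha, hz, hc, ea, ez, ec, e⟩ := (F.cochar lam).exists_cell_lift hsq hφ g hny
    (F.cochar_inZ_tor lam χ) (F.prodPt_inU lam _ hp.pos x) hgφ
  obtain ⟨χ', hχ', eχ⟩ := F.exists_tor_lift lam hreg hsq hφ z hz χ ez
  rw [F.inv_cochar] at ha
  obtain ⟨ya, hya, -⟩ := F.exists_coords hn.append_pos hn.inj hn.append_range ha
  -- the positive coordinates, with the root groups of the subgroup last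
  have hswap : RootSplit F W lam ep ep' := hp
  have hpos₂ : ∀ j, 0 < lam (F.root (Fin.append ep' ep j)) := fun j => by
    induction j using Fin.addCases <;> simp [hp.pos, hp.pos']
  have hinj₂ : Function.Injective (Fin.append ep' ep) := by
    intro u v huv
    induction u using Fin.addCases <;> induction v using Fin.addCases <;> simp only [Fin.append_left, Fin.append_right] at huv
    · exact congrArg _ (hp.inj_right huv)
    · rename_i u v
      have := hp.inj (a₁ := Fin.natAdd p u) (a₂ := Fin.castAdd p' v) (by simpa using huv)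
      exact absurd (congrArg Fin.val this) (by simp; omega)
    · rename_i u v
      have := hp.inj (a₁ := Fin.castAdd p' u) (a₂ := Fin.natAdd p v) (by simpa using huv)
      exact absurd (congrArg Fin.val this) (by simp; omega)
    · exact congrArg _ (hp.inj_left huv)
  have hrange₂ : ∀ i, 0 < lam (F.root i) → i ∈ Set.range (Fin.append ep' ep) := fun i hi => by
    rcases hp.range i hi with ⟨j, rfl⟩ | ⟨j, rfl⟩
    · exact ⟨Fin.natAdd p' j, by simp⟩
    · exact ⟨Fin.castAdd p j, by simp⟩
  obtain ⟨xc, hxc, -⟩ := F.exists_coords hpos₂ hinj₂ hrange₂ hc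
  obtain ⟨y1, r1, rfl⟩ : ∃ y1 r1, ya = Fin.append y1 r1 := ⟨_, _, (Fin.append_castAdd_natAdd (f := ya)).symm⟩
  obtain ⟨r2, x1, rfl⟩ : ∃ r2 x1, xc = Fin.append r2 x1 := ⟨_, _, (Fin.append_castAdd_natAdd (f := xc)).symm⟩
  -- the coordinates outside the subgroup vanish modulo the ideal
  have hyφ : φ ∘ Fin.append y1 r1 = Fin.append y (0 : Fin n' → C) := by
    refine (F.exists_coords hn.append_pos hn.inj hn.append_range (F.prodPt_inU _ _ hn.append_pos _)).unique
      ?_ rfl
    rw [← F.mapPt_prodPt, hya, ea, prodPt_append, prodPt_zero, mul_one]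
  have hxφ : φ ∘ Fin.append r2 x1 = Fin.append (0 : Fin p' → C) x := by
    refine (F.exists_coords hpos₂ hinj₂ hrange₂ (F.prodPt_inU _ _ hpos₂ _)).unique ?_ rfl
    rw [← F.mapPt_prodPt, hxc, ec, prodPt_append, prodPt_zero, one_mul]
  rw [prodPt_append] at hya hxc
  have hr1 : ∀ j, φ (r1 j) = 0 := fun j => by simpa using congrFun hyφ (Fin.natAdd n j)
  have hr2 : ∀ j, φ (r2 j) = 0 := fun j => by simpa using congrFun hxφ (Fin.castAdd p j)
  have hk : F.prodPt (Fin.append en' ep')
      (Fin.append r1 fun j => χ' (Multiplicative.ofAdd (F.root (ep' j))) * r2 j) ∈ W.mem B := by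
    rw [prodPt_append, ← conj_prodPt]
    have := mul_mem (mul_mem (mul_mem (inv_mem (prodPt_mem F hn.full y1)) hg) (inv_mem (prodPt_mem F hp.full x1)))
      (inv_mem (htor B χ'))
    convert this using 1
    rw [e, ← hya, ← hxc, ← eχ]
    group
  have hinj3 : Function.Injective (Fin.append en' ep') := by
    intro u v huv
    induction u using Fin.addCases <;> induction v using Fin.addCases <;>
      simp only [Fin.append_left, Fin.append_right] at huv
    · exact congrArg _ (hn.inj_right huv)
    · rename_i u v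
      have h1 := hn.pos' u
      have h2 := hp.pos' v
      rw [huv, AddMonoidHom.neg_apply] at h1
      omega
    · rename_i u v
      have h1 := hn.pos' v
      have h2 := hp.pos' u
      rw [← huv, AddMonoidHom.neg_apply] at h1
      omega
    · exact congrArg _ (hp.inj_right huv)
  have hno3 : ∀ j, NoTan F W (Fin.append en' ep' j) := fun j => by
    induction j using Fin.addCases <;> simp [hn.none, hp.none]
  have h0 := eq_zero_of_tangent F hs hsq hinj3 hno3 (fun j => by
    induction j using Fin.addCases <;> simp [hr1, hr2]) hk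
  have hr1' : r1 = 0 := funext fun j => by simpa using h0 (Fin.castAdd p' j)
  have hr2' : r2 = 0 := funext fun j => by
    have h1 := h0 (Fin.natAdd n' j)
    simp only [Fin.append_right] at h1
    exact (IsUnit.mul_right_eq_zero ((Group.isUnit (Multiplicative.ofAdd (F.root (ep' j)))).map χ')).mp h1
  refine ⟨y1, χ', x1, fun j => by simpa using congrFun hyφ (Fin.castAdd n' j), hχ',
    fun j => by simpa using congrFun hxφ (Fin.natAdd p' j), ?_⟩
  rw [hr1', prodPt_zero, mul_one] at hya
  rw [hr2', prodPt_zero, one_mul] at hxc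
  rw [hya, hxc, eχ, e]

end Groth.Agent.RedSub30
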