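import Groth.Agent.RedSub30.TypeRGlobal
import Groth.Agent.RedSub30.TypeRCoords
import Mathlib.AlgebraicGeometry.Morphisms.QuasiCompact

/-!
# The root set of a subgroup of type (R) over a connected base
-/

set_option autoImplicit false
set_option synthInstance.maxHeartbeats 100000

universe u

open CategoryTheory CategoryTheory.Limits MonoidalCategory CartesianMonoidalCategory AlgebraicGeometry WithConv
open scoped MonObj AddMonoidAlgebra

namespace Groth.Agent.RedSub30

open BigCell29 GrpSchLib.AffineHopf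

variable {S : Scheme.{u}} {G H : Over S} [GrpObj G] [GrpObj H] (D : Red.SplitRed G) (h : H ⟶ G)

include D in
/-- The morphisms of a subgroup of type (R) needed below. -/
theorem quasiCompact_left [QuasiCompact H.hom] : QuasiCompact h.left := by
  have : IsAffineHom G.hom := D.reductive.1
  have : QuasiCompact (h.left ≫ G.hom) := by rw [Over.w h]; infer_instance
  exact QuasiCompact.of_comp h.left G.hom

variable [IsMonHom h] [IsImmersion h.left] [QuasiCompact h.left] [Smooth H.hom] (t : D.T ⟶ H) (ht : t ≫ h = D.i)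
  {R' : Set D.idx} (hR' : ∀ a : D.idx, (∃ v : Red.Ga S ⟶ H, v ≫ h = D.u a) ↔ a ∈ R')
  {R : Type u} [CommRing R] {f : Spec (CommRingCat.of R) ⟶ S} [IsOpenImmersion f] {A : Type u} [CommRing A]
  [HopfAlgebra R A] (Md : Model f G A)

include hR' in
theorem full_of_mem {a : D.idx} (ha : a ∈ R') : Full (Md.frame D) (subPts h Md) a := by
  obtain ⟨v, hv⟩ := (hR' a).mpr ha
  intro B _ _ x
  refine ⟨gaPt f x ≫ v, ?_⟩
  rw [Category.assoc, hv, Md.pt_rt]
  rfl

include t ht hR' in
theorem none_of_notMem [ConnectedSpace S] {a : D.idx} (ha : a ∉ R') (s : S) : ¬ FullAt D h a s := by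
  rcases fullAt_all_or_none D h t ht a with hall | hnone
  · refine absurd ((hR' a).mp ?_) ha
    refine exists_factor_of_pts h (D.u a) fun R _ f _ B _ _ j => ?_
    have : IsAffineHom G.hom := D.reductive.1
    obtain ⟨A, _, _, ⟨Md⟩⟩ := exists_model f G
    obtain ⟨x, rfl⟩ := (gaPt_bijective f).surjective j
    obtain ⟨y, hy⟩ := full_of_all D h Md t ht a hall B x
    exact ⟨y, by rw [hy, Md.pt_rt]; rfl⟩
  · exact hnone s

include t ht hR' in
theorem noTan_of_notMem [ConnectedSpace S] {a : D.idx} (ha : a ∉ R') : NoTan (Md.frame D) (subPts h Md) a :=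
  noTan_of_none D h Md t ht a (none_of_notMem D h t ht hR' ha)

include t ht hR' in
/-- A root group outside the root set meets the subgroup trivially. -/
theorem eq_zero_of_notMem [ConnectedSpace S] {a : D.idx} (ha : a ∉ R') {B : Type u} [CommRing B] [Algebra R B]
    {x : B} (hx : InSub h Md ((Md.frame D).rt a x)) : x = 0 := by
  classical
  set F := Md.frame D
  have hno := noTan_of_notMem D h t ht hR' Md ha
  have hnil : IsNilpotent x := by
    rw [nilpotent_iff_mem_prime]
    intro P hP
    by_contra hxP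
    let : Algebra R P.ResidueField := ((algebraMap B P.ResidueField).comp (algebraMap R B)).toAlgebra
    let ψ : B →ₐ[R] P.ResidueField := ⟨algebraMap B P.ResidueField, fun r => rfl⟩
    have h1 := InSub.map h Md ψ hx
    rw [F.mapPt_rt] at h1
    let p : PrimeSpectrum R := ⟨RingHom.ker (algebraMap R P.ResidueField), RingHom.ker_isPrime _⟩
    have hne : ψ x ≠ 0 := fun h0 => hxP ((Ideal.ker_algebraMap_residueField P).le (RingHom.mem_ker.mpr h0))
    have hp : p ∈ fullSet D h Md a := ⟨P.ResidueField, inferInstance, inferInstance, rfl, ψ x, hne, h1⟩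
    rw [fullSet_eq D h Md a] at hp
    exact none_of_notMem D h t ht hR' ha _ hp
  obtain ⟨n, hn⟩ := hnil
  let π : B →ₐ[R] B ⧸ Ideal.span {x ^ 2} := Ideal.Quotient.mkₐ R _
  have h2 := InSub.map h Md π hx
  rw [F.mapPt_rt] at h2
  have h3 := hno _ (π x) (by
    rw [← map_mul, ← pow_two]
    exact Ideal.Quotient.eq_zero_iff_mem.mpr (Ideal.mem_span_singleton_self _)) h2
  obtain ⟨y, hy⟩ := Ideal.mem_span_singleton.mp (Ideal.Quotient.eq_zero_iff_mem.mp h3)
  have key : ∀ k : ℕ, x = x * (x * y) ^ k := fun k => by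
    induction k with
    | zero => simp
    | succ k ih => rw [pow_succ, ← mul_assoc, ← ih, ← mul_assoc, ← pow_two, ← hy]
  rw [key n, mul_pow, hn, zero_mul, mul_zero]

include t ht hR' in
/-- The split of the roots positive for a form into those in the root set and the others. -/
theorem exists_rootSplit [ConnectedSpace S] (lam : D.M →+ ℤ) {m : ℕ} {e : Fin m → D.idx}
    (he : RedSub.Enumerates (R' ∩ {i | 0 < lam (D.P.root i)}) e) :
    ∃ (m' : ℕ) (e' : Fin m' → D.idx), RootSplit (Md.frame D) (subPts h Md) lam e e' := by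
  classical
  let P := {i : D.idx // 0 < lam (D.P.root i) ∧ i ∉ R'}
  let e' : Fin (Fintype.card P) → D.idx := fun j => ((Fintype.equivFin P).symm j).1
  have hmem : ∀ j, e j ∈ R' ∩ {i | 0 < lam (D.P.root i)} := fun j => he.2 ▸ ⟨j, rfl⟩
  have he' : ∀ j, 0 < lam (D.P.root (e' j)) ∧ e' j ∉ R' := fun j => ((Fintype.equivFin P).symm j).2
  refine ⟨_, e', ⟨fun j => (hmem j).2, fun j => (he' j).1, ?_, ?_, fun j => full_of_mem D h hR' Md (hmem j).1,
    fun j => noTan_of_notMem D h t ht hR' Md (he' j).2⟩⟩
  · intro u v huv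
    induction u using Fin.addCases <;> induction v using Fin.addCases <;>
      simp only [Fin.append_left, Fin.append_right] at huv
    · exact congrArg _ (he.1 huv)
    · exact absurd (huv ▸ (hmem _).1) (he' _).2
    · exact absurd (huv ▸ (hmem _).1) (he' _).2
    · exact congrArg _ ((Fintype.equivFin P).symm.injective (Subtype.ext huv))
  · intro i hi
    by_cases hiR : i ∈ R'
    · exact Or.inl (he.2.symm ▸ (⟨hiR, hi⟩ : i ∈ R' ∩ {i | 0 < lam (D.P.root i)}))
    · exact Or.inr ⟨Fintype.equivFin P ⟨i, hi, hiR⟩, by simp [e']⟩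

end Groth.Agent.RedSub30
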