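import Groth.Agent.RedSub30.TypeRMain
import Groth.Agent.BigCell29.CellMap
import Groth.Agent.RedSub30.ProdGroup
import Mathlib.AlgebraicGeometry.Morphisms.FlatMono
import Mathlib.AlgebraicGeometry.Morphisms.Etale

/-!
# The cell of a subgroup of type (R)
-/

set_option autoImplicit false
set_option synthInstance.maxHeartbeats 100000

universe u

open CategoryTheory CategoryTheory.Limits MonoidalCategory CartesianMonoidalCategory AlgebraicGeometry WithConv
open scoped MonObj AddMonoidAlgebra

namespace Groth.Agent.RedSub30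

open BigCell29 GrpSchLib.AffineHopf

/-- A morphism locally of finite presentation is smooth if the lifting property holds for the test objects lying over
the opens of a cover of the target. -/
theorem smooth_of_local_lift {X Y : Scheme.{u}} (g : X ⟶ Y) [LocallyOfFinitePresentation g] {J : Type u}
    (U : J → Y.Opens) (hU : iSup U = ⊤)
    (H : ∀ (i : J) (A : Type u) [CommRing A] (I : Ideal A), I ^ 2 = ⊥ →
      ∀ (a : Spec (CommRingCat.of (A ⧸ I)) ⟶ X) (b : Spec (CommRingCat.of A) ⟶ Y),
        Set.range b.base ⊆ (U i : Set Y) → Spec.map (CommRingCat.ofHom (Ideal.Quotient.mk I)) ≫ b = a ≫ g →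
          ∃ l : Spec (CommRingCat.of A) ⟶ X,
            Spec.map (CommRingCat.ofHom (Ideal.Quotient.mk I)) ≫ l = a ∧ l ≫ g = b) : Smooth g := by
  refine (IsZariskiLocalAtTarget.iff_of_iSup_eq_top (P := @Smooth) U hU).mpr fun i => ?_
  have : LocallyOfFinitePresentation (g ∣_ U i) :=
    MorphismProperty.of_isPullback (P := @LocallyOfFinitePresentation) (isPullback_morphismRestrict g (U i)).flip ‹_›
  refine MultDefLib.smooth_of_isFormallySmoothHom _ fun A _ I hI a b w => ?_
  let a' := a ≫ (g ⁻¹ᵁ U i).ι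
  let b' := b ≫ (U i).ι
  have hb : Set.range b'.base ⊆ (U i : Set Y) := by
    rintro _ ⟨z, rfl⟩
    show (U i).ι.base (b.base z) ∈ _
    exact (b.base z).2
  obtain ⟨l, hl1, hl2⟩ := H i A I hI a' b' hb (by
    simp only [a', b', reassoc_of% w, morphismRestrict_ι, Category.assoc])
  have hlr : Set.range l.base ⊆ Set.range (g ⁻¹ᵁ U i).ι.base := by
    rintro _ ⟨z, rfl⟩
    rw [Scheme.Opens.range_ι]
    show g.base (l.base z) ∈ U i
    rw [← Scheme.Hom.comp_apply, hl2]
    exact hb ⟨z, rfl⟩
  refine ⟨IsOpenImmersion.lift (g ⁻¹ᵁ U i).ι l hlr, ?_, ?_⟩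
  · rw [← cancel_mono (g ⁻¹ᵁ U i).ι, Category.assoc, IsOpenImmersion.lift_fac, hl1]
  · rw [← cancel_mono (U i).ι, Category.assoc, morphismRestrict_ι, IsOpenImmersion.lift_fac_assoc, hl2]

/-- Monomorphisms over `S` are monomorphisms of schemes. -/
theorem mono_left {S : Scheme.{u}} {X Y : Over S} (g : X ⟶ Y) [Mono g] : Mono g.left := by
  refine ⟨fun {W} a b hab => ?_⟩
  let W' : Over S := Over.mk (a ≫ X.hom)
  let a' : W' ⟶ X := Over.homMk a rfl
  let b' : W' ⟶ X := Over.homMk b (by
    show b ≫ X.hom = a ≫ X.hom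
    rw [← Over.w g, ← Category.assoc, ← Category.assoc, hab])
  have e : a' = b' := (cancel_mono g).mp (Over.OverMorphism.ext hab)
  exact congrArg CommaMorphism.left e

/-- Diagonalisable groups of finite type are of finite presentation. -/
theorem locallyOfFinitePresentation_DS {S : Scheme.{u}} (M : Type) [AddCommGroup M] [Module.Finite ℤ M] :
    LocallyOfFinitePresentation (Red.DS S M).hom := by
  have : AddGroup.FG M := Module.Finite.iff_addGroup_fg.mp ‹_›
  have : AddMonoid.FG M := AddGroup.fg_iff_addMonoid_fg.mp ‹_›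
  have : Monoid.FG (Multiplicative M) := inferInstance
  have : IsNoetherianRing (ULift.{u} ℤ) := isNoetherianRing_of_ringEquiv ℤ ULift.ringEquiv.symm
  have : Algebra.FinitePresentation (ULift.{u} ℤ) (MonoidAlgebra (ULift.{u} ℤ) (Multiplicative M)) :=
    Algebra.FinitePresentation.of_finiteType.mp inferInstance
  have h : LocallyOfFinitePresentation (Red.diag (ULift.{u} ℤ) M).hom :=
    (HasRingHomProperty.Spec_iff (P := @LocallyOfFinitePresentation)).mpr
      (RingHom.finitePresentation_algebraMap.mpr inferInstance)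
  exact MorphismProperty.of_isPullback (P := @LocallyOfFinitePresentation.{u})
    (IsPullback.of_hasPullback (Red.diag (ULift.{u} ℤ) M).hom (IsTerminal.from specULiftZIsTerminal S)) h

theorem locallyOfFinitePresentation_tensor {S : Scheme.{u}} (X Y : Over S) [LocallyOfFinitePresentation X.hom]
    [LocallyOfFinitePresentation Y.hom] : LocallyOfFinitePresentation (X ⊗ Y).hom := by
  rw [Over.tensorObj_hom]; infer_instance

variable {S : Scheme.{u}} {G H : Over S} [GrpObj G] [GrpObj H] (D : Red.SplitRed G) (h : H ⟶ G)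
  [IsMonHom h] [IsImmersion h.left] [QuasiCompact h.left] [Smooth H.hom] (t : D.T ⟶ H) (ht : t ≫ h = D.i)
  {R' : Set D.idx} (hR' : ∀ a : D.idx, (∃ v : Red.Ga S ⟶ H, v ≫ h = D.u a) ↔ a ∈ R')
  {n m : ℕ} {eneg : Fin n → D.idx} {epos : Fin m → D.idx}

include t ht hR' in
/-- The cell of root groups in the root set factors through the subgroup. -/
theorem exists_cell_factor (hneg : ∀ j, eneg j ∈ R') (hpos : ∀ j, epos j ∈ R') :
    ∃ g : cellObj D n m ⟶ H, g ≫ h = RedSub.cellMap D eneg epos := by
  refine exists_factor_of_pts h _ fun R _ f _ B _ _ j => ?_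
  have : IsAffineHom G.hom := D.reductive.1
  obtain ⟨A, _, _, ⟨Md⟩⟩ := exists_model f G
  obtain ⟨⟨y, χ, x⟩, hq, -⟩ := cellPt_bijective D j
  obtain ⟨z, hz⟩ : InSub h Md ((Md.frame D).prodPt eneg y * (Md.frame D).T.tor χ * (Md.frame D).prodPt epos x) :=
    mul_mem (mul_mem (prodPt_mem (W := subPts h Md) _ (fun k => full_of_mem D h hR' Md (hneg k)) y)
      (tor_mem D h t ht Md B χ : (Md.frame D).T.tor χ ∈ (subPts h Md).mem B))
      (prodPt_mem (W := subPts h Md) _ (fun k => full_of_mem D h hR' Md (hpos k)) x)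
  exact ⟨z, by rw [hz, ← hq, Md.cellPt_cellMap]⟩

include t ht hR' in
/-- The cell of the root set is open in the subgroup. -/
theorem isOpenImmersion_cell [ConnectedSpace S] {lam : D.M →+ ℤ} (hreg : ∀ i, lam (D.P.root i) ≠ 0)
    (hneg : RedSub.Enumerates (R' ∩ {i | 0 < (-lam) (D.P.root i)}) eneg)
    (hpos : RedSub.Enumerates (R' ∩ {i | 0 < lam (D.P.root i)}) epos) (g : cellObj D n m ⟶ H)
    (hg : g ≫ h = RedSub.cellMap D eneg epos) : IsOpenImmersion g.left := by
  classical
  have : IsAffineHom G.hom := D.reductive.1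
  have hmono : Mono (RedSub.cellMap D eneg epos) := by
    refine ⟨fun {X} u v huv => ext_tObj fun R _ f _ B _ _ j => ?_⟩
    obtain ⟨A, _, _, ⟨Md⟩⟩ := exists_model f G
    obtain ⟨⟨y, χ, x⟩, hu, -⟩ := cellPt_bijective D (j ≫ u)
    obtain ⟨⟨y', χ', x'⟩, hv, -⟩ := cellPt_bijective D (j ≫ v)
    have e := congrArg (fun q => j ≫ q) huv
    simp only [← Category.assoc] at e
    rw [← hu, ← hv, Md.cellPt_cellMap, Md.cellPt_cellMap] at e
    obtain ⟨_, _, hn⟩ := exists_rootSplit D h t ht hR' Md (-lam) hneg
    obtain ⟨_, _, hp⟩ := exists_rootSplit D h t ht hR' Md lam hpos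
    set F := Md.frame D
    obtain ⟨e1, e2, e3⟩ := (F.cochar lam).cell_inj
      (by rw [F.inv_cochar]; exact F.prodPt_inU _ _ hn.pos _) (by rw [F.inv_cochar]; exact F.prodPt_inU _ _ hn.pos _)
      (F.cochar_inZ_tor lam χ) (F.cochar_inZ_tor lam χ') (F.prodPt_inU lam _ hp.pos x) (F.prodPt_inU lam _ hp.pos x')
      (Md.pt_bijective.injective e)
    have e2' : χ = χ' := torG_injective (f := f) D (by rw [← Md.pt_tor D, ← Md.pt_tor D, e2])
    obtain rfl := hn.prodPt_injective e1
    obtain rfl := hp.prodPt_injective e3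
    subst e2'
    rw [← hu, ← hv]
  have : Mono g := by
    have : Mono (g ≫ h) := hg ▸ hmono
    exact mono_of_mono g h
  have : Mono g.left := mono_left g
  have hm : Mono h := ⟨fun u v huv => Over.OverMorphism.ext ((cancel_mono h.left).mp (congrArg CommaMorphism.left huv))⟩
  have : LocallyOfFiniteType G.hom := by
    have := D.reductive.2.1
    infer_instance
  have : LocallyOfFiniteType H.hom := inferInstance
  have hlfp : LocallyOfFinitePresentation (cellObj D n m).hom := by
    have hpow : ∀ k, LocallyOfFinitePresentation (RedSub.pow (Red.Ga S) k).hom := fun k => by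
      have := RootPoly.smooth_pow (S := S) k
      infer_instance
    have := hpow n
    have := hpow m
    have : IsIso D.split.hom.hom.hom := ((Grp.forget _).mapIso D.split).isIso_hom
    have : IsIso D.split.hom.hom.hom.left := inferInstanceAs (IsIso ((Over.forget _).map D.split.hom.hom.hom))
    have : LocallyOfFinitePresentation D.T.hom := by
      rw [← Over.w D.split.hom.hom.hom]
      have := locallyOfFinitePresentation_DS (S := S) D.M
      infer_instance
    have := locallyOfFinitePresentation_tensor D.T (RedSub.pow (Red.Ga S) m)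
    exact locallyOfFinitePresentation_tensor _ _
  have : LocallyOfFinitePresentation (g.left ≫ H.hom) := by rw [Over.w g]; exact hlfp
  have : LocallyOfFinitePresentation g.left := AlgSpPts.locallyOfFinitePresentation_of_comp g.left H.hom
  have : Smooth g.left := by
    refine smooth_of_local_lift g.left (fun i : S.affineCover.I₀ => H.hom ⁻¹ᵁ (S.affineCover.f i).opensRange) ?_ ?_
    · exact top_le_iff.mp fun z _ => TopologicalSpace.Opens.mem_iSup.mpr
        ⟨S.affineCover.idx (H.hom.base z), S.affineCover.covers _⟩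
    intro i A' _ I hI a b hb w
    obtain ⟨R, f, _, A, _, _, Md, hr⟩ := exists_local_model G i
    set F := Md.frame D
    have hrange : Set.range (b ≫ H.hom).base ⊆ Set.range f.base := by
      rintro _ ⟨z, rfl⟩
      rw [hr]
      exact hb ⟨z, rfl⟩
    obtain ⟨α, hα⟩ := Spec.map_surjective (IsOpenImmersion.lift f (b ≫ H.hom) hrange)
    let : Algebra (R : Type u) A' := α.hom.toAlgebra
    let jb : tObj (R := (R : Type u)) f A' ⟶ H := Over.homMk b (by
      show b ≫ H.hom = Spec.map α ≫ f
      rw [hα, IsOpenImmersion.lift_fac])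
    let π : A' →ₐ[(R : Type u)] A' ⧸ I := Ideal.Quotient.mkₐ _ I
    let ja : tObj (R := (R : Type u)) f (A' ⧸ I) ⟶ cellObj D n m := Over.homMk a (by
      refine Eq.trans ?_ (Over.w (tMap f π))
      rw [← Over.w g, ← Category.assoc, ← w, Category.assoc]
      congr 1
      exact Over.w jb)
    have hab : tMap f π ≫ jb = ja ≫ g := Over.OverMorphism.ext w
    obtain ⟨⟨y, χ, x⟩, hq, -⟩ := cellPt_bijective D ja
    obtain ⟨g₀, hg₀⟩ := Md.pt_bijective.surjective (jb ≫ h)
    have hmem : g₀ ∈ (subPts h Md).mem A' := ⟨jb, hg₀.symm⟩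
    have hgφ : mapPt π g₀ = F.prodPt eneg y * F.T.tor χ * F.prodPt epos x := Md.pt_bijective.injective (by
      rw [Md.pt_map, hg₀, reassoc_of% hab, hg, ← hq, Md.cellPt_cellMap])
    obtain ⟨_, _, hn⟩ := exists_rootSplit D h t ht hR' Md (-lam) hneg
    obtain ⟨_, _, hp⟩ := exists_rootSplit D h t ht hR' Md lam hpos
    have hsq : SqZero π := fun u v hu hv => by
      have := Ideal.mul_mem_mul (Ideal.Quotient.eq_zero_iff_mem.mp hu) (Ideal.Quotient.eq_zero_iff_mem.mp hv)
      rwa [← pow_two, hI] at this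
    have := Md.smooth D.reductive.2.1
    obtain ⟨y', χ', x', hy', hχ', hx', e⟩ := exists_subCell_lift (W := subPts h Md) (tStable_subPts D h t ht Md)
      (fun B _ _ χ => tor_mem D h t ht Md B χ) hn hp hreg hsq Ideal.Quotient.mk_surjective hmem y χ x hgφ
    let l := cellPt f D y' χ' x'
    have h1 : tMap f π ≫ l = ja := by
      rw [cellPt_map, hχ', show π ∘ y' = y from funext hy', show π ∘ x' = x from funext hx']
      exact hq
    have h2 : l ≫ g = jb := by
      rw [← cancel_mono h, Category.assoc, hg, Md.cellPt_cellMap, e, hg₀]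
    exact ⟨l.left, congrArg CommaMorphism.left h1, congrArg CommaMorphism.left h2⟩
  exact IsOpenImmersion.of_flat_of_mono _

end Groth.Agent.RedSub30
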