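import Groth.Agent.RedSub30.ProdGroup
import Groth.Agent.Rank2Red38.NormalForm

/-!
# The subgroup of a closed set of positive roots contains no torus
-/

set_option autoImplicit false
set_option synthInstance.maxHeartbeats 100000

universe u

open CategoryTheory CategoryTheory.Limits AlgebraicGeometry MonoidalCategory CartesianMonoidalCategory WithConv
open scoped MonObj TensorProduct

noncomputable section

namespace Groth.Agent.RedSub30.RootPoly

open GrpSchLib Rank2Red38 BigCell29
open GrpSchLib.AffineHopf DSPtsLib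

variable {S : Scheme.{u}} {G : Over S} [GrpObj G] {D : Red.SplitRed G} {lam : Module.Dual ℤ D.M}
  {m : ℕ} {e : Fin m → D.idx}

theorem coord_powPt {R B : Type u} [CommRing R] [CommRing B] [Algebra R B] (f : Spec (CommRingCat.of R) ⟶ S) :
    ∀ {n : ℕ} (z : Fin n → B), coord (powPt f z) = fun k => (tVal f B).symm (z k)
  | 0, _ => funext fun k => k.elim0
  | n + 1, z => by
    show Fin.cons (α := fun _ => Γ((tObj f B).left, ⊤)) (Red.gaFn (lift _ _ ≫ fst _ _)) (coord (lift _ _ ≫ snd _ _)) = _
    rw [lift_fst, lift_snd, coord_powPt, gaFn_gaPt]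
    exact Fin.cons_self_tail (fun k => (tVal f B).symm (z k))

/-- A monomial of the weight of a root with no variable of lower level is a variable of that root. -/
theorem monomial_top {n : ℕ} {w : Fin n → D.idx} (hw : ∀ k, 0 < lam (D.P.root (w k))) {d : D.idx} {q : Fin n →₀ ℕ}
    (hq : wt D w q = D.P.root d) (hd : 0 < lam (D.P.root d))
    (htop : ∀ i, q i ≠ 0 → lam (D.P.root d) ≤ lam (D.P.root (w i))) :
    ∃ i, q = Finsupp.single i 1 ∧ w i = d := by
  classical
  have h1 : lam (D.P.root d) = ∑ k, (q k : ℤ) * lam (D.P.root (w k)) := by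
    rw [← hq, wt, map_sum]
    simp [nsmul_eq_mul]
  obtain ⟨i, hi⟩ : ∃ i, q i ≠ 0 := by
    by_contra! h
    rw [Finset.sum_eq_zero (fun k _ => by rw [h k, Nat.cast_zero, MulZeroClass.zero_mul])] at h1
    exact hd.ne' h1
  rw [← Finset.add_sum_erase _ _ (Finset.mem_univ i)] at h1
  have hnn : ∀ k ∈ Finset.univ.erase i, 0 ≤ (q k : ℤ) * lam (D.P.root (w k)) :=
    fun k _ => mul_nonneg (Int.natCast_nonneg _) (hw k).le
  have h2 : (q i : ℤ) = 1 := by
    have := Finset.sum_nonneg hnn
    have := htop i hi
    have hge : (1 : ℤ) ≤ q i := by exact_mod_cast Nat.one_le_iff_ne_zero.mpr hi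
    nlinarith
  have h3 : ∀ k, k ≠ i → q k = 0 := by
    intro k hk
    have := Finset.single_le_sum hnn (Finset.mem_erase.mpr ⟨hk, Finset.mem_univ k⟩)
    have := htop i hi
    have hwk := hw k
    rw [h2] at h1
    by_contra h
    have hge : (1 : ℤ) ≤ q k := by exact_mod_cast Nat.one_le_iff_ne_zero.mpr h
    nlinarith
  have hq' : q = Finsupp.single i 1 := by
    ext k
    by_cases hk : k = i
    · subst hk
      rw [Finsupp.single_eq_same]
      exact_mod_cast h2
    · rw [Finsupp.single_eq_of_ne hk, h3 k hk]
  refine ⟨i, hq', D.P.root.injective ?_⟩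
  rw [← hq, hq', wt, Finset.sum_eq_single i (fun k _ hk => by rw [Finsupp.single_eq_of_ne hk, zero_smul])
    (fun h => absurd (Finset.mem_univ i) h), Finsupp.single_eq_same, one_smul]

section Torus

variable (hl : IsPosClosed D lam (List.ofFn e)) {K : Type u} [Field K] (f : Spec (CommRingCat.of K) ⟶ S)
  {n : ℕ} (j : splitTorus K n ⟶ Red.bc f (RedSub.pow (Red.Ga S) m))
  [IsMonHom (j ≫ (Over.pullback f).map (RedSub.prodMap (Red.Ga S) m (fun k => D.u (e k))))]
include hl

/-- A homomorphism from a split torus into the products is trivial. -/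
theorem IsPosClosed.comp_prodMap_eq_one :
    j ≫ (Over.pullback f).map (RedSub.prodMap (Red.Ga S) m (fun k => D.u (e k))) = 1 := by
  classical
  let Λ := Multiplicative (Fin n → ℤ)
  let v := RedSub.prodMap (Red.Ga S) m (fun k => D.u (e k))
  set jv := j ≫ (Over.pullback f).map v with hjv
  obtain ⟨z, hz⟩ := (powPt_bijective (f := f) (B := MonoidAlgebra K Λ) m).surjective (theta f j)
  have hpt : ∀ (B : Type u) [CommRing B] [Algebra K B] (φ : MonoidAlgebra K Λ →ₐ[K] B),
      theta f (spMap φ ≫ jv) = wordPt D _ e fun k => (tVal f B).symm (φ (z k)) := by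
    intro B _ _ φ
    have e1 : theta f (spMap φ ≫ jv) = powPt f (φ ∘ z) ≫ v := by
      rw [hjv, ← Category.assoc, BigCell29.theta_map, theta_spMap, ← hz, powPt_map]
      rfl
    exact (e1.trans (comp_prodMap D e (powPt f (φ ∘ z)))).trans (congrArg (wordPt D _ e) (coord_powPt f _))
  have hmul : ∀ (B : Type u) [CommRing B] [Algebra K B] (φ ψ : MonoidAlgebra K Λ →ₐ[K] B),
      theta f (spMap (toConv φ * toConv ψ).ofConv ≫ jv) = theta f (spMap φ ≫ jv) * theta f (spMap ψ ≫ jv) := by
    intro B _ _ φ ψ
    rw [← spMap_mul]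
    exact (congrArg (theta f) (MonObj.mul_comp _ _ jv)).trans (theta_mul f _ _)
  have hl' := hl.pos
  have hcoord : ∀ (X : Over S) (x y : Fin m → Γ(X.left, ⊤)), wordPt D X e x = wordPt D X e y → x = y := by
    intro X x y h
    haveI := hl.mono_prodMap
    rw [← coord_ofCoord x, ← coord_ofCoord y, ← comp_prodMap, ← comp_prodMap] at h
    rw [← coord_ofCoord x, ← coord_ofCoord y, (cancel_mono _).mp h]
  -- the origin
  have hε : ∀ k, Bialgebra.counitAlgHom K (MonoidAlgebra K Λ) (z k) = 0 := by
    let ε := (1 : WithConv (MonoidAlgebra K Λ →ₐ[K] K)).ofConv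
    have hεε : (toConv ε * toConv ε).ofConv = ε := congrArg WithConv.ofConv (mul_one (toConv ε))
    have h := hmul K ε ε
    rw [hεε] at h
    have h1 : theta f (spMap ε ≫ jv) = 1 := mul_eq_left.mp h.symm
    rw [hpt] at h1
    have h2 := hcoord _ _ 0 (h1.trans ((isWeighted_wordPt D e).zero _).symm)
    intro k
    have h3 : (tVal f K).symm (ε (z k)) = (tVal f K).symm 0 := (congrFun h2 k).trans (map_zero _).symm
    have h4 := (tVal f K).symm.injective h3
    simpa [ε, AlgHom.convOne_apply] using h4
  -- the universal pair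
  let B := MonoidAlgebra K (Multiplicative ((Fin n → ℤ) × (Fin n → ℤ)))
  let iL : Λ →* Multiplicative ((Fin n → ℤ) × (Fin n → ℤ)) :=
    AddMonoidHom.toMultiplicative (AddMonoidHom.inl (Fin n → ℤ) (Fin n → ℤ))
  let iR : Λ →* Multiplicative ((Fin n → ℤ) × (Fin n → ℤ)) :=
    AddMonoidHom.toMultiplicative (AddMonoidHom.inr (Fin n → ℤ) (Fin n → ℤ))
  let iD : Λ →* Multiplicative ((Fin n → ℤ) × (Fin n → ℤ)) :=
    AddMonoidHom.toMultiplicative ((AddMonoidHom.id (Fin n → ℤ)).prod (AddMonoidHom.id (Fin n → ℤ)))
  let φ : MonoidAlgebra K Λ →ₐ[K] B := MonoidAlgebra.mapDomainAlgHom K K iL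
  let ψ : MonoidAlgebra K Λ →ₐ[K] B := MonoidAlgebra.mapDomainAlgHom K K iR
  let δ : MonoidAlgebra K Λ →ₐ[K] B := MonoidAlgebra.mapDomainAlgHom K K iD
  have hco : ∀ (g : Λ →* Multiplicative ((Fin n → ℤ) × (Fin n → ℤ))) (x : MonoidAlgebra K Λ),
      (MonoidAlgebra.mapDomainAlgHom K K g x).coeff = Finsupp.mapDomain g x.coeff := fun g x => rfl
  have hsingle : ∀ (g : Λ →* Multiplicative ((Fin n → ℤ) × (Fin n → ℤ))) (a : Λ),
      MonoidAlgebra.mapDomainAlgHom K K g (MonoidAlgebra.single a 1) = MonoidAlgebra.single (g a) 1 := fun g a =>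
    MonoidAlgebra.coeff_injective (by rw [hco, MonoidAlgebra.coeff_single, MonoidAlgebra.coeff_single,
      Finsupp.mapDomain_single])
  have hδ : (toConv φ * toConv ψ).ofConv = δ := AlgHom.ext fun x => by
    induction x using MonoidAlgebra.induction_linear with
    | zero => rw [map_zero, map_zero]
    | add a b ha hb => rw [map_add, map_add, ha, hb]
    | single a r => ?_
    rw [show (MonoidAlgebra.single a r : MonoidAlgebra K Λ) = r • MonoidAlgebra.single a 1 by simp, map_smul, map_smul]
    congr 1
    rw [AlgHom.convMul_apply, (MonoidAlgebra.isGroupLikeElem_single_one (R := K) (A := K) a).comul_eq_tmul_self]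
    show φ _ * ψ _ = δ _
    rw [show φ (MonoidAlgebra.single a 1) = MonoidAlgebra.single (iL a) 1 from hsingle iL a,
      show ψ (MonoidAlgebra.single a 1) = MonoidAlgebra.single (iR a) 1 from hsingle iR a,
      show δ (MonoidAlgebra.single a 1) = MonoidAlgebra.single (iD a) 1 from hsingle iD a,
      MonoidAlgebra.single_mul_single, _root_.mul_one]
    refine congrArg (fun g => MonoidAlgebra.single g (1 : K)) ?_
    show Multiplicative.ofAdd ((Multiplicative.toAdd a, (0 : Fin n → ℤ)) + (0, Multiplicative.toAdd a)) = _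
    simp [iD]
    rfl
  let w : Fin (m + m) → D.idx := Fin.append e e
  have hwl : ∀ k, w k ∈ List.ofFn e := fun k => List.mem_ofFn.mpr
    (Fin.addCases (fun i => ⟨i, (Fin.append_left e e i).symm⟩) (fun i => ⟨i, (Fin.append_right e e i).symm⟩) k)
  have hwp : ∀ k, 0 < lam (D.P.root (w k)) := fun k => hl.pos _ (hwl k)
  obtain ⟨P, hP1, hP2⟩ := exists_poly D lam w (fun X => wordPt D X w) hwp (isWeighted_wordPt D w) (List.ofFn e)
    hl.nodup hl.pos (hl.mem_of_wt hwl)
  let c : Γ(S, ⊤) →+* B := (tVal f B).toRingHom.comp (glob (tObj f B))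
  let vals : Fin (m + m) → B := Fin.append (fun k => φ (z k)) (fun k => ψ (z k))
  have hkey : ∀ k, δ (z k) = MvPolynomial.eval₂ c vals (P (e k)) := by
    have h := hmul B φ ψ
    rw [hδ] at h
    have h := ((hpt B δ).symm.trans h).trans (congrArg₂ (· * ·) (hpt B φ) (hpt B ψ))
    have happ : wordPt D (tObj f B) w (fun i => (tVal f B).symm (vals i)) =
        (wordPt D (tObj f B) e fun k => (tVal f B).symm (φ (z k))) *
          wordPt D (tObj f B) e fun k => (tVal f B).symm (ψ (z k)) := by
      rw [wordPt, wordPt, wordPt, ← List.prod_append, ← List.ofFn_fin_append]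
      congr 1
      refine List.ofFn_inj.mpr (funext (Fin.addCases (fun i => ?_) fun i => ?_))
      · rw [Fin.append_left]
        simp only [w, vals]
        rw [Fin.append_left, Fin.append_left]
      · rw [Fin.append_right]
        simp only [w, vals]
        rw [Fin.append_right, Fin.append_right]
    have h := (h.trans happ.symm).trans (hP2 _ _)
    rw [rootProd_ofFn] at h
    intro k
    have hk := congrFun (hcoord _ _ _ h) k
    rw [RingEquiv.symm_apply_eq] at hk
    rw [hk]
    rw [show tVal f B (MvPolynomial.eval₂ (glob (tObj f B)) (fun i => (tVal f B).symm (vals i)) (P (e k))) =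
      (tVal f B).toRingHom (MvPolynomial.eval₂ (glob (tObj f B)) (fun i => (tVal f B).symm (vals i)) (P (e k)))
      from rfl, MvPolynomial.hom_eval₂]
    exact congrArg (fun g => MvPolynomial.eval₂ c g (P (e k))) (funext fun i => (tVal f B).apply_symm_apply _)
  have hc : ∀ a, c a = algebraMap K B (resTo f a) := fun a => tVal_glob f a
  -- induction on the level
  have hzero : ∀ k, z k = 0 := by
    intro k
    induction hN : (lam (D.P.root (e k))).toNat using Nat.strong_induction_on generalizing k with
    | _ N ih =>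
      let sL : Fin (m + m) →₀ ℕ := Finsupp.single (Fin.castAdd m k) 1
      let sR : Fin (m + m) →₀ ℕ := Finsupp.single (Fin.natAdd m k) 1
      have hd : 0 < lam (D.P.root (e k)) := hl.pos _ (List.mem_ofFn.mpr ⟨k, rfl⟩)
      have hvan : ∀ q ∈ (P (e k)).support, q ≠ sL ∧ q ≠ sR →
          c ((P (e k)).coeff q) * ∏ i, vals i ^ q i = 0 := by
        intro q hq hne
        suffices ∃ i, q i ≠ 0 ∧ vals i = 0 by
          obtain ⟨i, hi, hvi⟩ := this
          rw [Finset.prod_eq_zero (Finset.mem_univ i) (by rw [hvi, zero_pow hi]), MulZeroClass.mul_zero]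
        by_contra! h
        obtain ⟨i, rfl, hi⟩ := monomial_top hwp (hP1 _ q hq) hd fun i hi => by
          by_contra hlt
          apply h i hi
          revert hlt
          refine Fin.addCases (fun l hlt => ?_) (fun l hlt => ?_) i
          · rw [show w (Fin.castAdd m l) = e l from Fin.append_left e e l] at hlt
            have := hl.pos _ (List.mem_ofFn.mpr ⟨l, rfl⟩)
            show Fin.append _ _ (Fin.castAdd m l) = 0
            rw [Fin.append_left, ih _ (by omega) l rfl, map_zero]
          · rw [show w (Fin.natAdd m l) = e l from Fin.append_right e e l] at hlt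
            have := hl.pos _ (List.mem_ofFn.mpr ⟨l, rfl⟩)
            show Fin.append _ _ (Fin.natAdd m l) = 0
            rw [Fin.append_right, ih _ (by omega) l rfl, map_zero]
        revert hne hi
        refine Fin.addCases (fun l => ?_) (fun l => ?_) i
        · intro hi hne
          rw [show w (Fin.castAdd m l) = e l from Fin.append_left e e l] at hi
          exact hne.1 (by rw [(List.nodup_ofFn.mp hl.nodup) hi])
        · intro hi hne
          rw [show w (Fin.natAdd m l) = e l from Fin.append_right e e l] at hi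
          exact hne.2 (by rw [(List.nodup_ofFn.mp hl.nodup) hi])
      have hne : sL ≠ sR := fun h => by
        have h' := Finsupp.single_left_injective one_ne_zero h
        have := congrArg Fin.val h'
        simp at this
        have := k.isLt
        omega
      have hlin : δ (z k) = c ((P (e k)).coeff sL) * φ (z k) + c ((P (e k)).coeff sR) * ψ (z k) := by
        rw [hkey k, MvPolynomial.eval₂_eq']
        rw [Finset.sum_subset (Finset.subset_union_left (s₂ := {sL, sR}))
          (fun q _ hq => by rw [MvPolynomial.notMem_support_iff.mp hq, map_zero, MulZeroClass.zero_mul]),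
          ← Finset.sum_subset (Finset.subset_union_right (s₁ := (P (e k)).support)) (fun q hq hq' => by
            simp only [Finset.mem_insert, Finset.mem_singleton, not_or] at hq'
            rcases Finset.mem_union.mp hq with h | h
            · exact hvan q h hq'
            · simp only [Finset.mem_insert, Finset.mem_singleton] at h
              exact absurd h (by tauto)),
          Finset.sum_pair hne]
        have hp : ∀ i : Fin (m + m), ∏ j, vals j ^ (Finsupp.single i 1) j = vals i := fun i => by
          rw [Finset.prod_eq_single i (fun j _ hj => by rw [Finsupp.single_eq_of_ne hj, pow_zero])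
            (fun h => absurd (Finset.mem_univ i) h), Finsupp.single_eq_same, pow_one]
        simp only [sL, sR, hp, vals, Fin.append_left, Fin.append_right]
      rw [hc, hc, ← Algebra.smul_def, ← Algebra.smul_def] at hlin
      have hoff : ∀ a : Λ, a ≠ 1 → (z k).coeff a = 0 := by
        intro a ha
        have h := congrArg (fun y : B => y.coeff (iD a)) hlin
        have hiD : Function.Injective iD := fun x y hxy => congrArg (fun p : _ × _ => Multiplicative.ofAdd p.1)
          (congrArg Multiplicative.toAdd hxy)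
        have h1 : (δ (z k)).coeff (iD a) = (z k).coeff a := by
          simp only [δ, hco, Finsupp.mapDomain_apply hiD]
        have h2 : (φ (z k)).coeff (iD a) = 0 := by
          simp only [φ, hco]
          refine Finsupp.mapDomain_of_notMem_range _ _ ?_
          rintro ⟨y, hy⟩
          exact ha (congrArg (fun p : _ × _ => Multiplicative.ofAdd p.2) (congrArg Multiplicative.toAdd hy)).symm
        have h3 : (ψ (z k)).coeff (iD a) = 0 := by
          simp only [ψ, hco]
          refine Finsupp.mapDomain_of_notMem_range _ _ ?_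
          rintro ⟨y, hy⟩
          exact ha (congrArg (fun p : _ × _ => Multiplicative.ofAdd p.1) (congrArg Multiplicative.toAdd hy)).symm
        have hlc : ∀ (r s : K) (x y : B) p, (r • x + s • y).coeff p = r • x.coeff p + s • y.coeff p :=
          fun r s x y p => rfl
        have h' := (h1.symm.trans h).trans (hlc _ _ _ _ _)
        rw [h2, h3, smul_zero, smul_zero, add_zero] at h'
        exact h'
      have hk : z k = MonoidAlgebra.single 1 ((z k).coeff 1) := MonoidAlgebra.coeff_injective <| Finsupp.ext fun a => by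
        by_cases ha : a = 1
        · subst ha; simp
        · simp [hoff a ha, Ne.symm ha]
      have h0 := hε k
      rw [hk] at h0 ⊢
      have : (z k).coeff 1 = 0 := by simpa using h0
      rw [this, MonoidAlgebra.single_zero]
  -- conclusion
  apply (theta_bijective (Y := splitTorus K n) (H := G) f).1
  have h := hpt (MonoidAlgebra K Λ) (AlgHom.id K (MonoidAlgebra K Λ))
  rw [spMap_id, Category.id_comp] at h
  refine h.trans ?_
  have h1 : (fun k => (tVal f (MonoidAlgebra K Λ)).symm (AlgHom.id K (MonoidAlgebra K Λ) (z k))) = 0 :=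
    funext fun k => by simp [hzero k]
  rw [h1, (isWeighted_wordPt D e).zero]
  exact (mul_eq_left.mp ((theta_mul f (Y := splitTorus K n) (1 : splitTorus K n ⟶ Red.bc f G) 1).symm.trans
    (congrArg (theta f) (mul_one (1 : splitTorus K n ⟶ Red.bc f G))))).symm

end Torus

/-- The products contain no non-trivial torus in any geometric fibre. -/
theorem IsPosClosed.hasNoSubtorus (hl : IsPosClosed D lam (List.ofFn e))
    [str : GrpObj (RedSub.pow (Red.Ga S) m)] [IsMonHom (RedSub.prodMap (Red.Ga S) m (fun k => D.u (e k)))]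
    {K : Type u} [Field K] [IsAlgClosed K] (f : Spec (CommRingCat.of K) ⟶ S) :
    Red.HasNoSubtorus K (Red.bc f (RedSub.pow (Red.Ga S) m)) := by
  intro T _ j _ _ hT
  haveI := hl.mono_prodMap
  obtain ⟨n, ⟨eT⟩⟩ := exists_splitTorus_iso T hT
  haveI : IsMonHom eT.hom.hom.hom := eT.hom.hom.isMonHom_hom
  let v := (Over.pullback f).map (RedSub.prodMap (Red.Ga S) m (fun k => D.u (e k)))
  haveI : IsMonHom ((eT.hom.hom.hom ≫ j) ≫ v) := inferInstance
  have h := hl.comp_prodMap_eq_one f (eT.hom.hom.hom ≫ j)
  have h1 : eT.hom.hom.hom ≫ (j ≫ v) = eT.hom.hom.hom ≫ (1 : T ⟶ Red.bc f G) := by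
    rw [MonObj.comp_one, ← Category.assoc]
    exact h
  have h2 : j ≫ v = 1 := by
    haveI : IsIso eT.hom.hom.hom := ⟨eT.inv.hom.hom, congrArg (fun k => k.hom.hom) eT.hom_inv_id,
      congrArg (fun k => k.hom.hom) eT.inv_hom_id⟩
    exact (cancel_epi _).mp h1
  have h3 : j = 1 := (cancel_mono v).mp (h2.trans (MonObj.one_comp v).symm)
  have h4 : toUnit T ≫ (η : 𝟙_ _ ⟶ T) = 𝟙 T := (cancel_mono j).mp (by
    rw [h3, MonObj.comp_one, MonObj.comp_one])
  haveI : IsIso (toUnit T) := ⟨η, h4, toUnit_unique _ _⟩
  show IsIso T.hom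
  exact inferInstanceAs (IsIso ((Over.forget _).map (toUnit T)))

end Groth.Agent.RedSub30.RootPoly
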