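import Groth.Agent.RedSub30.ProdGroup

/-!
# Products over two enumerations of a closed set of roots are the same subgroup
-/

set_option autoImplicit false

universe u

open CategoryTheory CategoryTheory.Limits AlgebraicGeometry MonoidalCategory CartesianMonoidalCategory
open scoped MonObj

noncomputable section

namespace Groth.Agent.RedSub30.RootPoly

open GrpSchLib Rank2Red38

variable {S : Scheme.{u}} {G : Over S} [GrpObj G] {D : Red.SplitRed G} {lam : Module.Dual ℤ D.M}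

/-- Words in roots of the set, as products along the parametrisation. -/
theorem IsPosClosed.exists_lift_comp {m m' : ℕ} {e : Fin m → D.idx} {e' : Fin m' → D.idx}
    (hl : IsPosClosed D lam (List.ofFn e)) (hmem : ∀ k, e' k ∈ List.ofFn e) {X : Over S}
    (x : X ⟶ RedSub.pow (Red.Ga S) m') :
    ∃ y : X ⟶ RedSub.pow (Red.Ga S) m, y ≫ RedSub.prodMap (Red.Ga S) m (fun k => D.u (e k)) =
      x ≫ RedSub.prodMap (Red.Ga S) m' (fun k => D.u (e' k)) :=
  hl.exists_lift (by rw [comp_prodMap]; exact hl.wordPt_inProd e' hmem _)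

/-- Two parametrisations of the same set differ by an isomorphism. -/
theorem IsPosClosed.exists_iso {m m' : ℕ} {e : Fin m → D.idx} {e' : Fin m' → D.idx}
    (hl : IsPosClosed D lam (List.ofFn e)) (hl' : IsPosClosed D lam (List.ofFn e'))
    (hmem : ∀ c, c ∈ List.ofFn e' ↔ c ∈ List.ofFn e) :
    ∃ ψ : RedSub.pow (Red.Ga S) m' ≅ RedSub.pow (Red.Ga S) m,
      ψ.hom ≫ RedSub.prodMap (Red.Ga S) m (fun k => D.u (e k)) =
        RedSub.prodMap (Red.Ga S) m' (fun k => D.u (e' k)) := by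
  haveI := hl.mono_prodMap
  haveI := hl'.mono_prodMap
  obtain ⟨a, ha⟩ := hl.exists_lift_comp (fun k => (hmem _).mp (List.mem_ofFn.mpr ⟨k, rfl⟩))
    (𝟙 (RedSub.pow (Red.Ga S) m'))
  obtain ⟨b, hb⟩ := hl'.exists_lift_comp (fun k => (hmem _).mpr (List.mem_ofFn.mpr ⟨k, rfl⟩))
    (𝟙 (RedSub.pow (Red.Ga S) m))
  rw [Category.id_comp] at ha hb
  exact ⟨⟨a, b, (cancel_mono (RedSub.prodMap (Red.Ga S) m' fun k => D.u (e' k))).mp
      (by rw [Category.assoc, hb, ha, Category.id_comp]),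
    (cancel_mono (RedSub.prodMap (Red.Ga S) m fun k => D.u (e k))).mp
      (by rw [Category.assoc, ha, hb, Category.id_comp])⟩, ha⟩

theorem IsPosClosed.exists_enumeration {Ψ : Set D.idx} (hΨ : IsClosedSet D.P Ψ) (hpos : ∀ a ∈ Ψ, 0 < lam (D.P.root a)) :
    ∃ (m : ℕ) (e : Fin m → D.idx), RedSub.Enumerates Ψ e ∧ IsPosClosed D lam (List.ofFn e) := by
  classical
  haveI := Fintype.ofFinite D.idx
  let e : Fin (Fintype.card Ψ) → D.idx := fun k => ((Fintype.equivFin Ψ).symm k).1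
  have he : RedSub.Enumerates Ψ e := by
    refine ⟨fun a b h => (Fintype.equivFin Ψ).symm.injective (Subtype.ext h), Set.ext fun c => ⟨?_, fun hc => ?_⟩⟩
    · rintro ⟨k, rfl⟩; exact ((Fintype.equivFin Ψ).symm k).2
    · exact ⟨Fintype.equivFin Ψ ⟨c, hc⟩, by simp [e]⟩
  exact ⟨_, e, he, IsPosClosed.of_enumerates hΨ hpos he⟩

theorem mem_ofFn_of_enumerates {J : Type} {Ψ : Set J} {m : ℕ} {e : Fin m → J} (he : RedSub.Enumerates Ψ e) (c : J) :
    c ∈ List.ofFn e ↔ c ∈ Ψ := by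
  rw [List.mem_ofFn, ← he.2, Set.mem_range]

end Groth.Agent.RedSub30.RootPoly
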