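import Groth.Agent.RedSub30.ProdTorus
import Groth.Agent.RedSub30.ProdIso

/-!
# Levels of a linear form on a closed set of positive roots
-/

set_option autoImplicit false

universe u

open CategoryTheory CategoryTheory.Limits AlgebraicGeometry MonoidalCategory CartesianMonoidalCategory
open scoped MonObj

noncomputable section

namespace Groth.Agent.RedSub30.RootPoly

open GrpSchLib Rank2Red38

variable {S : Scheme.{u}} {G : Over S} [GrpObj G] {D : Red.SplitRed G} {lam : Module.Dual ℤ D.M}

theorem coord_comp {X X' : Over S} (g : X' ⟶ X) :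
    ∀ {n : ℕ} (x : X ⟶ RedSub.pow (Red.Ga S) n), coord (g ≫ x) = fun k => g.left.appTop (coord x k)
  | 0, _ => funext fun k => k.elim0
  | n + 1, x => by
    funext k
    refine Fin.cases ?_ (fun k => ?_) k
    · exact (congrArg Red.gaFn (Category.assoc g x (fst (Red.Ga S) (RedSub.pow (Red.Ga S) n)))).trans
        (GaPts.gaFn_comp g (x ≫ fst (Red.Ga S) (RedSub.pow (Red.Ga S) n)))
    · exact (congrFun (congrArg coord (Category.assoc g x (snd (Red.Ga S) (RedSub.pow (Red.Ga S) n)))) k).trans
        (congrFun (coord_comp g (x ≫ snd (Red.Ga S) (RedSub.pow (Red.Ga S) n))) k)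

theorem comp_ofCoord {X X' : Over S} (g : X' ⟶ X) {n : ℕ} (v : Fin n → Γ(X.left, ⊤)) :
    g ≫ ofCoord v = ofCoord fun k => g.left.appTop (v k) :=
  coord_injective (by rw [coord_comp, coord_ofCoord, coord_ofCoord])

theorem ofCoord_coord {X : Over S} {n : ℕ} (x : X ⟶ RedSub.pow (Red.Ga S) n) : ofCoord (coord x) = x :=
  coord_injective (coord_ofCoord _)

theorem wordPt_append {X : Over S} {m m' : ℕ} (e : Fin m → D.idx) (e' : Fin m' → D.idx) (x : Fin m → Γ(X.left, ⊤))
    (y : Fin m' → Γ(X.left, ⊤)) :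
    wordPt D X (Fin.append e e') (Fin.append x y) = wordPt D X e x * wordPt D X e' y := by
  rw [wordPt, wordPt, wordPt, ← List.prod_append, ← List.ofFn_fin_append]
  congr 1
  refine List.ofFn_inj.mpr (funext (Fin.addCases (fun i => ?_) fun i => ?_))
  · rw [Fin.append_left, Fin.append_left, Fin.append_left]
  · rw [Fin.append_right, Fin.append_right, Fin.append_right]

/-- Products with vanishing coordinates outside a closed subset lie in it. -/
theorem IsPosClosed.inProd_sub {l' : List D.idx} (hl' : IsPosClosed D lam l') {X : Over S}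
    (z : D.idx → Γ(X.left, ⊤)) : ∀ l : List D.idx, (∀ c ∈ l, c ∉ l' → z c = 0) → InProd D X l' (rootProd D X l z)
  | [], _ => hl'.one
  | c :: l, h => by
    rw [rootProd, List.map_cons, List.prod_cons]
    refine hl'.mul ?_ (hl'.inProd_sub z l fun d hd => h d (List.mem_cons_of_mem _ hd))
    by_cases hc : c ∈ l'
    · exact hl'.U_mem hc _
    · rw [h c List.mem_cons_self hc, (U_oneParam D c).zero]
      exact hl'.one

/-- A weighted family trivial on the axes has no coordinate at the lowest level. -/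
theorem IsPosClosed.inProd_level {l l' : List D.idx} (hl : IsPosClosed D lam l) (hl' : IsPosClosed D lam l')
    {n : ℕ} {w : Fin n → D.idx} (hw : ∀ k, w k ∈ l) {F : ∀ X : Over S, (Fin n → Γ(X.left, ⊤)) → (X ⟶ G)}
    (hF : IsWeighted D w F)
    (hlow : ∀ d ∈ l, d ∉ l' → ∀ i, lam (D.P.root d) ≤ lam (D.P.root (w i)))
    (haxis : ∀ d ∈ l, d ∉ l' → ∀ i, w i = d → ∀ (X : Over S) (t : Γ(X.left, ⊤)), F X (Pi.single i t) = 1)
    (X : Over S) (x : Fin n → Γ(X.left, ⊤)) : InProd D X l' (F X x) := by
  classical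
  have hwp : ∀ k, 0 < lam (D.P.root (w k)) := fun k => hl.pos _ (hw k)
  obtain ⟨P, hP1, hP2⟩ := exists_poly D lam w F hwp hF l hl.nodup hl.pos (hl.mem_of_wt hw)
  rw [hP2 X x]
  refine hl'.inProd_sub _ l fun d hd hd' => ?_
  rw [MvPolynomial.eval₂_eq']
  refine Finset.sum_eq_zero fun q hq => ?_
  obtain ⟨i, rfl, hi⟩ := monomial_top hwp (hP1 _ q hq) (hl.pos d hd) fun i _ => hlow d hd hd' i
  -- the coefficient dies on the axis
  have h := hP2 X (Pi.single i (x i))
  rw [haxis d hd hd' i hi] at h
  have h1 : (1 : X ⟶ G) = rootProd D X l 0 :=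
    (List.prod_eq_one fun g hg => by
      obtain ⟨c, -, rfl⟩ := List.mem_map.mp hg
      exact (U_oneParam D c).zero).symm
  have h2 := inj_global D lam l hl.nodup hl.pos X _ _ (h1.symm.trans h) d hd
  rw [MvPolynomial.eval₂_eq', Finset.sum_eq_single (Finsupp.single i 1) (fun q' hq' hne => ?_)
    (fun h' => absurd hq h')] at h2
  · rw [Finset.prod_eq_single i (fun j _ hj => by rw [Finsupp.single_eq_of_ne hj, pow_zero])
      (fun h' => absurd (Finset.mem_univ i) h'), Finsupp.single_eq_same, pow_one, Pi.single_eq_same] at h2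
    rw [Finset.prod_eq_single i (fun j _ hj => by rw [Finsupp.single_eq_of_ne hj, pow_zero])
      (fun h' => absurd (Finset.mem_univ i) h'), Finsupp.single_eq_same, pow_one]
    exact h2.symm
  · obtain ⟨j, rfl, -⟩ := monomial_top hwp (hP1 _ q' hq') (hl.pos d hd) fun i _ => hlow d hd hd' i
    have hji : j ≠ i := fun e => hne (e ▸ rfl)
    rw [Finset.prod_eq_zero (Finset.mem_univ j) (by rw [Finsupp.single_eq_same, pow_one, Pi.single_eq_of_ne hji]),
      MulZeroClass.mul_zero]

/-- Conjugation of a word by a word. -/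
def conjPt (X : Over S) {m m' : ℕ} (e : Fin m → D.idx) (e' : Fin m' → D.idx)
    (x : Fin (m + m') → Γ(X.left, ⊤)) : X ⟶ G :=
  wordPt D X e (fun k => x (Fin.castAdd m' k)) * wordPt D X e' (fun k => x (Fin.natAdd m k)) *
    (wordPt D X e fun k => x (Fin.castAdd m' k))⁻¹

theorem isWeighted_conjPt {m m' : ℕ} (e : Fin m → D.idx) (e' : Fin m' → D.idx) :
    IsWeighted D (Fin.append e e') fun X => conjPt X e e' where
  nat X X' g x := by simp only [conjPt, comp_mul', comp_inv', comp_wordPt]
  equiv X t x := by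
    have h1 := (isWeighted_wordPt D e).equiv X t fun k => x (Fin.castAdd m' k)
    have h2 := (isWeighted_wordPt D e').equiv X t fun k => x (Fin.natAdd m k)
    simp only [conjPt, Fin.append_left, Fin.append_right] at h1 h2 ⊢
    rw [← h1, ← h2]
    group
  zero X := by
    show wordPt D X e 0 * wordPt D X e' 0 * (wordPt D X e 0)⁻¹ = 1
    rw [(isWeighted_wordPt D e).zero, (isWeighted_wordPt D e').zero]
    group

/-- The commutator of two root elements. -/
def commPt (X : Over S) (a b : D.idx) (x : Fin 2 → Γ(X.left, ⊤)) : X ⟶ G :=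
  U D X a (x 0) * U D X b (x 1) * (U D X a (x 0))⁻¹ * (U D X b (x 1))⁻¹

theorem isWeighted_commPt (a b : D.idx) : IsWeighted D ![a, b] fun X => commPt X a b where
  nat X X' g x := by simp only [commPt, comp_mul', comp_inv', comp_U]
  equiv X t x := by
    simp only [commPt, Matrix.cons_val_zero, Matrix.cons_val_one]
    rw [← conj_U D a t (x 0), ← conj_U D b t (x 1)]
    group
  zero X := by simp [commPt, (U_oneParam D a).zero, (U_oneParam D b).zero]

end Groth.Agent.RedSub30.RootPoly
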