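import Groth.Agent.RedSub30.TypeRCell
import Groth.Agent.RedSub30.ProdTorus
import Groth.Agent.RedSub30.ProdIso
import Groth.Agent.RedSub30.ProdLevels
import Groth.Agent.GrpSchLib.MonoSubgroup

/-!
# The unipotent part of a subgroup of type (R) with positive root set
-/

set_option autoImplicit false
set_option synthInstance.maxHeartbeats 100000

universe u

open CategoryTheory CategoryTheory.Limits MonoidalCategory CartesianMonoidalCategory AlgebraicGeometry WithConv
open scoped MonObj AddMonoidAlgebra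

namespace Groth.Agent.RedSub30

open BigCell29 GrpSchLib.AffineHopf

variable {S : Scheme.{u}} {G H : Over S} [GrpObj G] [GrpObj H] (D : Red.SplitRed G) (h : H ⟶ G)
  [IsMonHom h] [IsImmersion h.left] [QuasiCompact h.left] [Smooth H.hom] (t : D.T ⟶ H) (ht : t ≫ h = D.i)
  {R' : Set D.idx} (hR' : ∀ a : D.idx, (∃ v : Red.Ga S ⟶ H, v ≫ h = D.u a) ↔ a ∈ R')
  (lam : D.M →+ ℤ)

omit [GrpObj H] [IsMonHom h] [IsImmersion h.left] [QuasiCompact h.left] [Smooth H.hom] in
/-- The roots positive for a form and outside a given set, enumerated. -/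
theorem exists_complement {m : ℕ} {e : Fin m → D.idx} (he : RedSub.Enumerates R' e)
    (hpos : ∀ a ∈ R', 0 < lam (D.P.root a)) :
    ∃ (m' : ℕ) (e' : Fin m' → D.idx), (∀ j, 0 < lam (D.P.root (e' j)) ∧ e' j ∉ R') ∧
      RedSub.Enumerates {i | 0 < lam (D.P.root i)} (Fin.append e e') := by
  classical
  haveI := Fintype.ofFinite D.idx
  let P := {i : D.idx // 0 < lam (D.P.root i) ∧ i ∉ R'}
  let e' : Fin (Fintype.card P) → D.idx := fun j => ((Fintype.equivFin P).symm j).1
  have hmem : ∀ j, e j ∈ R' := fun j => he.2 ▸ ⟨j, rfl⟩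
  have he' : ∀ j, 0 < lam (D.P.root (e' j)) ∧ e' j ∉ R' := fun j => ((Fintype.equivFin P).symm j).2
  refine ⟨_, e', he', fun u v huv => ?_, Set.ext fun i => ⟨?_, fun hi => ?_⟩⟩
  · induction u using Fin.addCases <;> induction v using Fin.addCases <;>
      simp only [Fin.append_left, Fin.append_right] at huv
    · exact congrArg _ (he.1 huv)
    · exact absurd (huv ▸ hmem _) (he' _).2
    · exact absurd (huv ▸ hmem _) (he' _).2
    · exact congrArg _ ((Fintype.equivFin P).symm.injective (Subtype.ext huv))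
  · rintro ⟨j, rfl⟩
    induction j using Fin.addCases
    · simpa using hpos _ (hmem _)
    · simpa using (he' _).1
  · by_cases hiR : i ∈ R'
    · obtain ⟨j, rfl⟩ : i ∈ Set.range e := he.2.symm ▸ hiR
      exact ⟨Fin.castAdd _ j, by simp⟩
    · exact ⟨Fin.natAdd m (Fintype.equivFin P ⟨i, hi, hiR⟩), by simp [e']⟩

omit [GrpObj H] [IsMonHom h] [IsImmersion h.left] [QuasiCompact h.left] [Smooth H.hom] in
theorem isClosedSet_pos : IsClosedSet D.P {i | 0 < lam (D.P.root i)} := fun a b c ha hb hc => by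
  show 0 < lam (D.P.root c)
  rw [← hc, map_add]
  exact add_pos ha hb

omit [GrpObj H] [IsMonHom h] [IsImmersion h.left] [QuasiCompact h.left] [Smooth H.hom] in
theorem isPosClosed_pos {k : ℕ} {e : Fin k → D.idx} (he : RedSub.Enumerates {i | 0 < lam (D.P.root i)} e) :
    RootPoly.IsPosClosed D lam.toIntLinearMap (List.ofFn e) :=
  RootPoly.IsPosClosed.of_enumerates (isClosedSet_pos D lam) (fun _ ha => ha) he

omit [GrpObj H] [IsMonHom h] [IsImmersion h.left] [QuasiCompact h.left] [Smooth H.hom] in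
/-- A set of positive roots sits inside all positive roots as a closed subscheme of products. -/
theorem exists_extend {m m' : ℕ} (e : Fin m → D.idx) (e' : Fin m' → D.idx) :
    ∃ z0 : RedSub.pow (Red.Ga S) m ⟶ RedSub.pow (Red.Ga S) (m + m'), IsClosedImmersion z0.left ∧
      z0 ≫ RedSub.prodMap (Red.Ga S) (m + m') (fun k => D.u (Fin.append e e' k)) =
        RedSub.prodMap (Red.Ga S) m (fun k => D.u (e k)) := by
  let c := RootPoly.coord (𝟙 (RedSub.pow (Red.Ga S) m))
  let z0 : RedSub.pow (Red.Ga S) m ⟶ RedSub.pow (Red.Ga S) (m + m') := RootPoly.ofCoord (Fin.append c 0)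
  let r : RedSub.pow (Red.Ga S) (m + m') ⟶ RedSub.pow (Red.Ga S) m :=
    RootPoly.ofCoord fun j => RootPoly.coord (𝟙 (RedSub.pow (Red.Ga S) (m + m'))) (Fin.castAdd m' j)
  have hι : z0 ≫ RedSub.prodMap (Red.Ga S) (m + m') (fun k => D.u (Fin.append e e' k)) =
      RedSub.prodMap (Red.Ga S) m (fun k => D.u (e k)) := by
    rw [← Category.id_comp (RedSub.prodMap (Red.Ga S) m fun k => D.u (e k)), RootPoly.comp_prodMap,
      RootPoly.comp_prodMap, RootPoly.coord_ofCoord, RootPoly.wordPt, RootPoly.wordPt]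
    have key : (fun k => Rank2Red38.U D (RedSub.pow (Red.Ga S) m) (Fin.append e e' k) (Fin.append c 0 k)) =
        Fin.append (fun k => Rank2Red38.U D (RedSub.pow (Red.Ga S) m) (e k) (c k))
          (fun k => Rank2Red38.U D (RedSub.pow (Red.Ga S) m) (e' k) 0) :=
      funext fun k => by induction k using Fin.addCases <;> simp
    rw [key, List.ofFn_fin_append, List.prod_append, mul_eq_left]
    exact List.prod_eq_one fun g hg => by
      obtain ⟨k, rfl⟩ := List.mem_ofFn.mp hg
      exact (Rank2Red38.U_oneParam D _).zero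
  have hr : z0 ≫ r = 𝟙 _ := RootPoly.coord_injective (funext fun j => by
    rw [RootPoly.coord_comp, RootPoly.coord_ofCoord]
    refine (congrFun (RootPoly.coord_comp z0 (𝟙 _)) (Fin.castAdd m' j)).symm.trans ?_
    rw [Category.comp_id, RootPoly.coord_ofCoord, Fin.append_left])
  refine ⟨z0, ?_, hι⟩
  haveI : IsAffineHom (RedSub.pow (Red.Ga S) (m + m')).hom := isAffineHom_pow (m + m')
  haveI : IsSeparated (r.left ≫ (RedSub.pow (Red.Ga S) m).hom) := by rw [Over.w r]; infer_instance
  haveI : IsSeparated r.left := IsSeparated.of_comp r.left (RedSub.pow (Red.Ga S) m).hom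
  haveI : IsClosedImmersion (z0.left ≫ r.left) := by
    rw [← Over.comp_left, hr, Over.id_left]; infer_instance
  exact IsClosedImmersion.of_comp z0.left r.left

include t ht hR'

variable [ConnectedSpace S] {m : ℕ} {e : Fin m → D.idx} (he : RedSub.Enumerates R' e)
  (hpos : ∀ a ∈ R', 0 < lam (D.P.root a))
include he hpos

/-- The split of the positive roots at a model. -/
theorem exists_split {R : Type u} [CommRing R] {f : Spec (CommRingCat.of R) ⟶ S} [IsOpenImmersion f]
    {A : Type u} [CommRing A] [HopfAlgebra R A] (Md : Model f G A) :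
    ∃ (m' : ℕ) (e' : Fin m' → D.idx), RootSplit (Md.frame D) (subPts h Md) lam e e' :=
  exists_rootSplit D h t ht hR' Md lam (by
    rw [Set.inter_eq_left.mpr (show R' ⊆ {i | 0 < lam (D.P.root i)} from hpos)]; exact he)

theorem isClosedImmersion_prod : IsClosedImmersion (RedSub.prodMap (Red.Ga S) m (fun k => D.u (e k))).left := by
  obtain ⟨m', e', -, he'⟩ := exists_complement D lam he hpos
  obtain ⟨z0, hι, e1⟩ := exists_extend D e e'
  haveI := (isPosClosed_pos D lam he').isClosedImmersion_prodMap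
  rw [← e1, Over.comp_left]
  infer_instance

theorem mono_prod : Mono (RedSub.prodMap (Red.Ga S) m (fun k => D.u (e k))) := by
  haveI := isClosedImmersion_prod D h t ht hR' lam he hpos
  exact ⟨fun u v huv => Over.OverMorphism.ext ((cancel_mono (RedSub.prodMap (Red.Ga S) m
    (fun k => D.u (e k))).left).mp (congrArg CommaMorphism.left huv))⟩

/-- Points of the subgroup attracted by the form are products of root points. -/
theorem exists_prod_factor {X : Over S} (y : X ⟶ G)
    (hy : ∀ (R : Type u) [CommRing R] (f : Spec (CommRingCat.of R) ⟶ S) [IsOpenImmersion f] (B : Type u)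
      [CommRing B] [Algebra R B] (A : Type u) [CommRing A] [HopfAlgebra R A] (Md : Model f G A)
      (j : tObj f B ⟶ X), ∃ g : Pt R A B, Md.pt g = j ≫ y ∧ InSub h Md g ∧ ((Md.frame D).cochar lam).InU g) :
    ∃ v : X ⟶ RedSub.pow (Red.Ga S) m, v ≫ RedSub.prodMap (Red.Ga S) m (fun k => D.u (e k)) = y := by
  haveI := isClosedImmersion_prod D h t ht hR' lam he hpos
  refine exists_factor_of_pts _ y fun R _ f _ B _ _ j => ?_
  haveI : IsAffineHom G.hom := D.reductive.1
  obtain ⟨A, _, _, ⟨Md⟩⟩ := exists_model f G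
  obtain ⟨g, hg, hmem, hU⟩ := hy R f B A Md j
  obtain ⟨_, _, hp⟩ := exists_split D h t ht hR' lam he hpos Md
  obtain ⟨x, rfl⟩ := hp.exists_coords (tStable_subPts D h t ht Md) hmem hU
  exact ⟨powPt f x, by rw [Md.powPt_prodMap, hg]⟩

omit he in
/-- Coordinates of a point of the products. -/
theorem exists_prodPt {R : Type u} [CommRing R] {f : Spec (CommRingCat.of R) ⟶ S} [IsOpenImmersion f]
    {A : Type u} [CommRing A] [HopfAlgebra R A] (Md : Model f G A) {B : Type u} [CommRing B] [Algebra R B]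
    {k : ℕ} {e₂ : Fin k → D.idx} (h₂ : ∀ j, e₂ j ∈ R') (j : tObj f B ⟶ RedSub.pow (Red.Ga S) k) :
    ∃ x : Fin k → B, powPt f x = j ∧
      Md.pt ((Md.frame D).prodPt e₂ x) = j ≫ RedSub.prodMap (Red.Ga S) k (fun l => D.u (e₂ l)) ∧
      InSub h Md ((Md.frame D).prodPt e₂ x) ∧ ((Md.frame D).cochar lam).InU ((Md.frame D).prodPt e₂ x) := by
  obtain ⟨x, rfl⟩ := (powPt_bijective k).surjective j
  exact ⟨x, rfl, (Md.powPt_prodMap D e₂ x).symm,
    prodPt_mem (W := subPts h Md) _ (fun l => full_of_mem D h hR' Md (h₂ l)) x,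
    (Md.frame D).prodPt_inU lam _ (fun l => hpos _ (h₂ l)) x⟩

/-- Products in other orders factor through the products. -/
theorem exists_prod_comp {k : ℕ} {e₂ : Fin k → D.idx} (h₂ : ∀ j, e₂ j ∈ R') :
    ∃ v : RedSub.pow (Red.Ga S) k ⟶ RedSub.pow (Red.Ga S) m,
      v ≫ RedSub.prodMap (Red.Ga S) m (fun l => D.u (e l)) =
        RedSub.prodMap (Red.Ga S) k (fun l => D.u (e₂ l)) :=
  exists_prod_factor D h t ht hR' lam he hpos _ fun R _ f _ B _ _ A _ _ Md j => by
    obtain ⟨x, -, hx, hmem, hU⟩ := exists_prodPt D h t ht hR' lam hpos Md h₂ j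
    exact ⟨_, hx, hmem, hU⟩

/-- The products form a group. -/
theorem exists_grpObj_prod :
    ∃ str : GrpObj (RedSub.pow (Red.Ga S) m),
      @IsMonHom _ _ _ _ G str.toMonObj _ (RedSub.prodMap (Red.Ga S) m (fun k => D.u (e k))) := by
  haveI := mono_prod D h t ht hR' lam he hpos
  set P := RedSub.pow (Red.Ga S) m
  set a := RedSub.prodMap (Red.Ga S) m (fun k => D.u (e k)) with ha
  have hm : ∀ j, e j ∈ R' := fun j => he.2 ▸ ⟨j, rfl⟩
  obtain ⟨η', hη⟩ := exists_prod_factor D h t ht hR' lam he hpos (η[G]) fun R _ f _ B _ _ A _ _ Md j => by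
    refine ⟨1, ?_, one_mem ((subPts h Md).mem B), Coact.inU_one _⟩
    exact Md.pt_one.trans ((congrArg (j ≫ ·) (MonObj.one_eq_one (M := G)).symm).trans (MonObj.comp_one j)).symm
  obtain ⟨μ', hμ⟩ := exists_prod_factor D h t ht hR' lam he hpos ((fst P P ≫ a) * (snd P P ≫ a))
    fun R _ f _ B _ _ A _ _ Md j => by
    obtain ⟨x, -, hx, hxm, hxU⟩ := exists_prodPt D h t ht hR' lam hpos Md hm (j ≫ fst P P)
    obtain ⟨y, -, hy, hym, hyU⟩ := exists_prodPt D h t ht hR' lam hpos Md hm (j ≫ snd P P)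
    refine ⟨_, ?_, (mul_mem (S := Subgroup (Pt R A B)) (s := (subPts h Md).mem B) hxm hym), Coact.InU.mul _ hxU hyU⟩
    rw [Md.pt_mul, hx, hy, MonObj.comp_mul, Category.assoc, Category.assoc]
  obtain ⟨v, hv⟩ := exists_prod_factor D h t ht hR' lam he hpos a⁻¹ fun R _ f _ B _ _ A _ _ Md j => by
    obtain ⟨x, -, hx, hxm, hxU⟩ := exists_prodPt D h t ht hR' lam hpos Md hm j
    refine ⟨_, ?_, (inv_mem (S := Subgroup (Pt R A B)) (s := (subPts h Md).mem B) hxm), Coact.InU.inv _ hxU⟩
    rw [Md.pt_inv, hx, GrpObj.comp_inv]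
  exact GrpSchLib.exists_grpObj_of_mono a η' hη μ' hμ v hv

end Groth.Agent.RedSub30
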