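import Groth.Agent.Rank2Red38.NormalForm

/-!
# Weighted families of points of a split group in root coordinates

A family of points of a split group parametrised by `n` functions and moved by the torus through positive roots `w k` is
the product, along any list of positive roots reachable from the `w k`, of root elements whose coordinates are polynomials
homogeneous for the weights.
-/

set_option autoImplicit false
set_option synthInstance.maxHeartbeats 100000

universe u

open CategoryTheory CategoryTheory.Limits AlgebraicGeometry MonoidalCategory CartesianMonoidalCategory WithConv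
open scoped MonObj AddMonoidAlgebra

noncomputable section

namespace Groth.Agent.RedSub30.RootPoly

open GrpSchLib BigCell29 Rank2Red38

variable {S : Scheme.{u}} {G : Over S} [GrpObj G] (D : Red.SplitRed G)

/-- The weight of a monomial. -/
def wt {n : ℕ} (w : Fin n → D.idx) (m : Fin n →₀ ℕ) : D.M := ∑ k, m k • D.P.root (w k)

section Glue

variable {X : Over S}

/-- Affine charts around the points of an object over `S`. -/
theorem exists_chart (X : Over S) (x : X.left) :
    ∃ (R : CommRingCat.{u}) (f : Spec R ⟶ S) (_ : IsOpenImmersion f) (B : CommRingCat.{u})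
      (_ : Algebra (R : Type u) (B : Type u)) (j : tObj (R := (R : Type u)) f (B : Type u) ⟶ X),
      IsOpenImmersion j.left ∧ x ∈ Set.range j.left.base := by
  obtain ⟨V, hV, hxV, -⟩ := exists_isAffineOpen_mem_and_subset (show X.hom x ∈ (⊤ : S.Opens) from trivial)
  obtain ⟨U, hU, hxU, hUV⟩ := exists_isAffineOpen_mem_and_subset (show x ∈ X.hom ⁻¹ᵁ V from hxV)
  letI : Algebra (Γ(S, V) : Type u) (Γ(X.left, U) : Type u) := (X.hom.appLE V U hUV).hom.toAlgebra
  refine ⟨Γ(S, V), hV.fromSpec, inferInstance, Γ(X.left, U), inferInstance, Over.homMk hU.fromSpec ?_, ?_, ?_⟩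
  · exact (IsAffineOpen.SpecMap_appLE_fromSpec X.hom hV hU hUV).symm
  · exact inferInstanceAs (IsOpenImmersion hU.fromSpec)
  · show x ∈ Set.range hU.fromSpec
    rw [hU.range_fromSpec]
    exact hxU

/-- Functions glue along a jointly surjective family of open immersions. -/
theorem exists_glue {κ : Type u} (Y : κ → Over S) (a : ∀ i, Y i ⟶ X) (ha : ∀ i, IsOpenImmersion (a i).left)
    (hcov : ∀ x : X.left, ∃ i, x ∈ Set.range (a i).left.base) (c : ∀ i, Γ((Y i).left, ⊤))
    (hc : ∀ (i k : κ) (W : Over S) (p : W ⟶ Y i) (q : W ⟶ Y k), p ≫ a i = q ≫ a k →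
      p.left.appTop (c i) = q.left.appTop (c k)) :
    ∃ C : Γ(X.left, ⊤), ∀ i, (a i).left.appTop C = c i := by
  choose idx hidx using hcov
  let 𝒰 : X.left.OpenCover := Scheme.Cover.mkOfCovers κ (fun i => (Y i).left) (fun i => (a i).left)
    (fun x => ⟨idx x, (hidx x).choose, (hidx x).choose_spec⟩) ha
  have hcompat : ∀ i k, pullback.fst (𝒰.f i) (𝒰.f k) ≫ (GaPts.ptOfFn (c i) : Y i ⟶ Red.Ga S).left =
      pullback.snd _ _ ≫ (GaPts.ptOfFn (c k) : Y k ⟶ Red.Ga S).left := fun i k => by
    let W : Over S := Over.mk (pullback.fst (a i).left (a k).left ≫ (Y i).hom)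
    let p : W ⟶ Y i := Over.homMk (pullback.fst _ _) rfl
    let q : W ⟶ Y k := Over.homMk (pullback.snd _ _) (by
      show pullback.snd _ _ ≫ (Y k).hom = pullback.fst _ _ ≫ (Y i).hom
      rw [← Over.w (a k), ← Over.w (a i), pullback.condition_assoc])
    have h := hc i k W p q (Over.OverMorphism.ext pullback.condition)
    exact congrArg CommaMorphism.left ((RankOne.map_gaFn_ptOfFn p (c i)).trans
      ((congrArg GaPts.ptOfFn h).trans (RankOne.map_gaFn_ptOfFn q (c k)).symm))
  let φ : X.left ⟶ (Red.Ga S).left := 𝒰.glueMorphisms _ hcompat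
  let e : X ⟶ Red.Ga S := Over.homMk φ (𝒰.hom_ext _ _ fun i => by
    rw [Scheme.Cover.ι_glueMorphisms_assoc]
    exact (Over.w _).trans (Over.w (a i)).symm)
  refine ⟨Red.gaFn e, fun i => ?_⟩
  have h : a i ≫ e = GaPts.ptOfFn (c i) := Over.OverMorphism.ext (Scheme.Cover.ι_glueMorphisms 𝒰 _ hcompat i)
  rw [← GaPts.gaFn_comp, h, GaPts.gaFn_ptOfFn]

/-- Morphisms are determined on a jointly surjective family of open immersions. -/
theorem hom_ext_cover {Z : Over S} {κ : Type u} (Y : κ → Over S) (a : ∀ i, Y i ⟶ X)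
    (ha : ∀ i, IsOpenImmersion (a i).left) (hcov : ∀ x : X.left, ∃ i, x ∈ Set.range (a i).left.base)
    {g g' : X ⟶ Z} (h : ∀ i, a i ≫ g = a i ≫ g') : g = g' := by
  choose idx hidx using hcov
  let 𝒰 : X.left.OpenCover := Scheme.Cover.mkOfCovers κ (fun i => (Y i).left) (fun i => (a i).left)
    (fun x => ⟨idx x, (hidx x).choose, (hidx x).choose_spec⟩) ha
  exact Over.OverMorphism.ext (𝒰.hom_ext _ _ fun i => congrArg CommaMorphism.left (h i))

end Glue

variable (lam : Module.Dual ℤ D.M)

/-- A point is a product of root elements along a list. -/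
def InProd (X : Over S) (l : List D.idx) (g : X ⟶ G) : Prop :=
  ∃ z : D.idx → Γ(X.left, ⊤), g = rootProd D X l z

variable {n : ℕ} (w : Fin n → D.idx) (F : ∀ X : Over S, (Fin n → Γ(X.left, ⊤)) → (X ⟶ G))

section Local

variable {R : Type u} [CommRing R] {f : Spec (CommRingCat.of R) ⟶ S} [IsOpenImmersion f]

theorem exists_poly_local (hw : ∀ k, 0 < lam (D.P.root (w k))) (hF : IsWeighted D w F) (l : List D.idx)
    (hl : l.Nodup) (hp : ∀ c ∈ l, 0 < lam (D.P.root c))
    (hcomp : ∀ (d : D.idx) (m : Fin n →₀ ℕ), D.P.root d = wt D w m → d ∈ l) :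
    ∃ P : D.idx → MvPolynomial (Fin n) R, (∀ d, ∀ m ∈ (P d).support, wt D w m = D.P.root d) ∧
      ∀ (B : Type u) [CommRing B] [Algebra R B] (x : Fin n → Γ((tObj f B).left, ⊤)),
        F (tObj f B) x =
          rootProd D (tObj f B) l fun d => (tVal f B).symm (MvPolynomial.aeval (fun k => tVal f B (x k)) (P d)) := by
  classical
  have : IsAffineHom G.hom := D.reductive.1
  obtain ⟨A, _, _, ⟨Md⟩⟩ := exists_model f G
  obtain ⟨r, hd, hpos, hfull⟩ := exists_full D lam l hl hp
  set L := l ++ r
  set Fr := Md.frame D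
  set g : Pt R A (MvPolynomial (Fin n) R) :=
    Md.ofPt (F (tObj f (MvPolynomial (Fin n) R)) fun k => (tVal f (MvPolynomial (Fin n) R)).symm (MvPolynomial.X k))
    with hg
  have hgen : ∀ (B : Type u) [CommRing B] [Algebra R B] (φ : (MvPolynomial (Fin n) R) →ₐ[R] B), Md.pt (mapPt φ g) =
      F (tObj f B) fun k => (tVal f B).symm (φ (MvPolynomial.X k)) := fun B _ _ φ => by
    rw [Md.pt_map, hg, Md.pt_ofPt, hF.nat]
    congr 1
    funext k
    apply (tVal f B).injective
    rw [tVal_map, RingEquiv.apply_symm_apply, RingEquiv.apply_symm_apply]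
  let θ : (MvPolynomial (Fin n) R) →ₐ[R] (MvPolynomial (Fin n) R)[D.M] :=
    MvPolynomial.aeval fun k => AddMonoidAlgebra.single (D.P.root (w k)) (MvPolynomial.X k)
  let s0 := AddMonoidAlgebra.singleZeroAlgHom (R := R) (A := (MvPolynomial (Fin n) R)) (M := D.M)
  have hact : Fr.T.coact.act g = mapPt θ g := by
    apply Md.pt_bijective.injective
    rw [Fr.T.act_eq, Md.pt_mul, Md.pt_mul, Md.pt_inv, Md.pt_tor, torG_eq, hgen, hgen, hF.equiv]
    congr 1
    funext k
    rw [rootVal_chPt, ← map_mul]
    congr 1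
    simp [θ, s0, MvPolynomial.aeval_X, AddMonoidAlgebra.single_mul_single]
  set lz := lam.toAddMonoidHom
  have hU : (Fr.cochar lz).InU g := by
    rw [← Coact.isPos_act_iff]
    let θp : (MvPolynomial (Fin n) R) →ₐ[R] nonneg R (MvPolynomial (Fin n) R) := MvPolynomial.aeval fun k =>
      ⟨AddMonoidAlgebra.single (lz (D.P.root (w k))) (MvPolynomial.X k), fun m hm => by
        rw [AddMonoidAlgebra.coeff_single, Finsupp.single_apply, if_neg (by
          have := hw k; simp only [lz, LinearMap.toAddMonoidHom_coe]; omega)]⟩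
    refine ⟨mapPt θp g, ?_, ?_⟩
    · rw [mapPt_mapPt]
      apply Md.pt_bijective.injective
      rw [hgen, Md.pt_one, ← hF.zero]
      congr 1
      funext k
      simp only [AlgHom.comp_apply, θp, MvPolynomial.aeval_X, ev0_apply, AddMonoidAlgebra.coeff_single,
        Finsupp.single_apply, if_neg (hw k).ne', LinearMap.toAddMonoidHom_coe, lz, map_zero, Pi.zero_apply]
    · rw [mapPt_mapPt, Coact.act_push, hact, mapPt_mapPt]
      congr 2
      refine MvPolynomial.algHom_ext fun k => ?_
      simp [θp, θ, lz]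
  have he : ∀ j, 0 < lz (Fr.root (L.get j)) := fun j => hpos _ (List.get_mem L j)
  obtain ⟨p, hp', -⟩ := Fr.exists_coords (e := L.get) he (List.nodup_iff_injective_get.mp hd)
    (fun i hi => List.mem_iff_get.mp (hfull i hi)) hU
  have hhom : ∀ j, θ (p j) = AddMonoidAlgebra.single (D.P.root (L.get j)) (p j) := by
    have h1 : mapPt θ g = Fr.prodPt L.get (θ ∘ p) := by rw [← hp', Fr.mapPt_prodPt]
    have h2 : mapPt θ g = Fr.prodPt L.get fun j => AddMonoidAlgebra.single (D.P.root (L.get j)) (p j) := by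
      rw [← hact, ← hp', Frame.prodPt, Frame.prodPt, map_list_prod, List.map_ofFn]
      simp [Function.comp_def, Fr.act_rt]
      rfl
    obtain ⟨z, -, hz⟩ := Fr.exists_coords (e := L.get) he (List.nodup_iff_injective_get.mp hd)
      (fun i hi => List.mem_iff_get.mp (hfull i hi)) (Fr.prodPt_inU lz L.get he (θ ∘ p))
    exact fun j => congrFun ((hz (θ ∘ p) rfl).trans (hz _ (h2.symm.trans h1)).symm) j
  have hθ : ∀ (m : Fin n →₀ ℕ) (r : R), θ (MvPolynomial.monomial m r) =
      AddMonoidAlgebra.single (wt D w m) (MvPolynomial.monomial m r) := by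
    intro m r
    induction m using Finsupp.induction generalizing r with
    | zero => simp [θ, wt]
    | single_add a b m ha hb ih =>
      rw [MvPolynomial.monomial_single_add, map_mul, map_pow, ih]
      simp only [θ, MvPolynomial.aeval_X, AddMonoidAlgebra.single_pow, AddMonoidAlgebra.single_mul_single]
      congr 1
      simp [wt, add_smul, Finset.sum_add_distrib, Finsupp.single_apply]
  have hsupp : ∀ j, ∀ m ∈ (p j).support, wt D w m = D.P.root (L.get j) := by
    intro j m hm
    by_contra hne
    have h1 := congrArg (fun z : (MvPolynomial (Fin n) R)[D.M] => MvPolynomial.coeff m (z.coeff (wt D w m))) (hhom j)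
    rw [show θ (p j) = ∑ m' ∈ (p j).support,
        AddMonoidAlgebra.single (wt D w m') (MvPolynomial.monomial m' (MvPolynomial.coeff m' (p j))) by
      conv_lhs => rw [(p j).as_sum]
      rw [map_sum]
      exact Finset.sum_congr rfl fun m' _ => hθ _ _] at h1
    simp only [AddMonoidAlgebra.coeff_sum, Finsupp.finsetSum_apply, MvPolynomial.coeff_sum,
      AddMonoidAlgebra.coeff_single, Finsupp.single_apply] at h1
    rw [Finset.sum_eq_single m (fun m' _ hm' => by split_ifs <;> simp [MvPolynomial.coeff_monomial, hm'])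
      (fun h => absurd hm h), if_pos rfl, MvPolynomial.coeff_monomial, if_pos rfl, if_neg (Ne.symm hne)] at h1
    exact MvPolynomial.mem_support_iff.mp hm (by simpa using h1)
  have hout : ∀ j, L.get j ∉ l → p j = 0 := fun j hj => by
    rw [← MvPolynomial.support_eq_empty]
    exact Finset.eq_empty_of_forall_notMem fun m hm => hj (hcomp _ m (hsupp j m hm).symm)
  let P : D.idx → MvPolynomial (Fin n) R := fun d => if h : ∃ j, L.get j = d then p h.choose else 0
  have hP : ∀ j, P (L.get j) = p j := fun j => by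
    have h : ∃ j', L.get j' = L.get j := ⟨j, rfl⟩
    simp only [P, dif_pos h]
    rw [List.nodup_iff_injective_get.mp hd h.choose_spec]
  refine ⟨P, fun d m hm => ?_, fun B _ _ x => ?_⟩
  · by_cases h : ∃ j, L.get j = d
    · obtain ⟨j, rfl⟩ := h
      exact hsupp j m (by rwa [hP] at hm)
    · rw [show P d = 0 from dif_neg h, MvPolynomial.support_zero] at hm
      exact absurd hm (Finset.notMem_empty m)
  have h1 := hgen B (MvPolynomial.aeval fun k => tVal f B (x k))
  simp only [MvPolynomial.aeval_X, RingEquiv.symm_apply_apply] at h1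
  rw [← h1, ← hp', Fr.mapPt_prodPt]
  let z : D.idx → Γ((tObj f B).left, ⊤) := fun d =>
    (tVal f B).symm (MvPolynomial.aeval (fun k => tVal f B (x k)) (P d))
  have h2 : ((MvPolynomial.aeval fun k => tVal f B (x k)) ∘ p) = fun j => tVal f B (z (L.get j)) := by
    funext j
    simp only [z, RingEquiv.apply_symm_apply, hP, Function.comp_apply]
  rw [h2, pt_prodPt]
  simp only [L, rootProd, List.map_append, List.prod_append]
  rw [show (r.map fun c => U D (tObj f B) c (z c)).prod = 1 from List.prod_eq_one fun v hv => by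
    obtain ⟨c, hc', rfl⟩ := List.mem_map.mp hv
    obtain ⟨j, hj⟩ := List.mem_iff_get.mp (List.mem_append_right l hc')
    have : c ∉ l := fun h => (List.nodup_append.mp hd).2.2 c h c hc' rfl
    have hz0 : z c = 0 := by
      show (tVal f B).symm _ = 0
      rw [← hj, hP, hout j (hj ▸ this), map_zero, map_zero]
    rw [hz0]
    exact (U_oneParam D c).zero, _root_.mul_one]

end Local

/-- The monomials of a given root weight. -/
def monos (d : D.idx) : Finset (Fin n →₀ ℕ) :=
  open Classical in
  ((Fintype.piFinset fun _ : Fin n => Finset.range ((lam (D.P.root d)).toNat + 1)).image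
    Finsupp.equivFunOnFinite.symm).filter fun m => wt D w m = D.P.root d

theorem mem_monos (hw : ∀ k, 0 < lam (D.P.root (w k))) {d : D.idx} {m : Fin n →₀ ℕ} :
    m ∈ monos D lam w d ↔ wt D w m = D.P.root d := by
  classical
  simp only [monos, Finset.mem_filter, Finset.mem_image, Fintype.mem_piFinset, Finset.mem_range]
  refine ⟨fun h => h.2, fun h => ⟨⟨fun k => m k, fun k => ?_, Finsupp.equivFunOnFinite.symm_apply_apply m⟩, h⟩⟩
  have h1 : lam (D.P.root d) = ∑ k, (m k : ℤ) * lam (D.P.root (w k)) := by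
    rw [← h, wt, map_sum]
    simp [nsmul_eq_mul]
  have h2 : (m k : ℤ) * lam (D.P.root (w k)) ≤ lam (D.P.root d) := by
    rw [h1]
    exact Finset.single_le_sum (f := fun i => (m i : ℤ) * lam (D.P.root (w i)))
      (fun i _ => mul_nonneg (Int.natCast_nonneg _) (hw i).le) (Finset.mem_univ k)
  have h3 : (m k : ℤ) ≤ (m k : ℤ) * lam (D.P.root (w k)) := le_mul_of_one_le_right (Int.natCast_nonneg _) (hw k)
  show m k < _
  omega

/-- The polynomial with given coefficients on the monomials of root weight, evaluated. -/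
def evalC {Y : Over S} (c : D.idx → (Fin n →₀ ℕ) → Γ(Y.left, ⊤)) (x : Fin n → Γ(Y.left, ⊤)) (d : D.idx) :
    Γ(Y.left, ⊤) :=
  ∑ m ∈ monos D lam w d, c d m * ∏ k, x k ^ m k

theorem map_evalC {Y Y' : Over S} (q : Y' ⟶ Y) (c : D.idx → (Fin n →₀ ℕ) → Γ(Y.left, ⊤))
    (x : Fin n → Γ(Y.left, ⊤)) (d : D.idx) :
    q.left.appTop (evalC D lam w c x d) =
      evalC D lam w (fun d m => q.left.appTop (c d m)) (fun k => q.left.appTop (x k)) d := by
  simp only [evalC, map_sum, map_mul, map_prod, map_pow]

/-- The coefficients compute the family over `X`. -/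
def Valid (l : List D.idx) (X : Over S) (c : D.idx → (Fin n →₀ ℕ) → Γ(X.left, ⊤)) : Prop :=
  ∀ (Y : Over S) (p : Y ⟶ X) (x : Fin n → Γ(Y.left, ⊤)),
    F Y x = rootProd D Y l (evalC D lam w (fun d m => p.left.appTop (c d m)) x)

theorem valid_local (hw : ∀ k, 0 < lam (D.P.root (w k))) (hF : IsWeighted D w F) (l : List D.idx)
    (hl : l.Nodup) (hp : ∀ c ∈ l, 0 < lam (D.P.root c))
    (hcomp : ∀ (d : D.idx) (m : Fin n →₀ ℕ), D.P.root d = wt D w m → d ∈ l)
    {R : Type u} [CommRing R] (f : Spec (CommRingCat.of R) ⟶ S) [IsOpenImmersion f]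
    (B : Type u) [CommRing B] [Algebra R B] :
    ∃ c, Valid D lam w F l (tObj f B) c := by
  classical
  obtain ⟨P, hP1, hP2⟩ := exists_poly_local D lam w F (R := R) (f := f) hw hF l hl hp hcomp
  refine ⟨fun d m => (tVal f B).symm (algebraMap R B ((P d).coeff m)), fun Y p x => ?_⟩
  refine ext_tObj fun R' _ g _ B' _ _ j => ?_
  -- the test object lies over the chart
  obtain ⟨φ, hφ⟩ := Spec.map_surjective (j ≫ p).left
  letI : Algebra B B' := φ.hom.toAlgebra
  letI : Algebra R B' := ((algebraMap B B').comp (algebraMap R B)).toAlgebra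
  haveI : IsScalarTower R B B' := IsScalarTower.of_algebraMap_eq' rfl
  let k : tObj f B' ⟶ tObj g B' := Over.homMk (𝟙 _) (by
    show 𝟙 _ ≫ (tObj g B').hom = Spec.map _ ≫ f
    rw [Category.id_comp, ← Over.w (j ≫ p), ← hφ]
    show Spec.map φ ≫ Spec.map _ ≫ f = _
    rw [← Category.assoc, ← Spec.map_comp]
    rfl)
  have hk : k ≫ j ≫ p = tMap f (IsScalarTower.toAlgHom R B B') := Over.OverMorphism.ext (by
    show 𝟙 _ ≫ (j ≫ p).left = _
    rw [Category.id_comp, ← hφ]
    rfl)
  haveI : IsIso k.left := inferInstanceAs (IsIso (𝟙 _))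
  haveI : IsIso ((Over.forget S).map k) := ‹IsIso k.left›
  haveI : IsIso k := isIso_of_reflects_iso k (Over.forget S)
  rw [← cancel_epi k, hF.nat, hF.nat, comp_rootProd, comp_rootProd, hP2, rootProd, rootProd]
  congr 1
  refine List.map_congr_left fun d _ => ?_
  congr 1
  simp only [map_evalC]
  apply (tVal f B').injective
  rw [RingEquiv.apply_symm_apply]
  have hcoef : ∀ m, tVal f B' (k.left.appTop (j.left.appTop (p.left.appTop
      ((tVal f B).symm (algebraMap R B ((P d).coeff m)))))) = algebraMap R B' ((P d).coeff m) := fun m => by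
    have h := tVal_map f (IsScalarTower.toAlgHom R B B') ((tVal f B).symm (algebraMap R B ((P d).coeff m)))
    rw [RingEquiv.apply_symm_apply, ← hk] at h
    exact h.trans (IsScalarTower.algebraMap_apply R B B' _).symm
  simp only [evalC, map_sum, map_mul, map_prod, map_pow, hcoef]
  rw [MvPolynomial.aeval_def, MvPolynomial.eval₂_eq']
  refine Finset.sum_subset_zero_on_sdiff (fun m hm => (mem_monos D lam w hw).mpr (hP1 d m hm)) (fun m hm => ?_)
    fun m _ => rfl
  rw [MvPolynomial.notMem_support_iff.mp (Finset.mem_sdiff.mp hm).2, map_zero, zero_mul]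

theorem valid_unique (hw : ∀ k, 0 < lam (D.P.root (w k))) (l : List D.idx) (hl : l.Nodup)
    (hp : ∀ c ∈ l, 0 < lam (D.P.root c)) {X : Over S} {c c' : D.idx → (Fin n →₀ ℕ) → Γ(X.left, ⊤)}
    (h : Valid D lam w F l X c) (h' : Valid D lam w F l X c') :
    ∀ d ∈ l, ∀ m ∈ monos D lam w d, c d m = c' d m := by
  classical
  intro d hd m hm
  have e : (GaPts.ptOfFn (c d m) : X ⟶ Red.Ga S) = GaPts.ptOfFn (c' d m) := ext_tObj fun R _ g _ B _ _ j => by
    rw [RankOne.map_gaFn_ptOfFn, RankOne.map_gaFn_ptOfFn]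
    congr 1
    let σ := tMap g (IsScalarTower.toAlgHom R B (MvPolynomial (Fin n) B))
    let x : Fin n → Γ((tObj g (MvPolynomial (Fin n) B)).left, ⊤) := fun k => (tVal g _).symm (MvPolynomial.X k)
    have h1 := congrArg (tVal g _) (inj_global D lam l hl hp _ _ _ ((h _ (σ ≫ j) x).symm.trans (h' _ (σ ≫ j) x)) d hd)
    have hx : ∀ k, tVal g (MvPolynomial (Fin n) B) (x k) = MvPolynomial.X k := fun k =>
      RingEquiv.apply_symm_apply _ _
    have hσ : ∀ a, tVal g (MvPolynomial (Fin n) B) (σ.left.appTop a) = MvPolynomial.C (tVal g B a) := fun a =>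
      tVal_map g (IsScalarTower.toAlgHom R B (MvPolynomial (Fin n) B)) a
    simp only [evalC, map_sum, map_mul, map_prod, map_pow, hx, Over.comp_left, Scheme.Hom.comp_appTop,
      CommRingCat.hom_comp, RingHom.comp_apply, hσ] at h1
    apply (tVal g B).injective
    have key : ∀ a : (Fin n →₀ ℕ) → B, MvPolynomial.coeff m
        (∑ m' ∈ monos D lam w d, MvPolynomial.C (a m') * ∏ k, MvPolynomial.X k ^ m' k) = a m := by
      intro a
      rw [MvPolynomial.coeff_sum, Finset.sum_eq_single m]
      · rw [MvPolynomial.coeff_C_mul, ← Finsupp.prod_fintype m (fun k e => (MvPolynomial.X k : MvPolynomial (Fin n) B) ^ e)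
          (fun _ => pow_zero _), ← _root_.one_mul (Finsupp.prod _ _), ← MvPolynomial.C_1, ← MvPolynomial.monomial_eq, MvPolynomial.coeff_monomial, if_pos rfl,
          _root_.mul_one]
      · intro m' _ hne
        rw [MvPolynomial.coeff_C_mul, ← Finsupp.prod_fintype m' (fun k e => (MvPolynomial.X k : MvPolynomial (Fin n) B) ^ e)
          (fun _ => pow_zero _), ← _root_.one_mul (Finsupp.prod _ _), ← MvPolynomial.C_1, ← MvPolynomial.monomial_eq, MvPolynomial.coeff_monomial, if_neg hne,
          MulZeroClass.mul_zero]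
      · exact fun h => absurd hm h
    have h2 := congrArg (MvPolynomial.coeff m) h1
    rw [key fun m => tVal g B (j.left.appTop (c d m)), key fun m => tVal g B (j.left.appTop (c' d m))] at h2
    exact h2
  simpa [GaPts.gaFn_ptOfFn] using congrArg Red.gaFn e

/-- The root coordinates of a weighted family are polynomials over the functions of the base, with root weights. -/
theorem exists_poly (hw : ∀ k, 0 < lam (D.P.root (w k))) (hF : IsWeighted D w F) (l : List D.idx)
    (hl : l.Nodup) (hp : ∀ c ∈ l, 0 < lam (D.P.root c))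
    (hcomp : ∀ (d : D.idx) (m : Fin n →₀ ℕ), D.P.root d = wt D w m → d ∈ l) :
    ∃ P : D.idx → MvPolynomial (Fin n) Γ(S, ⊤), (∀ d, ∀ m ∈ (P d).support, wt D w m = D.P.root d) ∧
      ∀ (X : Over S) (x : Fin n → Γ(X.left, ⊤)),
        F X x = rootProd D X l fun d => MvPolynomial.eval₂ (glob X) x (P d) := by
  classical
  choose R f hf B iB j hj hxj using fun s : (𝟙_ (Over S)).left => exists_chart (𝟙_ (Over S)) s
  have hval : ∀ s, ∃ c, Valid D lam w F l (tObj (R := (R s : Type u)) (f s) (B s : Type u)) c := fun s => by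
    haveI := hf s
    exact valid_local D lam w F hw hF l hl hp hcomp (f s) (B s : Type u)
  choose c hc using hval
  have hC : ∀ (d : D.idx) (m : Fin n →₀ ℕ), ∃ C : Γ(S, ⊤), d ∈ l → m ∈ monos D lam w d →
      ∀ s, (j s).left.appTop C = c s d m := by
    intro d m
    by_cases h : d ∈ l ∧ m ∈ monos D lam w d
    swap
    · exact ⟨0, fun h1 h2 => absurd ⟨h1, h2⟩ h⟩
    obtain ⟨C, hC⟩ := exists_glue (fun s => tObj (R := (R s : Type u)) (f s) (B s : Type u)) j hj
      (fun x => ⟨x, hxj x⟩) (fun s => c s d m) fun i k W p q _ =>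
        valid_unique D lam w F hw l hl hp (c := fun d m => p.left.appTop (c i d m))
          (c' := fun d m => q.left.appTop (c k d m))
          (fun Y p' x => by simpa using hc i Y (p' ≫ p) x) (fun Y q' x => by simpa using hc k Y (q' ≫ q) x)
          d h.1 m h.2
    exact ⟨C, fun _ _ => hC⟩
  choose C hC using hC
  let P : D.idx → MvPolynomial (Fin n) Γ(S, ⊤) := fun d => ∑ m ∈ monos D lam w d, MvPolynomial.monomial m (C d m)
  refine ⟨P, fun d m hm => ?_, fun X x => ?_⟩
  · have := MvPolynomial.support_sum hm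
    obtain ⟨m', hm', h'⟩ := Finset.mem_biUnion.mp this
    obtain rfl := Finset.mem_singleton.mp (MvPolynomial.support_monomial_subset h')
    exact (mem_monos D lam w hw).mp hm'
  have hP : ∀ (Y : Over S) (y : Fin n → Γ(Y.left, ⊤)) (d : D.idx),
      MvPolynomial.eval₂ (glob Y) y (P d) = evalC D lam w (fun d m => glob Y (C d m)) y d := by
    intro Y y d
    simp only [P, MvPolynomial.eval₂_sum, MvPolynomial.eval₂_monomial, evalC,
      Finsupp.prod_fintype _ (fun k e => y k ^ e) (fun _ => pow_zero _)]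
  simp only [hP]
  let W : ∀ s, Over S := fun s => Over.mk (pullback.fst X.hom (j s).left ≫ X.hom)
  let p : ∀ s, W s ⟶ X := fun s => Over.homMk (pullback.fst _ _) rfl
  let q : ∀ s, W s ⟶ tObj (R := (R s : Type u)) (f s) (B s : Type u) := fun s => Over.homMk (pullback.snd _ _) (by
    show pullback.snd X.hom (j s).left ≫ (tObj (f s) (B s : Type u)).hom = pullback.fst _ _ ≫ X.hom
    rw [← Over.w (j s)]
    show _ = pullback.fst X.hom (j s).left ≫ X.hom
    rw [pullback.condition]
    exact congrArg (pullback.snd X.hom (j s).left ≫ ·) (Category.comp_id _))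
  refine hom_ext_cover W p (fun s => by haveI := hj s; exact inferInstanceAs (IsOpenImmersion (pullback.fst _ _)))
    (fun x' => ⟨X.hom x', ?_⟩) fun s => ?_
  · obtain ⟨y, hy⟩ := hxj (X.hom x')
    obtain ⟨z, hz, -⟩ := Scheme.Pullback.exists_preimage_pullback (f := X.hom) (g := (j (X.hom x')).left) x' y hy.symm
    exact ⟨z, hz⟩
  rw [hF.nat, comp_rootProd, hc s (W s) (q s), rootProd, rootProd]
  congr 1
  refine List.map_congr_left fun d hd => ?_
  congr 1
  simp only [map_evalC, map_glob]
  refine Finset.sum_congr rfl fun m hm => ?_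
  dsimp only
  rw [← hC d m hd hm s, ← map_glob (q s ≫ j s) (C d m), glob_self]
  rfl

/-- A weighted family lies in the products along a list containing the reachable roots. -/
theorem inProd_of_isWeighted (hw : ∀ k, 0 < lam (D.P.root (w k))) (hF : IsWeighted D w F) (l : List D.idx)
    (hl : l.Nodup) (hp : ∀ c ∈ l, 0 < lam (D.P.root c))
    (hcomp : ∀ (d : D.idx) (m : Fin n →₀ ℕ), D.P.root d = wt D w m → d ∈ l) (X : Over S)
    (x : Fin n → Γ(X.left, ⊤)) : InProd D X l (F X x) := by
  obtain ⟨P, -, hP⟩ := exists_poly D lam w F hw hF l hl hp hcomp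
  exact ⟨_, hP X x⟩

end Groth.Agent.RedSub30.RootPoly
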