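import Groth.Agent.GrpSchLib.Shear
import Groth.Agent.GrpSchLib.FibreIrr
import Groth.Agent.AlgSpPts.Sep
import Mathlib.AlgebraicGeometry.Morphisms.FlatDescent
import Mathlib.AlgebraicGeometry.Morphisms.Smooth

/-!
# An open neighbourhood of the unit section generates a group scheme with connected fibres

The product map `C × C ⟶ H` of an open subscheme containing the unit section is faithfully flat and locally of finite
presentation, and morphisms to a closed subscheme may be tested after such a base change.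
-/

set_option autoImplicit false

universe u

open CategoryTheory CategoryTheory.Limits MonoidalCategory CartesianMonoidalCategory MonObj AlgebraicGeometry

namespace Groth.Agent.RedSub30

/-- A morphism factors through a closed subscheme if it does so after a faithfully flat base change of finite
presentation. -/
theorem exists_factor_of_fppf {X Y Z P : Scheme.{u}} (a : Z ⟶ Y) [IsClosedImmersion a] (g : X ⟶ Y) (p : P ⟶ X)
    [Surjective p] [Flat p] [LocallyOfFinitePresentation p] (l : P ⟶ Z) (hl : l ≫ a = p ≫ g) :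
    ∃ g' : X ⟶ Z, g' ≫ a = g := by
  let c := pullback.fst g a
  haveI : IsClosedImmersion c := MorphismProperty.pullback_fst _ _ inferInstance
  let c' := pullback.fst p c
  haveI : IsClosedImmersion c' := MorphismProperty.pullback_fst _ _ inferInstance
  let σ : P ⟶ pullback p c := pullback.lift (𝟙 P) (pullback.lift p l hl.symm)
    (by rw [Category.id_comp]; exact (pullback.lift_fst _ _ _).symm)
  have hσ : σ ≫ c' = 𝟙 P := pullback.lift_fst _ _ _
  have hiso : IsIso c' := ⟨σ, (cancel_mono c').mp (by rw [Category.assoc, hσ, Category.comp_id, Category.id_comp]), hσ⟩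
  haveI : IsIso c := MorphismProperty.of_pullback_fst_of_descendsAlong
    (P := MorphismProperty.isomorphisms Scheme.{u}) (Q := @Surjective ⊓ @Flat ⊓ @LocallyOfFinitePresentation)
    (f := p) ⟨⟨inferInstance, inferInstance⟩, inferInstance⟩ hiso
  exact ⟨inv c ≫ pullback.snd g a, by rw [Category.assoc, ← pullback.condition, IsIso.inv_hom_id_assoc]⟩

variable {S : Scheme.{u}} {H C : Over S} [GrpObj H] (c : C ⟶ H) [IsOpenImmersion c.left] [Smooth H.hom]

omit [GrpObj H] in
theorem isOpenImmersion_tensor : IsOpenImmersion (c ⊗ₘ c).left := by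
  rw [Over.tensorHom_left]
  infer_instance

theorem flat_mul_left : Flat μ[H].left := by
  rw [GrpSchLib.mul_eq_id_whiskerRight]
  exact GrpSchLib.flat_whiskerRight_mul (𝟙 H)

theorem flat_mul_open : Flat ((c ⊗ₘ c) ≫ μ[H]).left := by
  haveI := isOpenImmersion_tensor c
  haveI : Flat μ[H].left := flat_mul_left
  rw [Over.comp_left]
  infer_instance

theorem locallyOfFinitePresentation_mul_open : LocallyOfFinitePresentation ((c ⊗ₘ c) ≫ μ[H]).left := by
  haveI := isOpenImmersion_tensor c
  haveI : LocallyOfFinitePresentation (H ⊗ H).hom := by rw [Over.tensorObj_hom]; infer_instance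
  haveI : LocallyOfFinitePresentation (μ[H].left ≫ H.hom) := by rw [Over.w μ[H]]; infer_instance
  haveI : LocallyOfFinitePresentation μ[H].left := AlgSpPts.locallyOfFinitePresentation_of_comp μ[H].left H.hom
  rw [Over.comp_left]
  infer_instance

theorem surjective_mul_open (hconn : ∀ s : S, _root_.IsConnected (H.hom ⁻¹' {s}))
    (hone : Set.range η[H].left ⊆ Set.range c.left) : Surjective ((c ⊗ₘ c) ≫ μ[H]).left := by
  refine ⟨fun z => ?_⟩
  have hfac : ∀ {X : Over S} (g : X ⟶ H), Set.range g.left ⊆ Set.range c.left → ∃ p : X ⟶ C, p ≫ c = g := by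
    intro X g hg
    have e1 := IsOpenImmersion.lift_fac c.left g.left hg
    refine ⟨Over.homMk (IsOpenImmersion.lift c.left g.left hg) ?_, Over.OverMorphism.ext e1⟩
    rw [← Over.w c, reassoc_of% e1, Over.w g]
  let T0 : Over S := Over.mk (H.left.fromSpecResidueField z ≫ H.hom)
  let x0 : T0 ⟶ H := Over.homMk (H.left.fromSpecResidueField z) rfl
  obtain ⟨hgi, -⟩ := GrpSchLib.FibreIrr.geometricallyIrreducible_fib H (H.hom z) (hconn (H.hom z))
  haveI hgi' : GeometricallyIrreducible (H.hom.fiberToSpecResidueField (H.hom z)) := hgi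
  have hT0 : T0.hom = Spec.map (H.hom.residueFieldMap z) ≫ S.fromSpecResidueField (H.hom z) :=
    (Scheme.Hom.SpecMap_residueFieldMap_fromSpecResidueField _ _).symm
  haveI : IrreducibleSpace (H ⊗ T0).left := by
    let i : (H ⊗ T0).left ≅ pullback (H.hom.fiberToSpecResidueField (H.hom z))
        (Spec.map (H.hom.residueFieldMap z)) :=
      pullback.congrHom rfl hT0 ≪≫ (pullbackLeftPullbackSndIso H.hom (S.fromSpecResidueField (H.hom z)) _).symm
    haveI : IrreducibleSpace ↥(pullback (H.hom.fiberToSpecResidueField (H.hom z))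
        (Spec.map (H.hom.residueFieldMap z))) := GeometricallyIrreducible.geometrically_irreducibleSpace
          _ _ _ (IsPullback.of_hasPullback _ _)
    rw [irreducibleSpace_def, Set.top_eq_univ,
      ← (Set.range_eq_univ.mpr i.inv.homeomorph.surjective : Set.range i.inv = _), ← Set.image_univ]
    exact (IrreducibleSpace.isIrreducible_univ _).image _ i.inv.continuous.continuousOn
  let q : H ⊗ T0 ⟶ H := (snd H T0 ≫ x0) * (fst H T0)⁻¹
  let W : Set H.left := Set.range c.left
  have hW : IsOpen W := c.left.opensRange.2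
  have h1 : ∀ {X : Over S}, Set.range (1 : X ⟶ H).left ⊆ W := by
    intro X
    rintro _ ⟨a, rfl⟩
    refine hone ⟨(toUnit X).left a, ?_⟩
    rw [← Scheme.Hom.comp_apply, ← Over.comp_left, MonObj.one_eq_one, MonObj.comp_one]
  obtain ⟨w0⟩ : Nonempty T0.left := ⟨IsLocalRing.closedPoint (H.left.residueField z)⟩
  have nA : ((fst H T0).left ⁻¹' W).Nonempty :=
    ⟨(lift (1 : T0 ⟶ H) (𝟙 T0)).left w0, by
      show (fst H T0).left ((lift (1 : T0 ⟶ H) (𝟙 T0)).left w0) ∈ W
      rw [← Scheme.Hom.comp_apply, ← Over.comp_left, lift_fst]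
      exact h1 ⟨w0, rfl⟩⟩
  have nB : (q.left ⁻¹' W).Nonempty :=
    ⟨(lift x0 (𝟙 T0)).left w0, by
      show q.left ((lift x0 (𝟙 T0)).left w0) ∈ W
      rw [← Scheme.Hom.comp_apply, ← Over.comp_left, MonObj.comp_mul, GrpObj.comp_inv, lift_fst, lift_snd_assoc,
        Category.id_comp, mul_inv_cancel]
      exact h1 ⟨w0, rfl⟩⟩
  obtain ⟨y, hy1, hy2⟩ := nonempty_preirreducible_inter (hW.preimage (fst H T0).left.continuous)
    (hW.preimage q.left.continuous) nA nB
  let P : Over S := Over.mk ((H ⊗ T0).left.fromSpecResidueField y ≫ (H ⊗ T0).hom)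
  let y' : P ⟶ H ⊗ T0 := Over.homMk ((H ⊗ T0).left.fromSpecResidueField y) rfl
  have hr : ∀ w : H ⊗ T0 ⟶ H, w.left y ∈ W → Set.range (y' ≫ w).left ⊆ W := by
    rintro w hw _ ⟨a, rfl⟩
    rw [Over.comp_left, Scheme.Hom.comp_apply]
    show w.left ((H ⊗ T0).left.fromSpecResidueField y a) ∈ W
    rw [Scheme.fromSpecResidueField_apply]
    exact hw
  obtain ⟨p₁, hp₁⟩ := hfac _ (hr _ hy1)
  obtain ⟨p₂, hp₂⟩ := hfac _ (hr q hy2)
  have e1 : lift p₂ p₁ ≫ (c ⊗ₘ c) ≫ μ[H] = y' ≫ snd H T0 ≫ x0 := by
    rw [← Category.assoc, lift_map, ← CategoryTheory.Hom.mul_def, hp₁, hp₂, MonObj.comp_mul, GrpObj.comp_inv,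
      inv_mul_cancel_right]
  refine ⟨(lift p₂ p₁).left (IsLocalRing.closedPoint _), ?_⟩
  rw [← Scheme.Hom.comp_apply, ← Over.comp_left, e1, Over.comp_left, Over.comp_left, Scheme.Hom.comp_apply,
    Scheme.Hom.comp_apply]
  exact Scheme.fromSpecResidueField_apply _ _

end Groth.Agent.RedSub30
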