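import Groth.Agent.RedSub30.TypeRUnip
import Groth.Agent.GrpSchLib.FibreIrr

/-!
# A subgroup of type (R) with positive root set is the product of the torus and its root groups
-/

set_option autoImplicit false
set_option synthInstance.maxHeartbeats 100000

universe u

open CategoryTheory CategoryTheory.Limits MonoidalCategory CartesianMonoidalCategory AlgebraicGeometry WithConv
open scoped MonObj AddMonoidAlgebra

namespace Groth.Agent.RedSub30

open BigCell29 GrpSchLib.AffineHopf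

variable {S : Scheme.{u}} {G H : Over S} [GrpObj G] [GrpObj H] (D : Red.SplitRed G) (h : H ⟶ G)
  [IsMonHom h] [IsImmersion h.left] [QuasiCompact h.left] [Smooth H.hom] (t : D.T ⟶ H) (ht : t ≫ h = D.i)
  {R' : Set D.idx} (hR' : ∀ a : D.idx, (∃ v : Red.Ga S ⟶ H, v ≫ h = D.u a) ↔ a ∈ R')
  (lam : D.M →+ ℤ) [ConnectedSpace S] {m : ℕ} {e : Fin m → D.idx} (he : RedSub.Enumerates R' e)
  (hpos : ∀ a ∈ R', 0 < lam (D.P.root a))

include t ht hR' he hpos

/-- The products factor through the subgroup. -/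
theorem exists_unip : ∃ v : RedSub.pow (Red.Ga S) m ⟶ H,
    v ≫ h = RedSub.prodMap (Red.Ga S) m (fun k => D.u (e k)) := by
  refine exists_factor_of_pts h _ fun R _ f _ B _ _ j => ?_
  haveI : IsAffineHom G.hom := D.reductive.1
  obtain ⟨A, _, _, ⟨Md⟩⟩ := exists_model f G
  obtain ⟨x, -, hx, ⟨z, hz⟩, -⟩ :=
    exists_prodPt D h t ht hR' lam hpos Md (e₂ := e) (fun l => he.2 ▸ Set.mem_range_self l) j
  exact ⟨z, hz.trans hx⟩

variable (v : RedSub.pow (Red.Ga S) m ⟶ H) (hv : v ≫ h = RedSub.prodMap (Red.Ga S) m (fun k => D.u (e k)))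
include v hv

omit hR' he hpos [ConnectedSpace S] [QuasiCompact h.left] [Smooth H.hom] [IsImmersion h.left] in
theorem mul_comp_eq : ((t ⊗ₘ v) ≫ μ[H]) ≫ h = RedSub.borelMap D e := by
  rw [show (t ⊗ₘ v) ≫ μ[H] = (fst _ _ ≫ t) * (snd _ _ ≫ v) by
    rw [CategoryTheory.Hom.mul_def]; congr 1]
  rw [MonObj.mul_comp, Category.assoc, Category.assoc, ht, hv]
  rfl

theorem mono_unip : Mono v := by
  haveI := mono_prod D h t ht hR' lam he hpos
  haveI : Mono (v ≫ h) := by rw [hv]; infer_instance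
  exact mono_of_mono v h

theorem isClosedImmersion_unip : IsClosedImmersion v.left := by
  haveI : IsClosedImmersion (v.left ≫ h.left) := by
    rw [← Over.comp_left, hv]; exact isClosedImmersion_prod D h t ht hR' lam he hpos
  exact IsClosedImmersion.of_comp v.left h.left

/-- The product of the torus and the root groups is open. -/
theorem isOpenImmersion_borel (hreg : ∀ i, lam (D.P.root i) ≠ 0) :
    IsOpenImmersion ((t ⊗ₘ v) ≫ μ[H]).left := by
  let M := (t ⊗ₘ v) ≫ μ[H]
  let g : cellObj D 0 m ⟶ H := snd _ _ ≫ M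
  have hg : g ≫ h = RedSub.cellMap D (Fin.elim0 : Fin 0 → D.idx) e := by
    show (snd _ _ ≫ M) ≫ h = _
    rw [Category.assoc, mul_comp_eq D h t ht v hv]
    have e0 : (fst (RedSub.pow (Red.Ga S) 0) (D.T ⊗ RedSub.pow (Red.Ga S) m) ≫
        RedSub.prodMap (Red.Ga S) 0 (fun k => D.u ((Fin.elim0 : Fin 0 → D.idx) k))) = (1 : _ ⟶ G) :=
      MonObj.comp_one _
    rw [RedSub.borelMap, RedSub.cellMap, e0, one_mul, MonObj.comp_mul]
  have hn : RedSub.Enumerates (R' ∩ {i | 0 < (-lam) (D.P.root i)}) (Fin.elim0 : Fin 0 → D.idx) := by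
    refine ⟨fun a => a.elim0, ?_⟩
    rw [Set.range_eq_empty]
    refine (Set.eq_empty_iff_forall_notMem.mpr fun a ha => ?_).symm
    have h1 := hpos a ha.1
    have h2 : 0 < (-lam) (D.P.root a) := ha.2
    simp only [AddMonoidHom.neg_apply] at h2
    omega
  have hp : RedSub.Enumerates (R' ∩ {i | 0 < lam (D.P.root i)}) e := by
    rw [Set.inter_eq_left.mpr (show R' ⊆ {i | 0 < lam (D.P.root i)} from hpos)]; exact he
  haveI := isOpenImmersion_cell D h t ht hR' hreg hn hp g hg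
  let k : D.T ⊗ RedSub.pow (Red.Ga S) m ⟶ cellObj D 0 m := lift (toUnit _) (𝟙 _)
  haveI : IsIso k := ⟨⟨snd _ _, lift_snd _ _, CartesianMonoidalCategory.hom_ext _ _
    (toUnit_unique _ _) (by simp [k])⟩⟩
  haveI : IsIso k.left := inferInstanceAs (IsIso ((Over.forget _).map k))
  have e1 : M = k ≫ g := by simp [k, g]
  show IsOpenImmersion M.left
  rw [e1, Over.comp_left]
  infer_instance

/-- The points of the product of the torus and the root groups are closed under division. -/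
theorem exists_div (hreg : ∀ i, lam (D.P.root i) ≠ 0) {X : Over S} (p q : X ⟶ D.T ⊗ RedSub.pow (Red.Ga S) m) :
    ∃ r : X ⟶ D.T ⊗ RedSub.pow (Red.Ga S) m,
      r ≫ RedSub.borelMap D e = (p ≫ RedSub.borelMap D e) * (q ≫ RedSub.borelMap D e)⁻¹ := by
  haveI := isOpenImmersion_borel D h t ht hR' lam he hpos v hv hreg
  haveI : IsImmersion (RedSub.borelMap D e).left := by
    rw [← mul_comp_eq D h t ht v hv, Over.comp_left]; infer_instance
  refine exists_factor_of_pts _ _ fun R _ f _ B _ _ j => ?_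
  haveI : IsAffineHom G.hom := D.reductive.1
  obtain ⟨A, _, _, ⟨Md⟩⟩ := exists_model f G
  set F := Md.frame D
  have hT : ∀ w : tObj f B ⟶ D.T, ∃ χ : Multiplicative D.M →* B, Md.pt (F.T.tor χ) = w ≫ D.i := by
    intro w
    obtain ⟨χ, hχ⟩ := (chPt_bijective f).surjective (w ≫ D.split.hom.hom.hom)
    refine ⟨χ, ?_⟩
    rw [Md.pt_tor, torG, hχ, Category.assoc w, ← Category.assoc D.split.hom.hom.hom,
      show D.split.hom.hom.hom ≫ D.split.inv.hom.hom = 𝟙 D.T from
        congrArg (fun k => k.hom.hom) D.split.hom_inv_id, Category.id_comp]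
  have hb : ∀ w : tObj f B ⟶ D.T ⊗ RedSub.pow (Red.Ga S) m, ∃ (χ : Multiplicative D.M →* B) (x : Fin m → B),
      w ≫ RedSub.borelMap D e = Md.pt (F.T.tor χ * F.prodPt e x) := by
    intro w
    obtain ⟨χ, hχ⟩ := hT (w ≫ fst _ _)
    obtain ⟨x, hx⟩ := (powPt_bijective m).surjective (w ≫ snd _ _)
    refine ⟨χ, x, ?_⟩
    rw [RedSub.borelMap, MonObj.comp_mul, ← Category.assoc, ← Category.assoc, Md.pt_mul, hχ, ← hx,
      Md.powPt_prodMap]
  obtain ⟨χ₂, x₂, h₂⟩ := hb (j ≫ p)
  obtain ⟨χ₁, x₁, h₁⟩ := hb (j ≫ q)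
  have hm : ∀ l, e l ∈ R' := fun l => he.2 ▸ ⟨l, rfl⟩
  have hU : ∀ x : Fin m → B, (F.cochar lam).InU (F.prodPt e x) := fun x =>
    F.prodPt_inU lam _ (fun l => hpos _ (hm l)) x
  have hM : ∀ x : Fin m → B, F.prodPt e x ∈ (subPts h Md).mem B := fun x =>
    prodPt_mem (W := subPts h Md) _ (fun l => full_of_mem D h hR' Md (hm l)) x
  obtain ⟨_, _, hp⟩ := exists_split D h t ht hR' lam he hpos Md
  obtain ⟨x, hx⟩ := hp.exists_coords (tStable_subPts D h t ht Md)
    (mul_mem (hM x₂) (inv_mem (hM x₁))) (Coact.InU.mul _ (hU x₂) (Coact.InU.inv _ (hU x₁)))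
  let χi : Multiplicative D.M →* B := χ₁.comp invMonoidHom
  have hχi : F.T.tor χi = (F.T.tor χ₁)⁻¹ := eq_inv_of_mul_eq_one_left (by
    rw [← map_mul, show χi * χ₁ = 1 from MonoidHom.ext fun a => by simp [χi, ← map_mul], map_one])
  refine ⟨lift (chPt f (χ₂ * χi) ≫ D.split.inv.hom.hom)
    (powPt f fun l => (χ₁ (.ofAdd (F.root (e l)))) * x l), ?_⟩
  rw [MonObj.comp_mul j, GrpObj.comp_inv, ← Category.assoc j, ← Category.assoc j, h₂, h₁, RedSub.borelMap,
    MonObj.comp_mul, lift_fst_assoc, lift_snd_assoc, Md.powPt_prodMap,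
    Category.assoc, show chPt f (χ₂ * χi) ≫ D.split.inv.hom.hom ≫ D.i = Md.pt (F.T.tor (χ₂ * χi)) by
      rw [Md.pt_tor, torG], ← Md.pt_mul, ← Md.pt_inv, ← Md.pt_mul]
  refine congrArg Md.pt ?_
  rw [← conj_prodPt, hx, map_mul, hχi]
  simp only [F]
  group

/-- The product of the torus and the root groups is the whole subgroup. -/
theorem isIso_borel (hconn : RedSub.HasConnectedFibres H) (hreg : ∀ i, lam (D.P.root i) ≠ 0)
    [LocallyOfFiniteType H.hom] : IsIso ((t ⊗ₘ v) ≫ μ[H]) := by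
  have hopen := isOpenImmersion_borel D h t ht hR' lam he hpos v hv hreg
  set M := (t ⊗ₘ v) ≫ μ[H] with hM
  haveI : IsOpenImmersion M.left := hopen
  have hh : Mono h := ⟨fun u w huw => Over.OverMorphism.ext ((cancel_mono h.left).mp (congrArg CommaMorphism.left huw))⟩
  have hdiv : ∀ {X : Over S} (g₁ g₂ : X ⟶ H), Set.range g₁.left ⊆ Set.range M.left →
      Set.range g₂.left ⊆ Set.range M.left → Set.range (g₁ * g₂⁻¹).left ⊆ Set.range M.left := by
    intro X g₁ g₂ h₁ h₂
    have hfac : ∀ g : X ⟶ H, Set.range g.left ⊆ Set.range M.left → ∃ p : X ⟶ _, p ≫ M = g := by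
      intro g hg
      have e1 := IsOpenImmersion.lift_fac M.left g.left hg
      refine ⟨Over.homMk (IsOpenImmersion.lift M.left g.left hg) ?_, Over.OverMorphism.ext e1⟩
      rw [← Over.w M, reassoc_of% e1, Over.w g]
    obtain ⟨p, rfl⟩ := hfac g₁ h₁
    obtain ⟨q, rfl⟩ := hfac g₂ h₂
    obtain ⟨r, hr⟩ := exists_div D h t ht hR' lam he hpos v hv hreg p q
    have : r ≫ M = (p ≫ M) * (q ≫ M)⁻¹ := by
      rw [← cancel_mono h, MonObj.mul_comp, GrpObj.inv_comp]
      simp only [Category.assoc]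
      rw [show M ≫ h = RedSub.borelMap D e from mul_comp_eq D h t ht v hv]
      exact hr
    rw [← this, Over.comp_left]
    rintro _ ⟨z, rfl⟩
    exact ⟨r.left z, rfl⟩
  have hone : ∀ {X : Over S}, Set.range (1 : X ⟶ H).left ⊆ Set.range M.left := by
    intro X
    obtain ⟨w, hw⟩ := exists_prod_factor D h t ht hR' lam he hpos (1 : X ⟶ G) fun R _ f _ B _ _ A _ _ Md j =>
      ⟨1, by rw [MonObj.comp_one]; exact Md.pt_one, one_mem ((subPts h Md).mem B), Coact.inU_one _⟩
    have : lift (1 : X ⟶ D.T) w ≫ M = 1 := by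
      rw [← cancel_mono h, Category.assoc, hM, mul_comp_eq D h t ht v hv, RedSub.borelMap, MonObj.comp_mul,
        lift_fst_assoc, lift_snd_assoc, hw, MonObj.one_comp, mul_one]
      exact (MonObj.one_comp h).symm
    rw [← this, Over.comp_left]
    rintro _ ⟨z, rfl⟩
    exact ⟨_, rfl⟩
  suffices hsurj : Surjective M.left by
    haveI : IsIso M.left := (isIso_iff_isOpenImmersion_and_surjective _).mpr ⟨inferInstance, hsurj⟩
    haveI : IsIso ((Over.forget S).map M) := ‹IsIso M.left›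
    exact isIso_of_reflects_iso M (Over.forget S)
  refine ⟨fun z => ?_⟩
  let T0 : Over S := Over.mk (H.left.fromSpecResidueField z ≫ H.hom)
  let x0 : T0 ⟶ H := Over.homMk (H.left.fromSpecResidueField z) rfl
  obtain ⟨hgi, -⟩ := GrpSchLib.FibreIrr.geometricallyIrreducible_fib H (H.hom z) (hconn (H.hom z))
  haveI hgi' : GeometricallyIrreducible (H.hom.fiberToSpecResidueField (H.hom z)) := hgi
  have hT0 : T0.hom = Spec.map (H.hom.residueFieldMap z) ≫ S.fromSpecResidueField (H.hom z) :=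
    (Scheme.Hom.SpecMap_residueFieldMap_fromSpecResidueField _ _).symm
  haveI : IrreducibleSpace (H ⊗ T0).left := by
    let i : (H ⊗ T0).left ≅ pullback (H.hom.fiberToSpecResidueField (H.hom z))
        (Spec.map (H.hom.residueFieldMap z)) :=
      pullback.congrHom rfl hT0 ≪≫ (pullbackLeftPullbackSndIso H.hom (S.fromSpecResidueField (H.hom z)) _).symm
    haveI : IrreducibleSpace ↥(pullback (H.hom.fiberToSpecResidueField (H.hom z))
        (Spec.map (H.hom.residueFieldMap z))) := GeometricallyIrreducible.geometrically_irreducibleSpace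
          _ _ _ (IsPullback.of_hasPullback _ _)
    rw [irreducibleSpace_def, Set.top_eq_univ,
      ← (Set.range_eq_univ.mpr i.inv.homeomorph.surjective : Set.range i.inv = _), ← Set.image_univ]
    exact (IrreducibleSpace.isIrreducible_univ _).image _ i.inv.continuous.continuousOn
  let q : H ⊗ T0 ⟶ H := (snd H T0 ≫ x0) * fst H T0
  let W : Set H.left := Set.range M.left
  have hW : IsOpen W := M.left.opensRange.2
  obtain ⟨w0⟩ : Nonempty T0.left := ⟨IsLocalRing.closedPoint (H.left.residueField z)⟩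
  have nA : ((fst H T0).left ⁻¹' W).Nonempty :=
    ⟨(lift (1 : T0 ⟶ H) (𝟙 T0)).left w0, by
      show (fst H T0).left ((lift (1 : T0 ⟶ H) (𝟙 T0)).left w0) ∈ W
      rw [← Scheme.Hom.comp_apply, ← Over.comp_left, lift_fst]
      exact hone (X := T0) ⟨w0, rfl⟩⟩
  have nB : (q.left ⁻¹' W).Nonempty :=
    ⟨(lift x0⁻¹ (𝟙 T0)).left w0, by
      show q.left ((lift x0⁻¹ (𝟙 T0)).left w0) ∈ W
      rw [← Scheme.Hom.comp_apply, ← Over.comp_left, MonObj.comp_mul, lift_fst, lift_snd_assoc, Category.id_comp,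
        mul_inv_cancel]
      exact hone (X := T0) ⟨w0, rfl⟩⟩
  obtain ⟨y, hy1, hy2⟩ := nonempty_preirreducible_inter (hW.preimage (fst H T0).left.continuous)
    (hW.preimage q.left.continuous) nA nB
  let P : Over S := Over.mk ((H ⊗ T0).left.fromSpecResidueField y ≫ (H ⊗ T0).hom)
  let y' : P ⟶ H ⊗ T0 := Over.homMk ((H ⊗ T0).left.fromSpecResidueField y) rfl
  have hr : ∀ w : H ⊗ T0 ⟶ H, w.left y ∈ W → Set.range (y' ≫ w).left ⊆ W := by
    rintro w hw _ ⟨c, rfl⟩
    rw [Over.comp_left, Scheme.Hom.comp_apply]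
    show w.left ((H ⊗ T0).left.fromSpecResidueField y c) ∈ W
    rw [Scheme.fromSpecResidueField_apply]
    exact hw
  have key := hdiv _ _ (hr q hy2) (hr _ hy1)
  have e1 : (y' ≫ q) * (y' ≫ fst H T0)⁻¹ = y' ≫ snd H T0 ≫ x0 := by
    rw [MonObj.comp_mul, mul_inv_cancel_right]
  rw [e1, Over.comp_left, Over.comp_left] at key
  obtain ⟨w, hw⟩ := key ⟨IsLocalRing.closedPoint _, rfl⟩
  refine ⟨w, hw.trans ?_⟩
  rw [Scheme.Hom.comp_apply, Scheme.Hom.comp_apply]
  exact Scheme.fromSpecResidueField_apply _ _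

end Groth.Agent.RedSub30
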