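import Groth.Agent.RedSub30.ProdLevels

/-!
# A root group normalises the products of a closed set stable under adding its root
-/

set_option autoImplicit false

universe u

open CategoryTheory CategoryTheory.Limits AlgebraicGeometry MonoidalCategory CartesianMonoidalCategory
open scoped MonObj

noncomputable section

namespace Groth.Agent.RedSub30.RootPoly

open GrpSchLib Rank2Red38

variable {S : Scheme.{u}} {G : Over S} [GrpObj G] {D : Red.SplitRed G} {lam : Module.Dual ℤ D.M}

/-- A weighted family trivial on the axes has no coordinates whose only monomials lie on the axes. -/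
theorem IsPosClosed.inProd_axes {l l' : List D.idx} (hl : IsPosClosed D lam l) (hl' : IsPosClosed D lam l')
    {n : ℕ} {w : Fin n → D.idx} (hw : ∀ k, w k ∈ l) {F : ∀ X : Over S, (Fin n → Γ(X.left, ⊤)) → (X ⟶ G)}
    (hF : IsWeighted D w F)
    (htop : ∀ d ∈ l, d ∉ l' → ∀ q : Fin n →₀ ℕ, wt D w q = D.P.root d → ∃ i, q = Finsupp.single i 1 ∧ w i = d)
    (haxis : ∀ d ∈ l, d ∉ l' → ∀ i, w i = d → ∀ (X : Over S) (t : Γ(X.left, ⊤)), F X (Pi.single i t) = 1)
    (X : Over S) (x : Fin n → Γ(X.left, ⊤)) : InProd D X l' (F X x) := by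
  classical
  have hwp : ∀ k, 0 < lam (D.P.root (w k)) := fun k => hl.pos _ (hw k)
  obtain ⟨P, hP1, hP2⟩ := exists_poly D lam w F hwp hF l hl.nodup hl.pos (hl.mem_of_wt hw)
  rw [hP2 X x]
  refine hl'.inProd_sub _ l fun d hd hd' => ?_
  rw [MvPolynomial.eval₂_eq']
  refine Finset.sum_eq_zero fun q hq => ?_
  obtain ⟨i, rfl, hi⟩ := htop d hd hd' q (hP1 _ q hq)
  have h := hP2 X (Pi.single i (x i))
  rw [haxis d hd hd' i hi] at h
  have h1 : (1 : X ⟶ G) = rootProd D X l 0 :=
    (List.prod_eq_one fun g hg => by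
      obtain ⟨c, -, rfl⟩ := List.mem_map.mp hg
      exact (U_oneParam D c).zero).symm
  have h2 := inj_global D lam l hl.nodup hl.pos X _ _ (h1.symm.trans h) d hd
  rw [MvPolynomial.eval₂_eq', Finset.sum_eq_single (Finsupp.single i 1) (fun q' hq' hne => ?_)
    (fun h' => absurd hq h')] at h2
  · rw [Finset.prod_eq_single i (fun j _ hj => by rw [Finsupp.single_eq_of_ne hj, pow_zero])
      (fun h' => absurd (Finset.mem_univ i) h'), Finsupp.single_eq_same, pow_one, Pi.single_eq_same] at h2
    rw [Finset.prod_eq_single i (fun j _ hj => by rw [Finsupp.single_eq_of_ne hj, pow_zero])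
      (fun h' => absurd (Finset.mem_univ i) h'), Finsupp.single_eq_same, pow_one]
    exact h2.symm
  · obtain ⟨j, rfl, -⟩ := htop d hd hd' q' (hP1 _ q' hq')
    have hji : j ≠ i := fun e => hne (e ▸ rfl)
    rw [Finset.prod_eq_zero (Finset.mem_univ j) (by rw [Finsupp.single_eq_same, pow_one, Pi.single_eq_of_ne hji]),
      MulZeroClass.mul_zero]

/-- A root group normalises the products of a closed set to which adding its root adds nothing new. -/
theorem IsPosClosed.conj_root {m : ℕ} {e : Fin m → D.idx} {b : D.idx} (hl' : IsPosClosed D lam (List.ofFn e))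
    (hl : IsPosClosed D lam (b :: List.ofFn e)) (X : Over S) (s : Γ(X.left, ⊤)) {g : X ⟶ G}
    (hg : InProd D X (List.ofFn e) g) : InProd D X (List.ofFn e) (U D X b s * g * (U D X b s)⁻¹) := by
  classical
  obtain ⟨z, rfl⟩ := hg
  have hb : b ∉ List.ofFn e := (List.nodup_cons.mp hl.nodup).1
  have hmem : ∀ k, Fin.append ![b] e k ∈ b :: List.ofFn e := fun k => by
    induction k using Fin.addCases with
    | left i =>
      rw [Fin.append_left, Matrix.cons_val_fin_one]
      exact List.mem_cons_self
    | right i =>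
      rw [Fin.append_right]
      exact List.mem_cons_of_mem _ (List.mem_ofFn.mpr ⟨i, rfl⟩)
  have h := hl.inProd_axes hl' hmem (isWeighted_conjPt ![b] e) (fun d hd hd' q hq => ?_)
    (fun d hd hd' i hi Y t => ?_) X (Fin.append ![s] fun k => z (e k))
  · rw [rootProd_ofFn]
    simpa [conjPt, wordPt] using h
  · obtain rfl : d = b := (List.mem_cons.mp hd).resolve_right hd'
    have hsplit : wt D (Fin.append ![d] e) q =
        q (Fin.castAdd m 0) • D.P.root d + ∑ k, q (Fin.natAdd 1 k) • D.P.root (e k) := by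
      rw [wt, Fin.sum_univ_add, Fin.sum_univ_one, Fin.append_left, Matrix.cons_val_zero]
      simp only [Fin.append_right]
    rw [hsplit] at hq
    have hpe : ∀ k, 0 < lam (D.P.root (e k)) := fun k => hl'.pos _ (List.mem_ofFn.mpr ⟨k, rfl⟩)
    have hpd : 0 < lam (D.P.root d) := hl.pos d List.mem_cons_self
    have hne : q (Fin.castAdd m 0) ≠ 0 := fun h0 => hb <|
      hl'.mem_of_wt (fun k => List.mem_ofFn.mpr ⟨k, rfl⟩) d
        (Finsupp.equivFunOnFinite.symm fun k => q (Fin.natAdd 1 k))
        (by rw [← hq, h0, zero_smul, zero_add, wt]; simp)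
    have h1 := congrArg lam hq
    rw [map_add, map_sum, map_nsmul, nsmul_eq_mul] at h1
    simp only [map_nsmul, nsmul_eq_mul] at h1
    have hnn : ∀ k ∈ Finset.univ, 0 ≤ (q (Fin.natAdd 1 k) : ℤ) * lam (D.P.root (e k)) :=
      fun k _ => mul_nonneg (Int.natCast_nonneg _) (hpe k).le
    have hsum := Finset.sum_nonneg hnn
    have hge : (1 : ℤ) ≤ q (Fin.castAdd m 0) := by exact_mod_cast Nat.one_le_iff_ne_zero.mpr hne
    have hone : q (Fin.castAdd m 0) = 1 := by
      have : (q (Fin.castAdd m 0) : ℤ) = 1 := by nlinarith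
      exact_mod_cast this
    rw [hone, Nat.cast_one, one_mul] at h1
    have hz : ∀ k, q (Fin.natAdd 1 k) = 0 := fun k => by
      have := (Finset.sum_eq_zero_iff_of_nonneg hnn).mp (by linarith) k (Finset.mem_univ k)
      exact_mod_cast (mul_eq_zero.mp this).resolve_right (hpe k).ne'
    refine ⟨Fin.castAdd m 0, Finsupp.ext fun k => ?_, by rw [Fin.append_left, Matrix.cons_val_zero]⟩
    induction k using Fin.addCases with
    | left i =>
      rw [Subsingleton.elim i 0, hone, Finsupp.single_eq_same]
    | right i =>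
      rw [hz i, Finsupp.single_eq_of_ne (fun h' => by simpa [Fin.ext_iff] using h')]
  · obtain rfl : d = b := (List.mem_cons.mp hd).resolve_right hd'
    obtain rfl : i = Fin.castAdd m 0 := by
      induction i using Fin.addCases with
      | left j => rw [Subsingleton.elim j 0]
      | right j =>
        rw [Fin.append_right] at hi
        exact absurd (List.mem_ofFn.mpr ⟨j, hi⟩) hb
    show wordPt D Y ![d] _ * wordPt D Y e _ * (wordPt D Y ![d] _)⁻¹ = 1
    rw [show (fun k => (Pi.single (Fin.castAdd m 0) t : Fin (1 + m) → Γ(Y.left, ⊤)) (Fin.natAdd 1 k)) = 0 from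
      funext fun k => Pi.single_eq_of_ne (fun h' => by simpa [Fin.ext_iff] using h') _,
      (isWeighted_wordPt D e).zero, mul_one, mul_inv_cancel]

end Groth.Agent.RedSub30.RootPoly
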