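import Groth.Agent.CellExt29.Extend
import Groth.Agent.Rank2Red38.R1Cell
import Groth.Agent.RedRk29.DualPinning
import Groth.Agent.RedRk29.BruhatCover
import Groth.Agent.RedSub30.ClosedConj
import Groth.Agent.RedSub30.ProdGroup
import Groth.Agent.S5509

/-!
# Homomorphisms of a torus trivial on the coroots extend to the split group

The value on a point of the big cell is the value on its torus part; it is multiplicative because left translation
by the torus, by negative root elements and by simple root elements changes it by the expected factor.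
-/

set_option autoImplicit false
set_option maxHeartbeats 800000

universe u

open CategoryTheory CategoryTheory.Limits AlgebraicGeometry MonoidalCategory CartesianMonoidalCategory
open scoped MonObj

noncomputable section

namespace Groth.Agent.RedSub30.CellChar

open GrpSchLib GrpSchLib.RankOne Rank2Red38 RedSub30.RootPoly BigCell29

variable {S : Scheme.{u}} {G : Over S} [GrpObj G] (D : Red.SplitRed G) (b : D.P.Base) {n m : ℕ}
  (eneg : Fin n → D.idx) (epos : Fin m → D.idx)
  (hneg : RedSub.Enumerates (RedSub.negRoots D.P b) eneg) (hpos : RedSub.Enumerates (RedSub.posRoots D.P b) epos)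
  {H : Over S} [GrpObj H] (ψ : D.T ⟶ H)

/-- The value on a cell point. -/
def fT : cellObj D n m ⟶ H := snd _ _ ≫ fst _ _ ≫ ψ

/-- A point of the group whose left translations multiply the value on the cell by a constant. -/
def Good {X : Over S} (e : (X ⟶ G) × (X ⟶ H)) : Prop :=
  ∀ (X' : Over S) (p : X' ⟶ X) (w w' : X' ⟶ cellObj D n m),
    w' ≫ RedSub.cellMap D eneg epos = (p ≫ e.1) * (w ≫ RedSub.cellMap D eneg epos) →
      w' ≫ fT D ψ = (p ≫ e.2) * (w ≫ fT D ψ)

variable {D b eneg epos}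

include hpos in
theorem exists_pos_form : ∃ lam : Module.Dual ℤ D.M, IsPosClosed D lam (List.ofFn epos) ∧
    ∀ a ∈ RedSub.posRoots D.P b, 0 < lam (D.P.root a) := by
  obtain ⟨lam, -, hlam⟩ := RedRk29.exists_form_posRoots D b
  exact ⟨lam, IsPosClosed.of_enumerates (fun i j k hi hj hk => by
    show D.P.root k ∈ AddSubmonoid.closure _
    exact hk ▸ add_mem hi hj) hlam hpos, hlam⟩

include hneg hpos in
theorem exists_neg_form : ∃ lam : Module.Dual ℤ D.M, IsPosClosed D lam (List.ofFn eneg) ∧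
    ∀ a ∈ RedSub.negRoots D.P b, 0 < lam (D.P.root a) := by
  obtain ⟨lam, -, hlam⟩ := exists_pos_form hpos
  have h' : ∀ c ∈ RedSub.negRoots D.P b, 0 < (-lam) (D.P.root c) := fun c hc => by
    have h : D.P.reflectionPerm c c ∈ RedSub.posRoots D.P b := by
      show D.P.root (D.P.reflectionPerm c c) ∈ AddSubmonoid.closure _
      rw [RootData.root_neg]
      exact hc
    have h' := hlam _ h
    rw [RootData.root_neg, map_neg] at h'
    simpa using h'
  exact ⟨-lam, IsPosClosed.of_enumerates (fun i j k hi hj hk => by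
    show -D.P.root k ∈ AddSubmonoid.closure _
    rw [← hk, neg_add]
    exact add_mem hi hj) h' hneg, h'⟩

/-- The cell point with given factors. -/
theorem exists_pt {lp ln : Module.Dual ℤ D.M} (hlp : IsPosClosed D lp (List.ofFn epos))
    (hln : IsPosClosed D ln (List.ofFn eneg)) {X : Over S} (t : X ⟶ D.T) {v u : X ⟶ G}
    (hv : InProd D X (List.ofFn eneg) v) (hu : InProd D X (List.ofFn epos) u) :
    ∃ y : X ⟶ cellObj D n m, y ≫ RedSub.cellMap D eneg epos = v * I D X t * u ∧ y ≫ fT D ψ = t ≫ ψ := by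
  obtain ⟨x, hx⟩ := hlp.exists_lift hu
  obtain ⟨z, hz⟩ := hln.exists_lift hv
  refine ⟨lift z (lift t x), ?_, ?_⟩
  · rw [RedSub.cellMap, MonObj.comp_mul, MonObj.comp_mul, lift_fst_assoc, lift_snd_assoc, lift_fst_assoc,
      lift_snd_assoc, lift_snd_assoc, hx, hz, mul_assoc]
    rfl
  · rw [fT, lift_snd_assoc, lift_fst_assoc]

/-- The factors of a cell point. -/
theorem decomp {lp ln : Module.Dual ℤ D.M} (hlp : IsPosClosed D lp (List.ofFn epos))
    (hln : IsPosClosed D ln (List.ofFn eneg)) {X : Over S} (w : X ⟶ cellObj D n m) :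
    ∃ (t : X ⟶ D.T) (v u : X ⟶ G), InProd D X (List.ofFn eneg) v ∧ InProd D X (List.ofFn epos) u ∧
      w ≫ RedSub.cellMap D eneg epos = v * I D X t * u ∧ w ≫ fT D ψ = t ≫ ψ := by
  refine ⟨w ≫ snd _ _ ≫ fst _ _, _, _, hln.prodMap_inProd (w ≫ fst _ _),
    hlp.prodMap_inProd (w ≫ snd _ _ ≫ snd _ _), ?_, by simp only [fT, Category.assoc]⟩
  rw [mul_assoc]
  simp only [RedSub.cellMap, MonObj.comp_mul, Category.assoc]
  rfl

theorem Good.inv {X : Over S} {e : (X ⟶ G) × (X ⟶ H)} (he : Good D eneg epos ψ e) : Good D eneg epos ψ e⁻¹ := by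
  intro X' p w w' h
  rw [Prod.fst_inv, GrpObj.comp_inv, eq_inv_mul_iff_mul_eq] at h
  rw [Prod.snd_inv, GrpObj.comp_inv, eq_inv_mul_iff_mul_eq, he X' p w' w h.symm]

/-- Left translation by a product of good points, all partial translates lying in the cell. -/
theorem chain {X X' : Over S} (q : X' ⟶ X) (σ : X' ⟶ cellObj D n m) :
    ∀ (L : List ((X ⟶ G) × (X ⟶ H))), (∀ e ∈ L, Good D eneg epos ψ e) →
      (∀ L' : List ((X ⟶ G) × (X ⟶ H)), L' <:+ L → ∃ ρ : X' ⟶ cellObj D n m,
        ρ ≫ RedSub.cellMap D eneg epos = (q ≫ L'.prod.1) * (σ ≫ RedSub.cellMap D eneg epos)) →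
      ∀ w' : X' ⟶ cellObj D n m,
        w' ≫ RedSub.cellMap D eneg epos = (q ≫ L.prod.1) * (σ ≫ RedSub.cellMap D eneg epos) →
        Mono (RedSub.cellMap D eneg epos) →
        w' ≫ fT D ψ = (q ≫ L.prod.2) * (σ ≫ fT D ψ)
  | [], _, _, w', hw', hmono => by
    rw [List.prod_nil, Prod.fst_one, MonObj.comp_one, one_mul, cancel_mono] at hw'
    rw [List.prod_nil, Prod.snd_one, MonObj.comp_one, one_mul, hw']
  | e :: L, he, hsuf, w', hw', hmono => by
    obtain ⟨ρ, hρ⟩ := hsuf L (List.suffix_cons e L)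
    have ih := chain q σ L (fun e' he' => he e' (List.mem_cons_of_mem _ he'))
      (fun L' hL' => hsuf L' (hL'.trans (List.suffix_cons e L))) ρ hρ hmono
    rw [List.prod_cons, Prod.fst_mul, MonObj.comp_mul, mul_assoc, ← hρ] at hw'
    rw [List.prod_cons, Prod.snd_mul, MonObj.comp_mul, mul_assoc, ← ih]
    exact he e List.mem_cons_self X' q ρ w' hw'

variable [IsMonHom ψ]

include hneg hpos in
theorem good_torus [Mono (RedSub.cellMap D eneg epos)] {X : Over S} (s : X ⟶ D.T) :
    Good D eneg epos ψ (I D X s, s ≫ ψ) := by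
  intro X' p w w' h
  obtain ⟨lp, hlp, -⟩ := exists_pos_form hpos
  obtain ⟨ln, hln, -⟩ := exists_neg_form hneg hpos
  obtain ⟨t, v, u, hv, hu, hw, hfw⟩ := decomp ψ hlp hln w
  obtain ⟨y, hy, hfy⟩ := exists_pt ψ hlp hln ((p ≫ s) * t) (hln.conj_torus (p ≫ s) hv) hu
  have e : w' = y := by
    rw [← cancel_mono (RedSub.cellMap D eneg epos), h, hy, hw, show p ≫ (I D X s) = I D X' (p ≫ s) from comp_I p s,
      map_mul]
    group
  rw [e, hfy, hfw, MonObj.mul_comp, Category.assoc]

include hneg hpos in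
theorem good_neg [Mono (RedSub.cellMap D eneg epos)] {X : Over S} {c : D.idx} (hc : c ∈ RedSub.negRoots D.P b)
    (x : Γ(X.left, ⊤)) : Good D eneg epos ψ (U D X c x, 1) := by
  intro X' p w w' h
  obtain ⟨lp, hlp, -⟩ := exists_pos_form hpos
  obtain ⟨ln, hln, -⟩ := exists_neg_form hneg hpos
  obtain ⟨t, v, u, hv, hu, hw, hfw⟩ := decomp ψ hlp hln w
  have hmem : c ∈ List.ofFn eneg := by rwa [List.mem_ofFn, ← Set.mem_range, hneg.2]
  obtain ⟨y, hy, hfy⟩ := exists_pt ψ hlp hln t (hln.mul (hln.U_mem hmem (p.left.appTop x)) hv) hu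
  have e : w' = y := by
    rw [← cancel_mono (RedSub.cellMap D eneg epos), h, hy, hw, show p ≫ (U D X c x) = _ from comp_U D p c x]
    group
  rw [e, hfy, hfw, MonObj.comp_one, one_mul]

include hneg hpos in
/-- Opposite simple root elements whose product lies in the big cell have unit `1 + x y`. -/
theorem isUnit_of_factor {a : D.idx} (ha : a ∈ b.support) (hda : IsDual D a) {X : Over S} (x y : Γ(X.left, ⊤))
    (h : ∃ z : X ⟶ cellObj D n m, z ≫ RedSub.cellMap D eneg epos = U D X a x * U D X (neg' D a) y) :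
    IsUnit (1 + x * y) := by
  classical
  obtain ⟨z, hz⟩ := h
  refine isUnit_of_fields _ fun K _ β j hj => ?_
  let L := AlgebraicClosure K
  let β' : Spec (CommRingCat.of L) ⟶ S := Spec.map (CommRingCat.ofHom (algebraMap K L)) ≫ β
  let j' : Over.mk β' ⟶ X := specHom (A := CommRingCat.of K) (B := CommRingCat.of L) (algebraMap K L) rfl ≫ j
  let k := sval β'
  set x₀ := j'.left.appTop x
  set y₀ := j'.left.appTop y
  have e : k (j'.left.appTop (1 + x * y)) = 0 := by
    show sval β' ((specHom (A := CommRingCat.of K) (B := CommRingCat.of L) (b := β) (b' := β') (algebraMap K L)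
      rfl).left.appTop (j.left.appTop (1 + x * y))) = 0
    rw [sval_specHom, hj, map_zero]
  rw [map_add, map_add, map_one, map_one, map_mul, map_mul] at e
  have hxy : x₀ * -y₀ = 1 := k.injective (by rw [map_mul, map_neg, map_one]; linear_combination -e)
  let r : (Γ((Over.mk β').left, ⊤))ˣ := Units.mkOfMulEqOne _ _ hxy
  -- the product times a positive element is a point of the cell normalising the torus
  obtain ⟨lp, hlp, -⟩ := exists_pos_form hpos
  obtain ⟨ln, hln, -⟩ := exists_neg_form hneg hpos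
  obtain ⟨t, v, u, hv, hu, hw, -⟩ := decomp (𝟙 D.T) hlp hln (j' ≫ z)
  have hap : a ∈ List.ofFn epos := by
    rw [List.mem_ofFn, ← Set.mem_range, hpos.2]
    exact (RootData.Simple.of_base b).subset_posOf (Finset.mem_coe.mpr ha)
  obtain ⟨z', hz', -⟩ := exists_pt (𝟙 D.T) hlp hln t hv (hlp.mul hu (hlp.U_mem hap x₀))
  have hW : z' ≫ RedSub.cellMap D eneg epos = (sys D (Over.mk β') hda).w r := by
    rw [hz', ← mul_assoc, ← hw, Category.assoc, hz, MonObj.comp_mul, comp_U, comp_U]
    show _ = U D _ a x₀ * U D _ (neg' D a) (-(-y₀)) * U D _ a x₀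
    rw [neg_neg]
  have hconj : ∀ (X'' : Over S) (p : X'' ⟶ Over.mk β') (s : X'' ⟶ D.T),
      ∃ s', (p ≫ z' ≫ RedSub.cellMap D eneg epos) * (s ≫ D.i) * (p ≫ z' ≫ RedSub.cellMap D eneg epos)⁻¹ =
        s' ≫ D.i := by
    intro X'' p s
    let r'' : (Γ(X''.left, ⊤))ˣ := Units.map p.left.appTop.hom.toMonoidHom r
    have hp : p ≫ z' ≫ RedSub.cellMap D eneg epos = (sys D X'' hda).w r'' := by
      rw [hW]
      show p ≫ (U D _ a x₀ * U D _ (neg' D a) (-(-y₀)) * U D _ a x₀) =
        U D _ a (p.left.appTop x₀) * U D _ (neg' D a) (-p.left.appTop (-y₀)) * U D _ a (p.left.appTop x₀)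
      rw [MonObj.comp_mul, MonObj.comp_mul, comp_U, comp_U, map_neg]
    rw [hp]
    refine ⟨(av D X'' a (rootVal D X'' a s))⁻¹ * s, ?_⟩
    refine ((sys D X'' hda).w_conj r'' s).trans ?_
    show _ = I D X'' _
    rw [map_mul, map_inv]
    rfl
  have hnorm := S5509.result D b eneg epos hneg hpos (Over.mk β') z' hconj
  obtain ⟨σ, hσ⟩ : ∃ σ : Lˣ, σ ^ 4 ≠ 1 := by
    obtain ⟨c, hc⟩ := Infinite.exists_notMem_finset
      (insert (0 : L) (Polynomial.X ^ 4 - Polynomial.C 1 : Polynomial L).roots.toFinset)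
    simp only [Finset.mem_insert, not_or, Multiset.mem_toFinset] at hc
    refine ⟨Units.mk0 c hc.1, fun h => hc.2 ?_⟩
    have h' : c ^ 4 = 1 := by simpa using congrArg Units.val h
    rw [Polynomial.mem_roots (Polynomial.X_pow_sub_C_ne_zero (by norm_num) _)]
    simp [h']
  let σ' : (Γ((Over.mk β').left, ⊤))ˣ := Units.map k.symm.toMonoidHom σ
  let s := av D (Over.mk β') a σ'
  have hcomm : (sys D (Over.mk β') hda).w r * I D _ s * ((sys D (Over.mk β') hda).w r)⁻¹ = I D _ s := by
    rw [← hW, hnorm]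
    show I D _ (z' ≫ snd _ _ ≫ fst _ _) * I D _ s * (I D _ (z' ≫ snd _ _ ≫ fst _ _))⁻¹ = I D _ s
    rw [I_comm, mul_inv_cancel_right]
  have hc2 : (I D (Over.mk β') (av D _ a (rootVal D _ a s)))⁻¹ * I D _ s = I D _ s :=
    ((sys D (Over.mk β') hda).w_conj r s).symm.trans hcomm
  rw [mul_eq_right, inv_eq_one] at hc2
  haveI : Mono D.i := D.maximalTorus.2.1
  have hc3 : av D (Over.mk β') a (rootVal D _ a s) = 1 := by
    refine (cancel_mono D.i).mp ?_
    exact hc2.trans (map_one (I D (Over.mk β'))).symm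
  have h4 := congrArg (rootVal D (Over.mk β') a) hc3
  simp only [s, map_one, rootVal_av, D.P.pairing_same, zpow_ofNat, ← pow_mul] at h4
  refine hσ (Units.ext ?_)
  have h5 := congrArg (fun v : (Γ((Over.mk β').left, ⊤))ˣ => k (v : Γ((Over.mk β').left, ⊤))) h4
  simpa [σ'] using h5

variable [Nonempty S] (hcor : ∀ a, corootHom D a ≫ ψ = 1)

include hneg hpos hcor in
theorem good_simple [Mono (RedSub.cellMap D eneg epos)] {X : Over S} {a : D.idx} (ha : a ∈ b.support)
    (hda : IsDual D a) (x : Γ(X.left, ⊤)) : Good D eneg epos ψ (U D X a x, 1) := by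
  classical
  intro X' p w w' h
  obtain ⟨lp, hlp, hlam⟩ := exists_pos_form hpos
  obtain ⟨ln, hln, -⟩ := exists_neg_form hneg hpos
  obtain ⟨t, v, u, hv, hu, hw, hfw⟩ := decomp ψ hlp hln w
  have hΔ := RootData.Simple.of_base b
  have hap : a ∈ RedSub.posRoots D.P b := hΔ.subset_posOf (Finset.mem_coe.mpr ha)
  set a' := neg' D a
  have hna : a' ∈ RedSub.negRoots D.P b := by
    show -D.P.root a' ∈ AddSubmonoid.closure _
    rw [root_neg', neg_neg]
    exact hap
  -- the reflected set of negative roots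
  let s : Finset D.idx := Finset.univ.filter fun c => c ∈ RedSub.negRoots D.P b ∧ c ≠ a'
  let e : Fin s.card → D.idx := fun k => (s.equivFin.symm k : D.idx)
  have he : ∀ c, c ∈ List.ofFn e ↔ c ∈ RedSub.negRoots D.P b ∧ c ≠ a' := fun c => by
    rw [List.mem_ofFn]
    constructor
    · rintro ⟨k, rfl⟩
      exact (Finset.mem_filter.mp (s.equivFin.symm k).2).2
    · exact fun hc => ⟨s.equivFin ⟨c, Finset.mem_filter.mpr ⟨Finset.mem_univ _, hc⟩⟩, by simp [e]⟩
  have hnd : (List.ofFn e).Nodup := List.nodup_ofFn.mpr (Subtype.val_injective.comp s.equivFin.symm.injective)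
  have hn2 : ∀ c, c ∈ RedSub.negRoots D.P b ↔ c ∉ RedSub.posRoots D.P b := RedRk29.neg_iff_not_pos D b
  have hset : ∀ c, (c = a ∨ (c ∈ RedSub.negRoots D.P b ∧ c ≠ a')) ↔
      D.P.reflectionPerm a c ∈ RedSub.negRoots D.P b := by
    intro c
    by_cases hc : c ∈ RedSub.posRoots D.P b
    · by_cases hca : c = a
      · simp only [hca, true_or, true_iff]
        exact hna
      · simp only [hca, false_or, (hn2 c), hc, not_true_eq_false, false_and, false_iff]
        exact fun h' => (hn2 _).mp h' (RedRk29.pos_refl D b ha hc hca).1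
    · have hca : c ≠ a := fun h' => hc (h' ▸ hap)
      by_cases hc' : c = a'
      · subst hc'
        have e : D.P.reflectionPerm a a' = a := D.P.reflectionPerm_self a a
        simp only [hca, ne_eq, not_true_eq_false, and_false, or_self, false_iff, e]
        exact fun h' => (hn2 a).mp h' hap
      · simp only [hca, false_or, (hn2 c).mpr hc, hc', ne_eq, not_false_eq_true, and_self, true_iff]
        refine (hn2 _).mpr fun h' => ?_
        by_cases h2 : D.P.reflectionPerm a c = a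
        · apply hc'
          rw [← D.P.reflectionPerm_self a c, h2]
        · have := (RedRk29.pos_refl D b ha h' h2).1
          rw [D.P.reflectionPerm_self] at this
          exact hc this
  let lam' : Module.Dual ℤ D.M := (-lp).comp (D.P.reflection a).toLinearMap
  have hroot : ∀ c, lam' (D.P.root c) = -lp (D.P.root (D.P.reflectionPerm a c)) := fun c => by
    rw [RootPairing.root_reflectionPerm]; rfl
  have hpneg : ∀ c ∈ RedSub.negRoots D.P b, lp (D.P.root c) < 0 := fun c hc => by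
    have h : D.P.reflectionPerm c c ∈ RedSub.posRoots D.P b := by
      show D.P.root (D.P.reflectionPerm c c) ∈ AddSubmonoid.closure _
      rw [RootData.root_neg]
      exact hc
    have h' := hlam _ h
    rw [RootData.root_neg, map_neg] at h'
    omega
  have hnc : ∀ i j k : D.idx, i ∈ RedSub.negRoots D.P b → j ∈ RedSub.negRoots D.P b →
      D.P.root i + D.P.root j = D.P.root k → k ∈ RedSub.negRoots D.P b := fun i j k hi hj hk => by
    show -D.P.root k ∈ AddSubmonoid.closure _
    rw [← hk, neg_add]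
    exact add_mem hi hj
  have hl : IsPosClosed D lam' (a :: List.ofFn e) := by
    have hm : ∀ c, c ∈ a :: List.ofFn e ↔ D.P.reflectionPerm a c ∈ RedSub.negRoots D.P b := fun c => by
      rw [List.mem_cons, he, hset]
    refine ⟨List.nodup_cons.mpr ⟨fun h' => (hn2 a).mp ((he a).mp h').1 hap, hnd⟩, fun c hc => ?_,
      fun i j k hi hj hk => ?_⟩
    · rw [hroot, neg_pos]
      exact hpneg _ ((hm c).mp hc)
    · refine (hm k).mpr (hnc _ _ _ ((hm i).mp hi) ((hm j).mp hj) ?_)
      simp only [RootPairing.root_reflectionPerm, ← map_add, hk]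
  have hl' : IsPosClosed D lam' (List.ofFn e) := by
    refine ⟨hnd, fun c hc => hl.pos c (List.mem_cons_of_mem _ hc), fun i j k hi hj hk => ?_⟩
    have hk' := hnc _ _ _ ((he i).mp hi).1 ((he j).mp hj).1 hk
    rcases List.mem_cons.mp (hl.closed i j k (List.mem_cons_of_mem _ hi) (List.mem_cons_of_mem _ hj) hk) with h' | h'
    · exact absurd hap ((hn2 a).mp (h' ▸ hk'))
    · exact h'
  have hln' : IsPosClosed D ln (List.ofFn e ++ [a']) := hln.perm
    (List.nodup_append.mpr ⟨hnd, List.nodup_singleton _, fun c hc d hd hcd => by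
      rw [List.mem_singleton] at hd
      exact ((he c).mp hc).2 (hcd.trans hd)⟩) fun c => by
    rw [List.mem_append, he, List.mem_singleton, List.mem_ofFn, ← Set.mem_range, hneg.2]
    exact ⟨fun h' => h'.elim And.left (fun h' => h' ▸ hna), fun h' => by
      by_cases hc : c = a'
      · exact Or.inr hc
      · exact Or.inl ⟨h', hc⟩⟩
  obtain ⟨z, hz⟩ : InProd D X' (List.ofFn e ++ [a']) v := by
    obtain ⟨z, rfl⟩ := hv
    exact hln'.list_inProd ((List.ofFn eneg).map fun c => (c, z c)) (fun q hq => by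
      obtain ⟨c, hc, rfl⟩ := List.mem_map.mp hq
      simp only [List.mem_append, he, List.mem_singleton]
      rw [List.mem_ofFn, ← Set.mem_range, hneg.2] at hc
      by_cases h' : c = a'
      · exact Or.inr h'
      · exact Or.inl ⟨hc, h'⟩) |> fun h' => by simpa [rootProd, List.map_map, Function.comp_def] using h'
  rw [rootProd, List.map_append, List.prod_append, List.map_cons, List.map_nil, List.prod_singleton] at hz
  set σ := p.left.appTop x
  set ρ := z a'
  have hv₁ := hl'.conj_root hl X' σ (g := rootProd D X' (List.ofFn e) z) ⟨z, rfl⟩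
  set v₁ := U D X' a σ * rootProd D X' (List.ofFn e) z * (U D X' a σ)⁻¹
  have hv₁' : InProd D X' (List.ofFn eneg) v₁ := by
    obtain ⟨z₁, hz₁⟩ := hv₁
    rw [hz₁]
    exact hln.list_inProd ((List.ofFn e).map fun c => (c, z₁ c)) (fun q hq => by
      obtain ⟨c, hc, rfl⟩ := List.mem_map.mp hq
      rw [List.mem_ofFn, ← Set.mem_range, hneg.2]
      exact ((he c).mp hc).1) |> fun h' => by simpa [rootProd, List.map_map, Function.comp_def] using h'
  have hw' : w' ≫ RedSub.cellMap D eneg epos = v₁ * (U D X' a σ * U D X' a' ρ) * I D X' t * u := by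
    rw [h, hw, hz, comp_U D p a x]
    show _ = U D X' a σ * ((List.ofFn e).map fun c => U D X' c (z c)).prod * (U D X' a σ)⁻¹ * _ * _ * _
    group
    rfl
  obtain ⟨t', v', u', hv', hu', hw'', -⟩ := decomp ψ hlp hln w'
  have hunit : IsUnit (1 + σ * ρ) := by
    refine isUnit_of_factor hneg hpos ha hda σ ρ ?_
    obtain ⟨y, hy, -⟩ := exists_pt ψ hlp hln (t' * t⁻¹) (hln.mul (hln.inv hv₁') hv')
      (hlp.conj_torus t (hlp.mul hu' (hlp.inv hu)))
    refine ⟨y, ?_⟩
    rw [hy, map_mul, map_inv]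
    rw [hw'] at hw''
    calc v₁⁻¹ * v' * (I D X' t' * (I D X' t)⁻¹) * (I D X' t * (u' * u⁻¹) * (I D X' t)⁻¹)
        = v₁⁻¹ * (v' * I D X' t' * u') * u⁻¹ * (I D X' t)⁻¹ := by group
      _ = U D X' a σ * U D X' a' ρ := by rw [← hw'']; group
  obtain ⟨r, hr⟩ := hunit
  have hrule := (sys D X' hda).rule σ ρ r hr
  have ha'l : a' ∈ List.ofFn eneg := by rw [List.mem_ofFn, ← Set.mem_range, hneg.2]; exact hna
  have hal : a ∈ List.ofFn epos := by rw [List.mem_ofFn, ← Set.mem_range, hpos.2]; exact hap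
  obtain ⟨y, hy, hfy⟩ := exists_pt ψ hlp hln (av D X' a r * t)
    (hln.mul hv₁' (hln.U_mem ha'l (((r⁻¹ : (Γ(X'.left, ⊤))ˣ) : Γ(X'.left, ⊤)) * ρ)))
    (hlp.mul (hlp.conj_torus t⁻¹ (hlp.U_mem hal (((r⁻¹ : (Γ(X'.left, ⊤))ˣ) : Γ(X'.left, ⊤)) * σ))) hu)
  have hyw : w' = y := by
    rw [← cancel_mono (RedSub.cellMap D eneg epos), hw', hy,
      show U D X' a σ * U D X' a' ρ = _ from hrule, map_mul, map_inv]
    show v₁ * (U D X' a' _ * I D X' _ * U D X' a _) * _ * _ = _
    group
    rfl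
  rw [hyw, hfy, hfw, MonObj.comp_one, one_mul, MonObj.mul_comp]
  have : av D X' a r ≫ ψ = 1 := by
    show (GmPts.ptOfUnit r ≫ corootHom D a) ≫ ψ = 1
    rw [Category.assoc, hcor, MonObj.comp_one]
  rw [this, one_mul]

/-- The group generated by the good points. -/
def Kgrp (D : Red.SplitRed G) (eneg : Fin n → D.idx) (epos : Fin m → D.idx) (ψ : D.T ⟶ H) (X : Over S) :
    Subgroup ((X ⟶ G) × (X ⟶ H)) :=
  Subgroup.closure {e | Good D eneg epos ψ e}

omit [IsMonHom ψ] [Nonempty S] in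
theorem exists_list {X : Over S} {e : (X ⟶ G) × (X ⟶ H)} (he : e ∈ Kgrp D eneg epos ψ X) :
    ∃ L : List ((X ⟶ G) × (X ⟶ H)), (∀ d ∈ L, Good D eneg epos ψ d) ∧ L.prod = e := by
  induction he using Subgroup.closure_induction with
  | mem d hd => exact ⟨[d], fun d' hd' => (List.mem_singleton.mp hd') ▸ hd, List.prod_singleton⟩
  | one => exact ⟨[], by simp, rfl⟩
  | mul d d' _ _ h h' =>
    obtain ⟨L, hL, rfl⟩ := h
    obtain ⟨L', hL', rfl⟩ := h'
    exact ⟨L ++ L', fun q hq => (List.mem_append.mp hq).elim (hL q) (hL' q), List.prod_append⟩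
  | inv d _ h =>
    obtain ⟨L, hL, rfl⟩ := h
    refine ⟨(L.map fun q => q⁻¹).reverse, fun q hq => ?_, (List.prod_inv_reverse L).symm⟩
    obtain ⟨q', hq', rfl⟩ := List.mem_map.mp (List.mem_reverse.mp hq)
    exact (hL q' hq').inv ψ

include hneg hpos hcor in
theorem U_mem_Kgrp [Mono (RedSub.cellMap D eneg epos)] (hd : ∀ a ∈ b.support, IsDual D a) {X : Over S} (c : D.idx)
    (x : Γ(X.left, ⊤)) : (U D X c x, (1 : X ⟶ H)) ∈ Kgrp D eneg epos ψ X := by
  obtain ⟨l, a, hl, ha, rfl⟩ := RedRk29.reach_simple D b c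
  have hsimp : ∀ (a : D.idx), a ∈ b.support → ∀ x : Γ(X.left, ⊤), (U D X a x, (1 : X ⟶ H)) ∈ Kgrp D eneg epos ψ X :=
    fun a ha x => Subgroup.subset_closure (good_simple hneg hpos ψ hcor ha (hd a ha) x)
  induction l generalizing x with
  | nil => exact hsimp a ha x
  | cons d l ih =>
    have hd' : d ∈ b.support := hl d List.mem_cons_self
    set c' := (l.map D.P.reflectionPerm).prod a
    rw [List.map_cons, List.prod_cons, Equiv.Perm.mul_apply]
    have hdp : d ∈ RedSub.posRoots D.P b := (RootData.Simple.of_base b).subset_posOf (Finset.mem_coe.mpr hd')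
    have hdn : neg' D d ∈ RedSub.negRoots D.P b := by
      show -D.P.root (neg' D d) ∈ AddSubmonoid.closure _
      rw [root_neg', neg_neg]
      exact hdp
    have hW : (W D X d, (1 : X ⟶ H)) ∈ Kgrp D eneg epos ψ X := by
      have e : ((W D X d, (1 : X ⟶ H)) : (X ⟶ G) × (X ⟶ H)) =
          (U D X d 1, 1) * (U D X (neg' D d) 1, 1)⁻¹ * (U D X d 1, 1) := by
        refine Prod.ext ?_ (by simp)
        simp only [Prod.fst_mul, Prod.fst_inv]
        rfl
      rw [e]
      exact mul_mem (mul_mem (hsimp d hd' 1) (inv_mem (Subgroup.subset_closure (good_neg hneg hpos ψ hdn 1))))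
        (hsimp d hd' 1)
    obtain ⟨lam, hgen, hlpos⟩ := RedRk29.exists_generic_pos D (D.P.reflectionPerm d (D.P.reflectionPerm d c'))
    obtain ⟨k, hk⟩ := W_conj_root (hasNormalForm D) (hd d hd') (D.P.reflectionPerm d c')
      (RedRk29.red1 D _) hgen hlpos
    have h1 := hk X x
    rw [D.P.reflectionPerm_self] at h1
    have e : ((U D X (D.P.reflectionPerm d c') x, (1 : X ⟶ H)) : (X ⟶ G) × (X ⟶ H)) =
        (W D X d, 1)⁻¹ * (U D X c' (glob X k * x), 1) * (W D X d, 1) := by
      refine Prod.ext ?_ (by simp)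
      simp only [Prod.fst_mul, Prod.fst_inv, ← h1]
      group
    rw [e]
    exact mul_mem (mul_mem (inv_mem hW) (ih _ (fun q hq => hl q (List.mem_cons_of_mem _ hq)))) hW

include hneg hpos hcor in
/-- The value on the cell is multiplicative. -/
theorem multiplicative (hd : ∀ a ∈ b.support, IsDual D a) (X : Over S) (x y z : X ⟶ cellObj D n m)
    (h : z ≫ RedSub.cellMap D eneg epos = (x ≫ RedSub.cellMap D eneg epos) * (y ≫ RedSub.cellMap D eneg epos)) :
    z ≫ fT D ψ = (x ≫ fT D ψ) * (y ≫ fT D ψ) := by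
  haveI hopen := isOpenImmersion_cellMap D b hneg hpos
  haveI : Mono (RedSub.cellMap D eneg epos).left := inferInstance
  haveI hmono : Mono (RedSub.cellMap D eneg epos) := (Over.forget S).mono_of_mono_map ‹_›
  obtain ⟨lp, hlp, -⟩ := exists_pos_form hpos
  obtain ⟨ln, hln, -⟩ := exists_neg_form hneg hpos
  let c := RedSub.cellMap D eneg epos
  let K := Kgrp D eneg epos ψ X
  have hmem : ∀ w : X ⟶ cellObj D n m, (w ≫ c, w ≫ fT D ψ) ∈ K := by
    intro w
    obtain ⟨t, v, u, ⟨zv, hv⟩, ⟨zu, hu⟩, hw, hfw⟩ := decomp ψ hlp hln w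
    have hprod : ∀ (l : List D.idx) (q : D.idx → Γ(X.left, ⊤)), (rootProd D X l q, (1 : X ⟶ H)) ∈ K := by
      intro l q
      induction l with
      | nil => exact one_mem K
      | cons d l ih =>
        have := mul_mem (U_mem_Kgrp hneg hpos ψ hcor hd (X := X) d (q d)) ih
        rw [Prod.mk_mul_mk, one_mul] at this
        exact this
    have := mul_mem (mul_mem (hprod (List.ofFn eneg) zv)
      (Subgroup.subset_closure (good_torus hneg hpos ψ t) : (I D X t, t ≫ ψ) ∈ K)) (hprod (List.ofFn epos) zu)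
    rw [Prod.mk_mul_mk, Prod.mk_mul_mk, one_mul, mul_one, ← hv, ← hu, ← hw, ← hfw] at this
    exact this
  obtain ⟨Lx, hLx, ex⟩ := exists_list ψ (hmem x)
  obtain ⟨Ly, hLy, ey⟩ := exists_list ψ (hmem y)
  obtain ⟨Lz, hLz, ez⟩ := exists_list ψ (hmem z)
  let fam : List (X ⟶ G) := Lz.tails.map (fun L => L.prod.1) ++ (Ly.tails.map (fun L => L.prod.1) ++
    Lx.tails.map (fun L => L.prod.1 * (y ≫ c)))
  obtain ⟨X', q, σ, ρ, hq, hρ⟩ := CellExt29.exists_translate c D.reductive (exists_one_cellMap D eneg epos)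
    (k := fam.length) fun i => fam[i.1]
  have hfam : ∀ g ∈ fam, ∃ r : X' ⟶ cellObj D n m, r ≫ c = (q ≫ g) * (σ ≫ c) := by
    intro g hg
    obtain ⟨i, hi, rfl⟩ := List.getElem_of_mem hg
    exact ⟨ρ ⟨i, hi⟩, hρ ⟨i, hi⟩⟩
  have hsz : ∀ L', L' <:+ Lz → ∃ r : X' ⟶ cellObj D n m, r ≫ c = (q ≫ L'.prod.1) * (σ ≫ c) := fun L' hL' =>
    hfam _ (List.mem_append_left _ (List.mem_map.mpr ⟨L', (List.mem_tails _ _).mpr hL', rfl⟩))
  have hsy : ∀ L', L' <:+ Ly → ∃ r : X' ⟶ cellObj D n m, r ≫ c = (q ≫ L'.prod.1) * (σ ≫ c) := fun L' hL' =>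
    hfam _ (List.mem_append_right _ (List.mem_append_left _ (List.mem_map.mpr ⟨L', (List.mem_tails _ _).mpr hL', rfl⟩)))
  obtain ⟨ρz, hρz⟩ := hsz Lz (List.suffix_refl _)
  obtain ⟨ρy, hρy⟩ := hsy Ly (List.suffix_refl _)
  have fz := chain ψ q σ Lz hLz hsz ρz hρz hmono
  have fy := chain ψ q σ Ly hLy hsy ρy hρy hmono
  have hsx : ∀ L', L' <:+ Lx → ∃ r : X' ⟶ cellObj D n m, r ≫ c = (q ≫ L'.prod.1) * (ρy ≫ c) := fun L' hL' => by
    obtain ⟨r, hr⟩ := hfam _ (List.mem_append_right _ (List.mem_append_right _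
      (List.mem_map.mpr ⟨L', (List.mem_tails _ _).mpr hL', rfl⟩)))
    refine ⟨r, ?_⟩
    rw [hr, hρy, ey, MonObj.comp_mul, mul_assoc]
  have hzx : ρz ≫ c = (q ≫ Lx.prod.1) * (ρy ≫ c) := by
    rw [hρz, hρy, ex, ey, ez, ← mul_assoc, ← MonObj.comp_mul, h]
  have fx := chain ψ q ρy Lx hLx hsx ρz hzx hmono
  rw [fy, fz, ex, ey, ez, ← mul_assoc, ← MonObj.comp_mul] at fx
  have := hq.epi
  exact (cancel_epi q).mp (mul_right_cancel fx)

end Groth.Agent.RedSub30.CellChar
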