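import Groth.Agent.RedSub30.CellChar
import Groth.Agent.HTop83.DSExact

/-!
# The homomorphisms of a split group extending a character of the torus trivial on the coroots
-/

set_option autoImplicit false

universe u

open CategoryTheory CategoryTheory.Limits AlgebraicGeometry MonoidalCategory CartesianMonoidalCategory
open scoped MonObj

noncomputable section

namespace Groth.Agent.RedSub30.CellChar

open GrpSchLib Rank2Red38 RedSub30.RootPoly BigCell29

variable {S : Scheme.{u}} {G : Over S} [GrpObj G] {H : Over S} [GrpObj H]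

theorem exists_enum {J : Type} [Fintype J] (R : Set J) : ∃ (n : ℕ) (e : Fin n → J), RedSub.Enumerates R e := by
  classical
  exact ⟨_, fun i => ((Fintype.equivFin R).symm i).1, Subtype.val_injective.comp (Equiv.injective _), by
    ext x
    exact ⟨fun ⟨i, hi⟩ => hi ▸ ((Fintype.equivFin R).symm i).2, fun hx => ⟨Fintype.equivFin R ⟨x, hx⟩, by simp⟩⟩⟩

theorem hom_eq_of_isEmpty [IsEmpty S] {X Y : Over S} (f g : X ⟶ Y) : f = g := by
  haveI : IsEmpty X.left := Function.isEmpty X.hom.base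
  exact Over.OverMorphism.ext (isInitialOfIsEmpty.hom_ext _ _)

theorem exists_hom_dual [Nonempty S] (D : Red.SplitRed G) (b : D.P.Base) (hd : ∀ a ∈ b.support, IsDual D a)
    (ψ : D.T ⟶ H) [IsMonHom ψ] (hcor : ∀ a, corootHom D a ≫ ψ = 1) :
    ∃ φ : G ⟶ H, IsMonHom φ ∧ D.i ≫ φ = ψ ∧ ∀ c : D.idx, D.u c ≫ φ = 1 := by
  classical
  obtain ⟨n, eneg, hneg⟩ := exists_enum (RedSub.negRoots D.P b)
  obtain ⟨m, epos, hpos⟩ := exists_enum (RedSub.posRoots D.P b)
  haveI := isOpenImmersion_cellMap D b hneg hpos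
  obtain ⟨φ, hφ, hcφ⟩ := CellExt29.exists_extend (RedSub.cellMap D eneg epos) D.reductive
    (exists_one_cellMap D eneg epos) (fT D ψ) (multiplicative hneg hpos ψ hcor hd)
  obtain ⟨lp, hlp, -⟩ := exists_pos_form hpos
  obtain ⟨ln, hln, -⟩ := exists_neg_form hneg hpos
  have hval : ∀ (X : Over S) (t : X ⟶ D.T) (v u : X ⟶ G), InProd D X (List.ofFn eneg) v →
      InProd D X (List.ofFn epos) u → (v * I D X t * u) ≫ φ = t ≫ ψ := by
    intro X t v u hv hu
    obtain ⟨y, hy, hfy⟩ := exists_pt ψ hlp hln t hv hu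
    rw [← hy, Category.assoc, hcφ, hfy]
  refine ⟨φ, hφ, ?_, fun c => ?_⟩
  · have h := hval D.T (𝟙 D.T) 1 1 hln.one hlp.one
    rw [one_mul, mul_one, Category.id_comp] at h
    rw [← h]
    exact congrArg (· ≫ φ) (Category.id_comp D.i).symm
  · have e : D.u c = U D (Red.Ga S) c (Red.gaFn (𝟙 (Red.Ga S))) :=
      (Category.id_comp (D.u c)).symm.trans (pt_comp_eq (D := D) c (𝟙 (Red.Ga S)))
    rw [e]
    set x := Red.gaFn (𝟙 (Red.Ga S))
    by_cases hc : c ∈ RedSub.posRoots D.P b
    · have h := hval _ 1 1 (U D _ c x) hln.one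
        (hlp.U_mem (by rwa [List.mem_ofFn, ← Set.mem_range, hpos.2]) x)
      rwa [map_one, mul_one, one_mul, MonObj.one_comp] at h
    · have h := hval _ 1 (U D _ c x) 1
        (hln.U_mem (by rw [List.mem_ofFn, ← Set.mem_range, hneg.2]; exact (RedRk29.neg_iff_not_pos D b c).mpr hc) x)
        hlp.one
      rwa [map_one, mul_one, mul_one, MonObj.one_comp] at h

/-- A homomorphism from the torus killing every coroot extends to the group, trivially on the root groups. -/
theorem exists_hom (D : Red.SplitRed G) (b : D.P.Base) (ψ : D.T ⟶ H) [IsMonHom ψ]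
    (hcor : ∀ a, corootHom D a ≫ ψ = 1) :
    ∃ φ : G ⟶ H, IsMonHom φ ∧ D.i ≫ φ = ψ ∧ ∀ c : D.idx, D.u c ≫ φ = 1 := by
  rcases isEmpty_or_nonempty S with hS | hS
  · exact ⟨1, { one_hom := hom_eq_of_isEmpty _ _, mul_hom := hom_eq_of_isEmpty _ _ }, hom_eq_of_isEmpty _ _,
      fun c => hom_eq_of_isEmpty _ _⟩
  let D' : Red.Pinning G := { D with base := b }
  obtain ⟨k, hk⟩ := RedRk29.exists_dual_rescale D'
  let E := RedRk29.rescale D' k
  haveI : IsMonHom (C := Over S) (M := E.T) (N := H) ψ := ‹IsMonHom ψ›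
  obtain ⟨φ, hφ, hT, hU⟩ := exists_hom_dual E.toSplitRed b hk ψ hcor
  refine ⟨φ, hφ, hT, fun c => ?_⟩
  have e : D.u c = scaleHom ((k c)⁻¹ : Γ(S, ⊤)ˣ).val ≫ E.u c := by
    show _ = scaleHom _ ≫ scaleHom _ ≫ D.u c
    rw [← Category.assoc, scaleHom_comp, Units.mul_inv, scaleHom_one, Category.id_comp]
  rw [e, Category.assoc, hU c, MonObj.comp_one]

/-- The character of the torus given by the lattice orthogonal to the coroots kills the coroots. -/
theorem coroot_comp_toQuot (D : Red.SplitRed G) (N : AddSubgroup D.M)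
    (hN : ∀ m : D.M, m ∈ N → ∀ a : D.idx, D.P.coroot a m = 0) (a : D.idx) :
    corootHom D a ≫ D.split.hom.hom.hom ≫ Red.DSmap S N.subtype = 1 := by
  refine ds_ext fun m => ?_
  have e : D.split.inv.hom.hom ≫ D.split.hom.hom.hom = 𝟙 _ := congrArg (fun k => k.hom.hom) D.split.inv_hom_id
  simp only [corootHom, Category.assoc]
  rw [← Category.assoc D.split.inv.hom.hom, e, Category.id_comp, dsVal_map,
    ← Category.id_comp (Red.DSmap S (D.P.coroot a).toAddMonoidHom), dsVal_map, HTop83.dsVal_one]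
  show dsVal _ (D.P.coroot a (m : D.M)) = 1
  rw [hN _ m.2 a, dsVal_zero]

theorem isMonHom_toQuot (D : Red.SplitRed G) (N : AddSubgroup D.M) :
    IsMonHom (D.split.hom.hom.hom ≫ Red.DSmap S N.subtype) := by
  haveI := S5427.isMonHom_DSmap S N.subtype
  haveI : IsMonHom D.split.hom.hom.hom := D.split.hom.hom.isMonHom_hom
  infer_instance

/-- The homomorphism to the torus of the lattice orthogonal to the coroots. -/
theorem exists_hom_toQuot (D : Red.SplitRed G) (b : D.P.Base) (N : AddSubgroup D.M)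
    (hN : ∀ m : D.M, m ∈ N → ∀ a : D.idx, D.P.coroot a m = 0) :
    ∃ φ : G ⟶ Red.DS S ↥N, IsMonHom φ ∧ D.i ≫ φ = D.split.hom.hom.hom ≫ Red.DSmap S N.subtype ∧
      ∀ c : D.idx, D.u c ≫ φ = 1 :=
  haveI := isMonHom_toQuot D N
  exists_hom D b _ (coroot_comp_toQuot D N hN)

end Groth.Agent.RedSub30.CellChar
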