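import Groth.Agent.RedSub30.CellKilled
import Groth.Agent.RedRk29.CoverSimple

/-!
# The kernel of the homomorphism to the torus of the lattice orthogonal to the coroots
-/

set_option autoImplicit false
set_option maxHeartbeats 800000

universe u

open CategoryTheory CategoryTheory.Limits AlgebraicGeometry MonoidalCategory CartesianMonoidalCategory
open scoped MonObj

noncomputable section

namespace Groth.Agent.RedSub30.CellChar

open GrpSchLib Rank2Red38 RedSub30.RootPoly BigCell29

variable {S : Scheme.{u}} {G : Over S} [GrpObj G]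

theorem smooth_conn_pow (n : ℕ) :
    Smooth (RedSub.pow (Red.Ga S) n).hom ∧ GeometricallyConnected (RedSub.pow (Red.Ga S) n).hom :=
  ⟨smooth_pow n, geometricallyConnected_of_geomFibre _ fun y =>
    (connected_geomFibre_pow n y : ConnectedSpace ↥(Red.geomFibre y (RedSub.pow (Red.Ga S) n)).left)⟩

theorem free_quot (D : Red.SplitRed G) (N : AddSubgroup D.M)
    (hN : ∀ m : D.M, m ∈ N ↔ ∀ a : D.idx, D.P.coroot a m = 0) :
    Module.Free ℤ (D.M ⧸ N) ∧ Module.Finite ℤ (D.M ⧸ N) := by
  classical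
  let Φ : D.M →+ (D.idx → ℤ) := Pi.addMonoidHom fun a => (D.P.coroot a).toAddMonoidHom
  let j : D.M ⧸ N →+ (D.idx → ℤ) := QuotientAddGroup.lift N Φ fun x hx => funext fun a => (hN x).mp hx a
  have hj : Function.Injective j := by
    refine (injective_iff_map_eq_zero j).mpr fun q hq => ?_
    obtain ⟨x, rfl⟩ := QuotientAddGroup.mk'_surjective N q
    exact (QuotientAddGroup.eq_zero_iff _).mpr ((hN x).mpr fun a => congrFun hq a)
  haveI : AddGroup.FG D.M := Module.Finite.iff_addGroup_fg.mp inferInstance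
  haveI : AddGroup.FG (D.M ⧸ N) := AddGroup.fg_of_surjective (QuotientAddGroup.mk'_surjective N)
  haveI hfin : Module.Finite ℤ (D.M ⧸ N) := Module.Finite.iff_addGroup_fg.mpr inferInstance
  haveI : IsAddTorsionFree (D.M ⧸ N) := Function.Injective.isAddTorsionFree j hj
  exact ⟨inferInstance, hfin⟩

theorem kernel_props (D : Red.SplitRed G) (b : D.P.Base) (N : AddSubgroup D.M)
    (hN : ∀ m : D.M, m ∈ N ↔ ∀ a : D.idx, D.P.coroot a m = 0) (φ : G ⟶ Red.DS S ↥N) [IsMonHom φ]
    (hT : D.i ≫ φ = D.split.hom.hom.hom ≫ Red.DSmap S N.subtype) (hU : ∀ c : D.idx, D.u c ≫ φ = 1)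
    (K : Over S) [GrpObj K] (k : K ⟶ G) [IsMonHom k] (hk : AlgGrp.IsKernel k φ) :
    Smooth K.hom ∧ RedSub.HasConnectedFibres K ∧ RedSub.KilledByCommutative k := by
  classical
  obtain ⟨n, eneg, hneg⟩ := exists_enum (RedSub.negRoots D.P b)
  obtain ⟨m, epos, hpos⟩ := exists_enum (RedSub.posRoots D.P b)
  haveI := isOpenImmersion_cellMap D b hneg hpos
  let C := RedSub.cellMap D eneg epos
  let x : D.idx → (𝟙_ (Over S) ⟶ Red.Ga S) := fun _ => GaPts.ptOfFn 1
  have hx : ∀ a ∈ b.support, IsUnit (Red.gaFn (x a)) := fun a _ => by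
    simp only [x, GaPts.gaFn_ptOfFn]; exact isUnit_one
  let Mo := Submonoid.closure {g : 𝟙_ (Over S) ⟶ G | ∃ a ∈ b.support, g = x a ≫ D.u a}
  have hw1 : ∀ w ∈ Mo, w ≫ φ = 1 := fun w hw => by
    induction hw using Submonoid.closure_induction with
    | mem g hg => obtain ⟨a, -, rfl⟩ := hg; rw [Category.assoc, hU, MonObj.comp_one]
    | one => exact MonObj.one_comp φ
    | mul a b _ _ ha hb => simp only [MonObj.mul_comp, ha, hb]; exact _root_.mul_one (1 : 𝟙_ (Over S) ⟶ Red.DS S ↥N)
  have hk1 : k ≫ φ = 1 := by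
    rw [hk.w, Hom.one_def]
  have klift : ∀ {X : Over S} (g : X ⟶ G), g ≫ φ = 1 → ∃ g' : X ⟶ K, g' ≫ k = g := fun {X} g hg =>
    ⟨hk.lift g (toUnit X) (by rw [hg, Hom.one_def]), hk.lift_fst _ _ _⟩
  haveI hkmono : Mono k := by
    constructor
    intro Z a c h
    exact hk.hom_ext h (toUnit_unique _ _)
  -- the reduced cell
  let Ω := RedSub.pow (Red.Ga S) n ⊗ (Red.DS S (D.M ⧸ N) ⊗ RedSub.pow (Red.Ga S) m)
  obtain ⟨hfree, hfin⟩ := free_quot D N hN
  obtain ⟨hΩs, hΩc⟩ : Smooth Ω.hom ∧ GeometricallyConnected Ω.hom :=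
    smooth_conn_prod (smooth_conn_pow n)
      (smooth_conn_prod ⟨smooth_DS S _, geometricallyConnected_DS S _⟩ (smooth_conn_pow m))
  let P := primeMap D eneg epos N
  have e0 : D.split.inv.hom.hom ≫ D.split.hom.hom.hom = 𝟙 _ := congrArg (fun k => k.hom.hom) D.split.inv_hom_id
  let emb : Ω ⟶ cellObj D n m := lift (fst _ _) (lift (snd _ _ ≫ fst _ _ ≫
    Red.DSmap S (QuotientAddGroup.mk' N) ≫ D.split.inv.hom.hom) (snd _ _ ≫ snd _ _))
  have hemb : emb ≫ C = P := by
    simp only [emb, C, P, primeMap, RedSub.cellMap, MonObj.comp_mul, lift_fst_assoc, lift_snd_assoc, Category.assoc]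
  haveI : Mono C := (Over.forget S).mono_of_mono_map (inferInstanceAs (Mono C.left))
  haveI : Mono emb := by
    constructor
    intro Z a c h
    have h1 := congrArg (· ≫ fst _ _) h
    have h2 := congrArg (· ≫ snd _ _ ≫ fst _ _ ≫ D.split.hom.hom.hom) h
    have h3 := congrArg (· ≫ snd _ _ ≫ snd _ _) h
    simp only [emb, Category.assoc, lift_fst, lift_snd_assoc, lift_fst_assoc, lift_snd] at h1 h2 h3
    rw [e0, Category.comp_id] at h2
    refine CartesianMonoidalCategory.hom_ext _ _ h1 (CartesianMonoidalCategory.hom_ext _ _ ?_ ?_)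
    · refine ds_ext fun q => ?_
      obtain ⟨y, rfl⟩ := QuotientAddGroup.mk'_surjective N q
      have := congrArg (fun t => dsVal t y) h2
      simp only [← Category.assoc, dsVal_map] at this
      simpa only [Category.assoc] using this
    · simpa only [Category.assoc] using h3
  haveI : Mono P := hemb ▸ inferInstance
  -- the translates of the reduced cell
  have hone : ∃ o : 𝟙_ (Over S) ⟶ Ω, o ≫ P = 1 := by
    obtain ⟨e, he⟩ := exists_one_cellMap D eneg epos
    obtain ⟨o, ho⟩ := exists_primePt hT hU e (by rw [← Category.assoc, he]; exact MonObj.one_comp φ)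
    exact ⟨o, ho.symm.trans he⟩
  have trans : ∀ w ∈ Mo, ∃ j : Ω ⟶ K, j ≫ k = (toUnit _ ≫ w) * P ∧ IsOpenImmersion j.left ∧
      ∀ z : K.left, k.left.base z ∈ Set.range ((toUnit _ ≫ w) * C).left.base → z ∈ Set.range j.left.base := by
    intro w hw
    obtain ⟨j, hj⟩ := klift ((toUnit _ ≫ w) * P) (by
      simp only [MonObj.mul_comp, Category.assoc, hw1 w hw, MonObj.comp_one]; rw [primeMap_comp hT hU, one_mul])
    let W := (toUnit _ ≫ w) * C
    let L : G ⟶ G := (toUnit G ≫ w) * 𝟙 G
    have hLL : ∀ w : 𝟙_ (Over S) ⟶ G, ((toUnit G ≫ w) * 𝟙 G) ≫ ((toUnit G ≫ w⁻¹) * 𝟙 G) = 𝟙 G := fun w => by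
      rw [MonObj.comp_mul, ← Category.assoc, toUnit_unique (_ ≫ toUnit G) (toUnit G), Category.comp_id,
        GrpObj.comp_inv, inv_mul_cancel_left]
    haveI : IsIso L := ⟨(toUnit G ≫ w⁻¹) * 𝟙 G, hLL _, by simpa [L] using hLL w⁻¹⟩
    haveI : IsIso L.left := inferInstanceAs (IsIso ((Over.forget S).map L))
    have hW : C ≫ L = W := by
      rw [MonObj.comp_mul, ← Category.assoc C, toUnit_unique (C ≫ toUnit G) (toUnit _), Category.comp_id]
    haveI hWo : IsOpenImmersion W.left := by
      rw [← hW]; exact inferInstanceAs (IsOpenImmersion (C.left ≫ L.left))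
    let Q : Over S := Over.mk (pullback.fst k.left W.left ≫ K.hom)
    let q₁ : Q ⟶ K := Over.homMk (pullback.fst k.left W.left)
    let q₂ : Q ⟶ cellObj D n m := Over.homMk (pullback.snd k.left W.left) (by
      show pullback.snd k.left W.left ≫ _ = pullback.fst k.left W.left ≫ K.hom
      rw [← Over.w W, ← Category.assoc, ← pullback.condition, Category.assoc, Over.w k])
    have hq : q₁ ≫ k = q₂ ≫ W := Over.OverMorphism.ext pullback.condition
    obtain ⟨d, hd⟩ := exists_primePt hT hU q₂ (by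
      have h := congrArg (· ≫ φ) hq
      simp only [Category.assoc, hk1, MonObj.comp_one, W, MonObj.mul_comp, hw1 w hw, one_mul] at h
      exact h.symm)
    have hembW : emb ≫ W = j ≫ k := by
      rw [hj]
      simp only [W, MonObj.comp_mul, hemb, ← Category.assoc, toUnit_unique (emb ≫ toUnit _) (toUnit _)]
      rfl
    let e : Ω ⟶ Q := Over.homMk (pullback.lift j.left emb.left
      (congrArg CommaMorphism.left hembW.symm)) (by
      show pullback.lift _ _ _ ≫ pullback.fst _ _ ≫ K.hom = Ω.hom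
      rw [pullback.lift_fst_assoc, Over.w])
    have he1 : e ≫ q₁ = j := Over.OverMorphism.ext (pullback.lift_fst _ _ _)
    have he2 : e ≫ q₂ = emb := Over.OverMorphism.ext (pullback.lift_snd _ _ _)
    have hdP : d ≫ P = q₂ ≫ C := hd.symm
    have hd2 : d ≫ emb = q₂ := by rw [← cancel_mono C, Category.assoc, hemb, hdP]
    have h1 : e ≫ d = 𝟙 Ω := by
      rw [← cancel_mono emb, Category.assoc, hd2, he2, Category.id_comp]
    have h2 : d ≫ j = q₁ := by
      rw [← cancel_mono k, Category.assoc, ← hembW, ← Category.assoc, hd2, hq]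
    have h3 : d ≫ e = 𝟙 Q := by
      refine Over.OverMorphism.ext (pullback.hom_ext ?_ ?_)
      · have := congrArg CommaMorphism.left (show (d ≫ e) ≫ q₁ = q₁ by rw [Category.assoc, he1, h2])
        simpa [q₁] using this
      · have := congrArg CommaMorphism.left (show (d ≫ e) ≫ q₂ = q₂ by rw [Category.assoc, he2, hd2])
        simpa [q₂] using this
    haveI : IsIso e := ⟨d, h1, h3⟩
    haveI : IsIso e.left := inferInstanceAs (IsIso ((Over.forget S).map e))
    refine ⟨j, hj, ?_, ?_⟩
    · rw [← he1]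
      exact inferInstanceAs (IsOpenImmersion (e.left ≫ pullback.fst k.left W.left))
    · rintro z ⟨y, hy⟩
      obtain ⟨p, hp, -⟩ := Scheme.Pullback.exists_preimage_pullback (f := k.left) (g := W.left) z y hy.symm
      refine ⟨d.left.base p, ?_⟩
      rw [← Scheme.Hom.comp_apply, ← Over.comp_left, h2]
      exact hp
  choose j hj hjo hjr using trans
  have hcov : ∀ z : K.left, ∃ w : Mo, z ∈ Set.range (j w.1 w.2).left.base := fun z => by
    obtain ⟨w, hw, h⟩ := RedRk29.cover_simple hneg hpos x hx (k.left.base z)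
    exact ⟨⟨w, hw⟩, hjr w hw z h⟩
  choose wz hwz using hcov
  refine ⟨?_, fun s => ?_, fun A _ f _ hA => ?_⟩
  · let 𝒰 : K.left.OpenCover := Scheme.Cover.mkOfCovers K.left (fun _ => Ω.left)
      (fun z => (j (wz z).1 (wz z).2).left) (fun z => ⟨z, (hwz z).choose, (hwz z).choose_spec⟩)
      (fun z => hjo (wz z).1 (wz z).2)
    refine IsZariskiLocalAtSource.of_openCover 𝒰 fun z => ?_
    show Smooth ((j (wz z).1 (wz z).2).left ≫ K.hom)
    rw [Over.w]
    exact hΩs
  · -- connectedness
    have hsec : ∀ {Y : Over S} (o : 𝟙_ (Over S) ⟶ Y), Y.hom.base (o.left.base s) = s := fun {Y} o => by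
      rw [← Scheme.Hom.comp_apply, Over.w o]; rfl
    let F : Set K.left := K.hom.base ⁻¹' {s}
    let η₀ : 𝟙_ (Over S) ⟶ K := 1
    have hη : η₀.left.base s ∈ F := hsec η₀
    let Cc := connectedComponentIn F (η₀.left.base s)
    have himg : ∀ w (hw : w ∈ Mo) (o : 𝟙_ (Over S) ⟶ Ω), (o ≫ j w hw).left.base s ∈ Cc →
        (j w hw).left.base '' (Ω.hom.base ⁻¹' {s}) ⊆ Cc := by
      intro w hw o ho
      have hsub : (j w hw).left.base '' (Ω.hom.base ⁻¹' {s}) ⊆ F := by
        rintro _ ⟨p, hp, rfl⟩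
        show K.hom.base ((j w hw).left.base p) = s
        rw [← Scheme.Hom.comp_apply, Over.w]
        exact hp
      have hmem : (o ≫ j w hw).left.base s ∈ (j w hw).left.base '' (Ω.hom.base ⁻¹' {s}) :=
        ⟨o.left.base s, hsec o, by rw [← Scheme.Hom.comp_apply]; rfl⟩
      have hconn := ((Ω.hom.isConnected_preimage_singleton s).isPreconnected).image _
        (j w hw).left.continuous.continuousOn
      refine (hconn.subset_connectedComponentIn hmem hsub).trans ?_
      rw [← connectedComponentIn_eq ho]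
    obtain ⟨o, ho⟩ := hone
    have hjw : ∀ w (hw : w ∈ Mo), ∀ o' : 𝟙_ (Over S) ⟶ Ω, ∀ g, o' ≫ P = g → ∀ κ : 𝟙_ (Over S) ⟶ K,
        κ ≫ k = w * g → o' ≫ j w hw = κ := by
      intro w hw o' g hg κ hκ
      rw [← cancel_mono k, Category.assoc, hj, hκ, MonObj.comp_mul, ← Category.assoc,
        toUnit_unique (o' ≫ toUnit _) (𝟙 _), Category.id_comp, hg]
    have hQ : ∀ w ∈ Mo, ∀ κ : 𝟙_ (Over S) ⟶ K, κ ≫ k = w → κ.left.base s ∈ Cc := by
      intro w hw
      induction hw using Submonoid.closure_induction_right with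
      | one =>
        intro κ hκ
        have : κ = η₀ := by rw [← cancel_mono k, hκ, MonObj.one_comp]
        rw [this]
        exact mem_connectedComponentIn hη
      | mul_right v hv g hg ih =>
        intro κ hκ
        obtain ⟨a, ha, rfl⟩ := hg
        obtain ⟨κ', hκ'⟩ := klift v (hw1 v hv)
        have h0 : (o ≫ j v hv) = κ' := hjw v hv o 1 ho κ' (by rw [hκ', mul_one])
        have hu : ∃ o' : 𝟙_ (Over S) ⟶ Ω, o' ≫ P = x a ≫ D.u a := by
          obtain ⟨lp, hlp, -⟩ := exists_pos_form hpos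
          obtain ⟨ln, hln, -⟩ := exists_neg_form hneg hpos
          have hmem : a ∈ List.ofFn epos := by
            rw [List.mem_ofFn, ← Set.mem_range, hpos.2]
            exact (RootData.Simple.of_base b).subset_posOf (Finset.mem_coe.mpr ha)
          obtain ⟨y, hy, -⟩ := exists_pt (𝟙 D.T) hlp hln 1 hln.one
            (hlp.U_mem hmem (Red.gaFn (x a)) : InProd D (𝟙_ (Over S)) (List.ofFn epos) _)
          rw [map_one, one_mul, one_mul, ← pt_comp_eq] at hy
          obtain ⟨o', ho'⟩ := exists_primePt hT hU y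
            (by rw [← Category.assoc, hy, Category.assoc, hU, MonObj.comp_one])
          exact ⟨o', ho'.symm.trans hy⟩
        obtain ⟨o', ho'⟩ := hu
        rw [← hjw v hv o' _ ho' κ hκ]
        exact himg v hv o (by rw [h0]; exact ih κ' hκ') ⟨o'.left.base s, hsec o', rfl⟩
    refine ⟨⟨_, hη⟩, ?_⟩
    have : F = Cc := by
      refine Set.Subset.antisymm (fun z hz => ?_) (connectedComponentIn_subset _ _)
      obtain ⟨p, hp⟩ := hwz z
      obtain ⟨κ, hκ⟩ := klift (wz z).1 (hw1 _ (wz z).2)
      refine himg _ (wz z).2 o ?_ ⟨p, ?_, hp⟩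
      · rw [hjw _ _ o 1 ho κ (by rw [hκ, mul_one])]
        exact hQ _ (wz z).2 κ hκ
      · show Ω.hom.base p = s
        rw [← Over.w (j (wz z).1 (wz z).2), Scheme.Hom.comp_apply]
        exact (congrArg K.hom.base hp).trans hz
    show _root_.IsPreconnected F
    rw [this]
    exact isPreconnected_connectedComponentIn
  · have hroot : ∀ {l : ℕ} (e : Fin l → D.idx),
        RedSub.prodMap (Red.Ga S) l (fun i => D.u (e i)) ≫ f = 1 := fun e =>
      prodMap_comp D f (fun c => rootHom_comp_eq_one D c f hA) e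
    have hPf : P ≫ f = 1 := by
      simp only [P, primeMap, MonObj.mul_comp, Category.assoc, hroot, corootTorus_comp_eq_one D N hN f hA,
        MonObj.comp_one, one_mul]
    have hwf : ∀ w ∈ Mo, w ≫ f = 1 := fun w hw => by
      induction hw using Submonoid.closure_induction with
      | mem g hg => obtain ⟨a, -, rfl⟩ := hg; rw [Category.assoc, rootHom_comp_eq_one D a f hA, MonObj.comp_one]
      | one => exact MonObj.one_comp f
      | mul a b _ _ ha hb => rw [MonObj.mul_comp, ha, hb, one_mul]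
    refine hom_ext_cover (X := K) (fun _ : K.left => Ω) (fun z => j (wz z).1 (wz z).2)
      (fun z => hjo (wz z).1 (wz z).2) (fun z => ⟨z, hwz z⟩) fun z => ?_
    rw [← Category.assoc, hj, MonObj.mul_comp, Category.assoc, hwf _ (wz z).2, hPf, MonObj.comp_one, one_mul,
      MonObj.comp_one]

end Groth.Agent.RedSub30.CellChar
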