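import Groth.Agent.RedRk29.CoverSimple
import Mathlib.AlgebraicGeometry.AlgClosed.Basic

/-!
# Checking the image of a morphism on geometric points
-/

set_option autoImplicit false

universe u

open CategoryTheory MonoidalCategory CartesianMonoidalCategory AlgebraicGeometry Limits
open scoped MonObj

noncomputable section

namespace Groth.Agent.RedSub30

open BigCell29

variable {S : Scheme.{u}} {Y G : Over S}

/-- If all points over the algebraic closures of the residue fields of the base land in an open set, the whole
image does. -/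
theorem range_subset_of_geom (W : Y ⟶ G) [LocallyOfFiniteType Y.hom] {O : Set G.left} (hO : IsOpen O)
    (h : ∀ (s : S) (g : tObj (Red.geomPt s) (AlgebraicClosure (S.residueField s)) ⟶ Y),
      Set.range (g ≫ W).left.base ⊆ O) :
    Set.range W.left.base ⊆ O := by
  rintro _ ⟨q, rfl⟩
  set s := Y.hom.base q
  let K := AlgebraicClosure (S.residueField s)
  let f := Red.geomPt s
  obtain ⟨q', hq', -⟩ := Scheme.Pullback.exists_preimage_pullback (f := Y.hom) (g := f) q
    (Classical.choice (inferInstanceAs (Nonempty (PrimeSpectrum K)))) (Scheme.fromSpecResidueField_apply s _).symm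
  haveI : LocallyOfFiniteType (pullback.snd Y.hom f) := inferInstance
  haveI : JacobsonSpace ↥(pullback Y.hom f) := LocallyOfFiniteType.jacobsonSpace (pullback.snd Y.hom f)
  by_contra hq
  let Z : Set ↥(pullback Y.hom f) := ((pullback.fst Y.hom f ≫ W.left).base ⁻¹' O)ᶜ
  have hZ : IsClosed Z := (hO.preimage (pullback.fst Y.hom f ≫ W.left).continuous).isClosed_compl
  have hne : Z.Nonempty := ⟨q', fun hm => hq (by
    have : (pullback.fst Y.hom f ≫ W.left).base q' ∈ O := hm
    rwa [Scheme.Hom.comp_apply, hq'] at this)⟩
  obtain ⟨z, hzZ, hz⟩ : (Z ∩ closedPoints ↥(pullback Y.hom f)).Nonempty := by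
    by_contra hc
    have := JacobsonSpace.closure_inter_closedPoints_eq_closure hZ.isLocallyClosed
    rw [Set.not_nonempty_iff_eq_empty.mp hc, closure_empty, hZ.closure_eq] at this
    exact hne.ne_empty this.symm
  let p := pointOfClosedPoint (pullback.snd Y.hom f) z hz
  have hw : (p ≫ pullback.fst Y.hom f) ≫ Y.hom = (tObj f K).hom := by
    rw [Category.assoc, pullback.condition, ← Category.assoc, pointOfClosedPoint_comp]
    show _ = Spec.map (CommRingCat.ofHom (algebraMap K K)) ≫ f
    rw [Algebra.algebraMap_self, CommRingCat.ofHom_id, Spec.map_id]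
  let g : tObj f K ⟶ Y := Over.homMk (p ≫ pullback.fst Y.hom f) hw
  obtain ⟨a⟩ : Nonempty (Spec (CommRingCat.of K)) := inferInstanceAs (Nonempty (PrimeSpectrum K))
  refine hzZ ?_
  have := h s g ⟨a, rfl⟩
  show (pullback.fst Y.hom f ≫ W.left).base z ∈ O
  rw [← pointOfClosedPoint_apply (pullback.snd Y.hom f) z hz a, Scheme.Hom.comp_apply]
  simpa [g, p] using this

end Groth.Agent.RedSub30
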