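import Groth.Prelude.Def_Red
import Groth.Agent.S2501
import Groth.Agent.FBaseLib.Basic
import Groth.Agent.Pi1X.GeomConnFF
import Mathlib.AlgebraicGeometry.Geometrically.Connected

/-!
# Geometric connectedness from connected geometric fibres, and constancy of maps to étale separated schemes
-/

open CategoryTheory Limits AlgebraicGeometry

universe u

namespace Groth.Agent.RedSub30

variable {X Y : Scheme.{u}}

theorem geometricallyConnected_of_geomFibre (f : X ⟶ Y)
    (h : ∀ y : Y, ConnectedSpace ↥(Red.geomFibre y (Over.mk f)).left) : GeometricallyConnected f := by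
  rw [GeometricallyConnected.iff_geometricallyConnected_fiber]
  intro y
  let i := Spec.map (CommRingCat.ofHom (algebraMap (Y.residueField y) (AlgebraicClosure (Y.residueField y))))
  have : Surjective i := GrpSchLib.surjective_spec_map_field _
  refine ⟨FBaseLib.geometrically_of_surjective (P := (ConnectedSpace ·))
    (fun {Z W} q _ _ hW => @FBaseLib.connectedSpace_of_surjective Z W q inferInstance hW) _ i ?_⟩
  have e : pullback (f.fiberToSpecResidueField y) i ≅ pullback f (i ≫ Y.fromSpecResidueField y) :=
    pullbackLeftPullbackSndIso f (Y.fromSpecResidueField y) i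
  have : ConnectedSpace ↥(pullback f (i ≫ Y.fromSpecResidueField y)) := h y
  have : ConnectedSpace ↥(pullback (f.fiberToSpecResidueField y) i) :=
    e.hom.homeomorph.connectedSpace_iff.mpr this
  exact (S2501.result (pullback.snd _ i)).1

/-- A map to a separated étale scheme is constant along a covering with geometrically connected fibres. -/
theorem eq_of_geometricallyConnected {S Z : Scheme.{u}} (f : X ⟶ Y) [GeometricallyConnected f]
    (z : Z ⟶ S) [Etale z] [IsSeparated z] (g : X ⟶ Z) (y : Y ⟶ S) (hg : g ≫ z = f ≫ y) :
    pullback.fst f f ≫ g = pullback.snd f f ≫ g := by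
  let L : pullback f f ⟶ pullback z z := pullback.lift (pullback.fst f f ≫ g) (pullback.snd f f ≫ g)
    (by rw [Category.assoc, Category.assoc, hg, pullback.condition_assoc])
  let Δ := pullback.diagonal z
  have : IsOpenImmersion Δ := inferInstance
  have : IsClosedImmersion Δ := inferInstance
  let E := pullback.fst L Δ
  have : IsOpenImmersion E := inferInstance
  have : IsClosedImmersion E := inferInstance
  have hW : IsClopen (Set.range E) := ⟨E.isClosedEmbedding.isClosed_range, E.isOpenEmbedding.isOpen_range⟩
  let d : X ⟶ pullback L Δ := pullback.lift (pullback.diagonal f) g (by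
    apply pullback.hom_ext
    · rw [Category.assoc, Category.assoc, pullback.diagonal_fst, Category.comp_id,
        show L ≫ pullback.fst z z = pullback.fst f f ≫ g from pullback.lift_fst _ _ _,
        pullback.diagonal_fst_assoc]
    · rw [Category.assoc, Category.assoc, pullback.diagonal_snd, Category.comp_id,
        show L ≫ pullback.snd z z = pullback.snd f f ≫ g from pullback.lift_snd _ _ _,
        pullback.diagonal_snd_assoc])
  have hd : d ≫ E = pullback.diagonal f := pullback.lift_fst _ _ _
  have hall : ∀ r : ↥(pullback f f), r ∈ Set.range E := by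
    intro r
    let x := pullback.fst f f r
    have hx : pullback.diagonal f x ∈ Set.range E := ⟨d x, by rw [← Scheme.Hom.comp_apply, hd]⟩
    refine ((pullback.fst f f).isConnected_preimage_singleton x).isPreconnected.subset_isClopen hW
      ⟨_, ?_, hx⟩ rfl
    show pullback.fst f f (pullback.diagonal f x) = x
    rw [← Scheme.Hom.comp_apply, pullback.diagonal_fst]
    rfl
  have : Surjective E := ⟨hall⟩
  have : IsIso E := isIso_of_isOpenImmersion_of_opensRange_eq_top E (TopologicalSpace.Opens.ext (Set.eq_univ_of_forall hall))
  have h1 := congrArg (fun m => inv E ≫ m ≫ pullback.fst z z) (pullback.condition (f := L) (g := Δ))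
  have h2 := congrArg (fun m => inv E ≫ m ≫ pullback.snd z z) (pullback.condition (f := L) (g := Δ))
  simp only [Category.assoc] at h1 h2
  rw [IsIso.inv_hom_id_assoc, pullback.diagonal_fst, Category.comp_id,
    show L ≫ pullback.fst z z = pullback.fst f f ≫ g from pullback.lift_fst _ _ _] at h1
  rw [IsIso.inv_hom_id_assoc, pullback.diagonal_snd, Category.comp_id,
    show L ≫ pullback.snd z z = pullback.snd f f ≫ g from pullback.lift_snd _ _ _] at h2
  exact h1.trans h2.symm

end Groth.Agent.RedSub30
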