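import Groth.Agent.AbSchX.LaurentLoc
import Groth.Agent.RedEasy38.TorusConn
import Groth.Agent.MaxTorusLib.Basic
import Groth.Agent.RedSub30.GeomConn
import Groth.Agent.S12182

/-!
# Diagonalisable groups of free modules: smooth, with geometrically connected fibres
-/

set_option autoImplicit false

universe u

open CategoryTheory Limits MonoidalCategory CartesianMonoidalCategory AlgebraicGeometry
open scoped MonObj

noncomputable section

namespace Groth.Agent.RedSub30

variable {S : Scheme.{u}}

theorem smooth_DS_fin (r : ℕ) : Smooth (Red.DS S (Fin r → ℤ)).hom := by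
  haveI := AbSchX.LaurentLoc.isOpenImmersion_toAffine r S
  haveI := S12182.smooth_affineSpace (ULift.{u} (Fin r)) S
  rw [← Over.w (AbSchX.LaurentLoc.toAffine r S)]
  exact inferInstanceAs (Smooth ((AbSchX.LaurentLoc.toAffine r S).left ≫ (𝔸(ULift.{u} (Fin r); S) ↘ S)))

variable (S) (M : Type) [AddCommGroup M] [Module.Free ℤ M] [Module.Finite ℤ M]

theorem exists_DS_iso : ∃ r : ℕ, Nonempty (Grp.mk (Red.DS S M) ≅ Grp.mk (Red.DS S (Fin r → ℤ))) :=
  ⟨_, MaxTorusLib.nonempty_DS_congr (Module.finBasis ℤ M).equivFun.symm.toAddEquiv⟩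

theorem smooth_DS : Smooth (Red.DS S M).hom := by
  obtain ⟨r, ⟨e⟩⟩ := exists_DS_iso S M
  let e' : Red.DS S M ≅ Red.DS S (Fin r → ℤ) := (Grp.forget _).mapIso e
  haveI := smooth_DS_fin (S := S) r
  haveI : IsIso e'.hom.left := inferInstanceAs (IsIso ((Over.forget S).map e'.hom))
  rw [← Over.w e'.hom]
  exact inferInstanceAs (Smooth (e'.hom.left ≫ (Red.DS S (Fin r → ℤ)).hom))

theorem geometricallyConnected_DS : GeometricallyConnected (Red.DS S M).hom := by
  obtain ⟨r, ⟨e⟩⟩ := exists_DS_iso S M
  have hT : Red.IsTorus (Red.DS S M) := MaxTorusLib.isTorus_of_iso e (MaxTorusLib.isTorus_DS S r)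
  exact geometricallyConnected_of_geomFibre _ fun y =>
    (RedEasy38.connectedSpace_torus (RedSub30.TorusAbsorb.isTorus_bc (Red.geomPt y) hT) :
      ConnectedSpace ↥(Red.geomFibre y (Red.DS S M)).left)

variable {S}

/-- Products of smooth schemes with geometrically connected fibres. -/
theorem smooth_conn_prod {X Y : Over S} (h : Smooth X.hom ∧ GeometricallyConnected X.hom)
    (h' : Smooth Y.hom ∧ GeometricallyConnected Y.hom) :
    Smooth (X ⊗ Y).hom ∧ GeometricallyConnected (X ⊗ Y).hom := by
  obtain ⟨_, _⟩ := h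
  obtain ⟨_, _⟩ := h'
  haveI : GeometricallyConnected (pullback.fst X.hom Y.hom) := inferInstance
  refine ⟨by rw [Over.tensorObj_hom]; infer_instance, ?_⟩
  rw [Over.tensorObj_hom]
  exact GeometricallyConnected.comp _ _

end Groth.Agent.RedSub30
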