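import Groth.Agent.RedSub30.CellPrime
import Groth.Agent.RedSub30.GeomRange
import Groth.Agent.RedSub30.SplitTorus

/-!
# Homomorphisms to commutative groups kill the root groups and the coroot torus
-/

set_option autoImplicit false

universe u

open CategoryTheory CategoryTheory.Limits AlgebraicGeometry MonoidalCategory CartesianMonoidalCategory
open scoped MonObj

noncomputable section

namespace Groth.Agent.RedSub30.CellChar

open GrpSchLib Rank2Red38 RedSub30.RootPoly BigCell29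

variable {S : Scheme.{u}} {G : Over S} [GrpObj G] {A : Over S} [GrpObj A]

theorem mapX (X' X : Over S) (g : X' ⟶ X) (v : (Γ(X.left, ⊤))ˣ) :
    g ≫ (GmPts.ptOfUnit v : X ⟶ Red.Gm S) = GmPts.ptOfUnit (Units.map g.left.appTop.hom.toMonoidHom v) :=
  GmPts.gmFn_injective (by
    show Red.gmFn _ = Red.gmFn _
    rw [GmPts.gmFn_comp, GmPts.gmFn_ptOfUnit, GmPts.gmFn_ptOfUnit]; rfl)

/-- A root group is killed by homomorphisms to commutative groups. -/
theorem rootHom_comp_eq_one (D : Red.SplitRed G) (c : D.idx) (f : G ⟶ A) [IsMonHom f]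
    (hA : ∀ (X : Over S) (a b : X ⟶ A), a * b = b * a) : D.u c ≫ f = 1 := by
  classical
  haveI : Smooth (Red.Gm S).hom := smooth_DS S ℤ
  let z : Γ((Red.Gm S).left, ⊤) := Red.gmFn (𝟙 (Red.Gm S))
  let O : (Red.Gm S).left.Opens := (Red.Gm S).left.basicOpen (z ^ 2 - 1)
  let V : Over S := Over.mk (O.ι ≫ (Red.Gm S).hom)
  let j : V ⟶ Red.Gm S := Over.homMk O.ι
  let X' : Over S := Red.Ga S ⊗ V
  let p : X' ⟶ Red.Ga S := fst _ _
  have hzu : IsUnit (j.left.appTop (z ^ 2 - 1)) := by
    have h : (⊤ : (O : Scheme.{u}).Opens) ≤ (O : Scheme.{u}).basicOpen (O.ι.appTop (z ^ 2 - 1)) := by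
      rw [← Scheme.preimage_basicOpen_top]
      exact fun x _ => x.2
    exact RingedSpace.isUnit_of_isUnit_germ (O : Scheme.{u}).toLocallyRingedSpace.toRingedSpace ⊤ _ fun x _ =>
      (Scheme.mem_basicOpen_top (O : Scheme.{u}) _ x).mp (h trivial)
  let w : (Γ(X'.left, ⊤))ˣ := (hzu.map (snd (Red.Ga S) V).left.appTop.hom).unit
  let v : X' ⟶ Red.Gm S := snd _ _ ≫ j
  let s : Γ(X'.left, ⊤) := p.left.appTop (Red.gaFn (𝟙 (Red.Ga S))) * ((w⁻¹ : _ˣ) : Γ(X'.left, ⊤))
  let t : X' ⟶ D.T := av D X' c (GmPts.unitOfPt v)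
  have hval : (rootVal D X' c t : Γ(X'.left, ⊤)) = (w : Γ(X'.left, ⊤)) + 1 := by
    rw [rootVal_av, D.P.pairing_same, zpow_ofNat, Units.val_pow_eq_pow_val, GmPts.val_unitOfPt]
    show _ = (snd (Red.Ga S) V).left.appTop (j.left.appTop (z ^ 2 - 1)) + 1
    rw [map_sub, map_sub, map_one, map_one, sub_add_cancel, map_pow, map_pow, ← GmPts.gmFn_comp,
      ← GmPts.gmFn_comp, Category.comp_id]
  have key : p ≫ D.u c = U D X' c (rootVal D X' c t * s) * (U D X' c s)⁻¹ := by
    rw [← (U_oneParam D c).neg, ← U_oneParam D c, pt_comp_eq]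
    congr 1
    rw [hval, show Red.gaFn p = p.left.appTop (Red.gaFn (𝟙 (Red.Ga S))) by rw [← GaPts.gaFn_comp, Category.comp_id]]
    show _ = ((w : Γ(X'.left, ⊤)) + 1) * (_ * ((w⁻¹ : _ˣ) : Γ(X'.left, ⊤))) + -(_ * ((w⁻¹ : _ˣ) : Γ(X'.left, ⊤)))
    linear_combination (-(p.left.appTop (Red.gaFn (𝟙 (Red.Ga S))))) * w.mul_inv
  have h1 : p ≫ (D.u c ≫ f) = p ≫ 1 := by
    rw [← Category.assoc, key, ← conj_U, MonObj.mul_comp, MonObj.mul_comp, MonObj.mul_comp, GrpObj.inv_comp,
      GrpObj.inv_comp, MonObj.comp_one, hA _ (I D X' t ≫ f) _, mul_inv_cancel_right, mul_inv_cancel]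
  haveI hsurjV : Surjective V.hom := by
    refine ⟨fun y => ?_⟩
    let K := AlgebraicClosure (S.residueField y)
    obtain ⟨a, ha⟩ := Infinite.exists_notMem_finset ({0, 1, -1} : Finset K)
    simp only [Finset.mem_insert, Finset.mem_singleton, not_or] at ha
    let T := tObj (Red.geomPt y) K
    let k := tVal (Red.geomPt y) K
    let a' : (Γ(T.left, ⊤))ˣ := Units.map k.symm.toMonoidHom (Units.mk0 a ha.1)
    let q : T ⟶ Red.Gm S := GmPts.ptOfUnit a'
    obtain ⟨o⟩ : Nonempty (Spec (CommRingCat.of K)) := inferInstanceAs (Nonempty (PrimeSpectrum K))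
    have hu : IsUnit (q.left.appTop (z ^ 2 - 1)) := by
      have e : q.left.appTop (z ^ 2 - 1) = k.symm (a ^ 2 - 1) := by
        rw [map_sub, map_pow, map_one, ← GmPts.gmFn_comp, Category.comp_id, GmPts.gmFn_ptOfUnit, map_sub,
          map_pow, map_one]
        rfl
      rw [e]
      refine (isUnit_iff_ne_zero.mpr fun h => ?_).map k.symm.toRingHom
      rcases mul_eq_zero.mp (show (a - 1) * (a + 1) = 0 by linear_combination h) with h' | h'
      · exact ha.2.1 (sub_eq_zero.mp h')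
      · exact ha.2.2 (eq_neg_of_add_eq_zero_left h')
    have hm : q.left.base o ∈ O := by
      show o ∈ q.left ⁻¹ᵁ O
      rw [Scheme.preimage_basicOpen_top, Scheme.basicOpen_of_isUnit _ hu]
      trivial
    refine ⟨⟨q.left.base o, hm⟩, ?_⟩
    show (Red.Gm S).hom.base (q.left.base o) = y
    rw [← Scheme.Hom.comp_apply, Over.w q]
    show (Spec.map (CommRingCat.ofHom (algebraMap K K)) ≫ Red.geomPt y).base o = y
    exact (Scheme.fromSpecResidueField_apply y _)
  haveI : Smooth V.hom := inferInstanceAs (Smooth (O.ι ≫ (Red.Gm S).hom))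
  haveI : Flat p.left := inferInstanceAs (Flat (pullback.fst (Red.Ga S).hom V.hom))
  haveI : Surjective p.left := inferInstanceAs (Surjective (pullback.fst (Red.Ga S).hom V.hom))
  haveI : Epi p.left := Flat.epi_of_flat_of_surjective _
  haveI : Epi p := (Over.forget S).epi_of_epi_map ‹_›
  exact (cancel_epi p).mp h1

/-- The coroots are killed by homomorphisms to commutative groups. -/
theorem corootHom_comp_eq_one (D : Red.SplitRed G) (c : D.idx) (f : G ⟶ A) [IsMonHom f]
    (hA : ∀ (X : Over S) (a b : X ⟶ A), a * b = b * a) : corootHom D c ≫ D.i ≫ f = 1 := by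
  obtain ⟨k, hk⟩ := RedRk29.exists_isDualPair D c
  have hu := rootHom_comp_eq_one D c f hA
  have hu' := rootHom_comp_eq_one D (D.P.reflectionPerm c c) f hA
  let v : Γ((Red.Gm S).left, ⊤) := Red.gmFn (𝟙 (Red.Gm S))
  let k' : Γ((Red.Gm S).left, ⊤) := (Red.Gm S).hom.appTop.hom ((k⁻¹ : _ˣ) : Γ(S, ⊤))
  have hkk : (Red.Gm S).hom.appTop.hom (k : Γ(S, ⊤)) * k' = 1 := by rw [← map_mul, Units.mul_inv, map_one]
  have e : 1 + (Red.Gm S).hom.appTop.hom (k : Γ(S, ⊤)) * Red.gaFn (GaPts.ptOfFn ((v - 1) * k') : _ ⟶ Red.Ga S) *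
      Red.gaFn (GaPts.ptOfFn 1 : Red.Gm S ⟶ Red.Ga S) = v := by
    rw [GaPts.gaFn_ptOfFn, GaPts.gaFn_ptOfFn]
    linear_combination (v - 1) * hkk
  obtain ⟨x', y', z, hz, -, -, h⟩ := hk (Red.Gm S) (GaPts.ptOfFn ((v - 1) * k')) (GaPts.ptOfFn 1)
    (by rw [e]; exact GmPts.isUnit_gmFn _)
  have hz' : z = 𝟙 _ := GmPts.gmFn_injective (hz.trans e)
  subst hz'
  have h' := congrArg (· ≫ f) h
  simp only [MonObj.mul_comp, Category.assoc, hu, show D.u (RedRk29.negIdx D c) ≫ f = 1 from hu', MonObj.comp_one,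
    one_mul, mul_one, Category.id_comp] at h'
  simpa only [corootHom, Category.assoc] using h'.symm

/-- The torus of the lattice spanned by the coroots is killed by homomorphisms to commutative groups. -/
theorem corootTorus_comp_eq_one (D : Red.SplitRed G) (N : AddSubgroup D.M)
    (hN : ∀ m : D.M, m ∈ N ↔ ∀ a : D.idx, D.P.coroot a m = 0) (f : G ⟶ A) [IsMonHom f]
    (hA : ∀ (X : Over S) (a b : X ⟶ A), a * b = b * a) :
    Red.DSmap S (QuotientAddGroup.mk' N) ≫ D.split.inv.hom.hom ≫ D.i ≫ f = 1 := by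
  classical
  let Φ : D.M →+ (D.idx → ℤ) := Pi.addMonoidHom fun a => (D.P.coroot a).toAddMonoidHom
  have hker : N ≤ Φ.ker := fun x hx => funext fun a => (hN x).mp hx a
  let j : D.M ⧸ N →+ (D.idx → ℤ) := QuotientAddGroup.lift N Φ hker
  have hj : Function.Injective j := by
    refine (injective_iff_map_eq_zero j).mpr fun q hq => ?_
    obtain ⟨x, rfl⟩ := QuotientAddGroup.mk'_surjective N q
    exact (QuotientAddGroup.eq_zero_iff _).mpr ((hN x).mpr fun a => congrFun hq a)
  haveI : AddGroup.FG (D.idx → ℤ) := Module.Finite.iff_addGroup_fg.mp inferInstance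
  haveI : AddGroup.FG D.M := Module.Finite.iff_addGroup_fg.mp inferInstance
  haveI : AddGroup.FG (D.M ⧸ N) := AddGroup.fg_of_surjective (QuotientAddGroup.mk'_surjective N)
  obtain ⟨h1, h2, -⟩ := HTop83.DSmap_fppf (S := S) j hj
  haveI : Epi (Red.DSmap S j).left := Flat.epi_of_flat_of_surjective _
  haveI : Epi (Red.DSmap S j) := (Over.forget S).epi_of_epi_map ‹_›
  let P := Red.DS S (D.idx → ℤ)
  let w : D.idx → (P ⟶ D.T) := fun c => Red.DSmap S (AddMonoidHom.single (fun _ => ℤ) c) ≫ corootHom D c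
  let t : P ⟶ D.T := ((Finset.univ : Finset D.idx).toList.map w).prod
  haveI := S5427.isMonHom_DSmap S Φ
  haveI : IsMonHom (D.split.hom.hom.hom : D.T ⟶ Red.DS S D.M) := D.split.hom.hom.isMonHom_hom
  have e0 : D.split.inv.hom.hom ≫ D.split.hom.hom.hom = 𝟙 _ := congrArg (fun k => k.hom.hom) D.split.inv_hom_id
  have e1 : D.split.hom.hom.hom ≫ D.split.inv.hom.hom = 𝟙 _ := congrArg (fun k => k.hom.hom) D.split.hom_inv_id
  have hmul : ∀ a b : P ⟶ D.T, (a * b) ≫ D.split.hom.hom.hom = (a ≫ D.split.hom.hom.hom) * (b ≫ D.split.hom.hom.hom) :=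
    fun a b => MonObj.mul_comp (M := D.T) (N := Red.DS S D.M) a b (D.split.hom.hom.hom : D.T ⟶ Red.DS S D.M)
  have et : t ≫ D.split.hom.hom.hom = Red.DSmap S Φ := by
    refine ds_ext fun x => ?_
    have hval : ∀ l : List D.idx, dsVal ((l.map w).prod ≫ D.split.hom.hom.hom) x =
        dsVal (𝟙 P) (l.map fun c => (Pi.single c (D.P.coroot c x) : D.idx → ℤ)).sum := by
      intro l
      induction l with
      | nil => simp [dsVal_zero, HTop83.dsVal_one, MonObj.one_comp]
      | cons c l ih =>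
        haveI : IsMonHom (Red.chi S x) := S5427.isMonHom_DSmap S _
        rw [List.map_cons, List.prod_cons, hmul, dsVal_mul, List.map_cons, List.sum_cons, dsVal_add, ih]
        congr 1
        simp only [w, corootHom, Category.assoc]
        rw [e0, Category.comp_id, dsVal_map, ← Category.id_comp (Red.DSmap S (AddMonoidHom.single (fun _ : D.idx => ℤ) c)),
          dsVal_map]
        rfl
    rw [show dsVal (Red.DSmap S Φ) x = dsVal (𝟙 P) (Φ x) by rw [← dsVal_map, Category.id_comp], hval,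
      Finset.sum_map_toList]
    congr 1
    exact (Finset.univ_sum_single (Φ x))
  refine (cancel_epi (Red.DSmap S j)).mp ?_
  have hjmk : j.comp (QuotientAddGroup.mk' N) = Φ := rfl
  rw [← Category.assoc, SgaFix20.DSmap_comp, hjmk, MonObj.comp_one, ← et, Category.assoc,
    ← Category.assoc D.split.hom.hom.hom, e1, Category.id_comp]
  show ((Finset.univ : Finset D.idx).toList.map w).prod ≫ D.i ≫ f = 1
  have hw : ∀ c, w c ≫ D.i ≫ f = 1 := fun c => by
    rw [Category.assoc, corootHom_comp_eq_one D c f hA, MonObj.comp_one]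
  generalize (Finset.univ : Finset D.idx).toList = l
  induction l with
  | nil =>
    rw [List.map_nil, List.prod_nil]
    exact MonObj.one_comp _
  | cons c l ih => rw [List.map_cons, List.prod_cons, MonObj.mul_comp, ih, hw, one_mul]

end Groth.Agent.RedSub30.CellChar
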