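import Groth.Agent.RedSub30.DerFibres
import Groth.Agent.S1618
import Groth.Agent.S0348

/-!
# The dimension of the geometric fibres of the derived group
-/

set_option autoImplicit false
set_option maxHeartbeats 800000

universe u

open CategoryTheory CategoryTheory.Limits AlgebraicGeometry MonoidalCategory CartesianMonoidalCategory
open scoped MonObj

noncomputable section

namespace Groth.Agent.RedSub30

theorem ringKrullDim_groupAlgebra (K : Type u) [Field K] (Λ : Type) [AddCommGroup Λ] [Module.Free ℤ Λ]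
    [Module.Finite ℤ Λ] :
    ringKrullDim (MonoidAlgebra K (Multiplicative Λ)) = ((Module.finrank ℤ Λ : ℕ) : WithBot ℕ∞) := by
  set r := Module.finrank ℤ Λ
  let S := Spec (CommRingCat.of K)
  let e : Λ ≃+ (Fin r → ℤ) := (Module.finBasis ℤ Λ).equivFun.toAddEquiv
  rw [ringKrullDim_eq_of_ringEquiv (MonoidAlgebra.domCongr K K e.toMultiplicative).toRingEquiv,
    ← PrimeSpectrum.topologicalKrullDim_eq_ringKrullDim]
  obtain ⟨i⟩ := GrpSchLib.AffineHopf.nonempty_DS_iso K (Fin r → ℤ)
  let i' : (GrpSchLib.AffineHopf.sp K (MonoidAlgebra K (Multiplicative (Fin r → ℤ)))).left ≅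
      (Red.DS S (Fin r → ℤ)).left := (Over.forget _).mapIso ((Grp.forget _).mapIso i)
  refine ((Scheme.homeoOfIso i').isHomeomorph.topologicalKrullDim_eq).trans ?_
  let n := ULift.{u} (Fin r)
  let j : (Red.DS S (Fin r → ℤ)).left ⟶ Spec (CommRingCat.of (MvPolynomial n K)) :=
    (AbSchX.LaurentLoc.toAffine r S).left ≫ (AffineSpace.SpecIso n (CommRingCat.of K)).hom
  haveI := AbSchX.LaurentLoc.isOpenImmersion_toAffine r S
  haveI : IsOpenImmersion j := inferInstanceAs (IsOpenImmersion (_ ≫ _))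
  let X := Spec (CommRingCat.of (MvPolynomial n K))
  letI : X.Over S := ⟨Spec.map (CommRingCat.ofHom (algebraMap K (MvPolynomial n K)))⟩
  haveI : LocallyOfFiniteType (X ↘ S) := by
    show LocallyOfFiniteType (Spec.map _)
    rw [HasRingHomProperty.Spec_iff (P := @LocallyOfFiniteType)]
    exact RingHom.finiteType_algebraMap.mpr inferInstance
  haveI : IrreducibleSpace X := inferInstanceAs (IrreducibleSpace (PrimeSpectrum (MvPolynomial n K)))
  haveI : Nonempty (Red.DS S (Fin r → ℤ)).left :=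
    ⟨(1 : 𝟙_ (Over S) ⟶ Red.DS S (Fin r → ℤ)).left.base (⟨⊥, Ideal.isPrime_bot⟩ : PrimeSpectrum K)⟩
  have h := Groth.Agent.S1618.result K X j.opensRange ⟨_, Set.mem_range_self (Classical.arbitrary _)⟩
  rw [← (Scheme.homeoOfIso j.isoOpensRange.symm).isHomeomorph.topologicalKrullDim_eq]
  refine h.trans ?_
  show topologicalKrullDim (PrimeSpectrum (MvPolynomial n K)) = _
  rw [PrimeSpectrum.topologicalKrullDim_eq_ringKrullDim, MvPolynomial.ringKrullDim_of_isNoetherianRing,
    ringKrullDim_eq_zero_of_field, zero_add]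
  simp [n]

namespace CellChar

open GrpSchLib Rank2Red38 BigCell29 DSPtsLib

variable {S : Scheme.{u}} {G D' : Over S} [GrpObj G] [GrpObj D'] (D : Red.SplitRed G) {b : D.P.Base}
  (N : AddSubgroup D.M) {φ : G ⟶ Red.DS S ↥N} [IsMonHom φ]
  (hT : D.i ≫ φ = D.split.hom.hom.hom ≫ Red.DSmap S N.subtype) (hU : ∀ c : D.idx, D.u c ≫ φ = 1)
  (d : D' ⟶ G) [IsMonHom d] [Mono d] (hd1 : d ≫ φ = 1)
  (hlift : ∀ {X : Over S} (g : X ⟶ G), g ≫ φ = 1 → ∃ g' : X ⟶ D', g' ≫ d = g)
  {n m : ℕ} {eneg : Fin n → D.idx} {epos : Fin m → D.idx}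

include hT hU hd1 hlift in
/-- The reduced cell is an open subscheme of the derived group. -/
theorem exists_open_cell (hneg : RedSub.Enumerates (RedSub.negRoots D.P b) eneg)
    (hpos : RedSub.Enumerates (RedSub.posRoots D.P b) epos) :
    ∃ j : RedSub.pow (Red.Ga S) n ⊗ (Red.DS S (D.M ⧸ N) ⊗ RedSub.pow (Red.Ga S) m) ⟶ D',
      IsOpenImmersion j.left := by
  haveI := isOpenImmersion_cellMap D b hneg hpos
  let C := RedSub.cellMap D eneg epos
  let Ω := RedSub.pow (Red.Ga S) n ⊗ (Red.DS S (D.M ⧸ N) ⊗ RedSub.pow (Red.Ga S) m)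
  let P := primeMap D eneg epos N
  obtain ⟨j, hj⟩ := hlift P (primeMap_comp hT hU)
  refine ⟨j, ?_⟩
  haveI := mono_primeTorus D N
  let emb : Ω ⟶ cellObj D n m := lift (fst _ _) (lift (snd _ _ ≫ fst _ _ ≫ primeTorus D N) (snd _ _ ≫ snd _ _))
  have hemb : emb ≫ C = P := by
    simp only [emb, C, P, primeMap, primeTorus, RedSub.cellMap, MonObj.comp_mul, lift_fst_assoc, lift_snd_assoc,
      Category.assoc]
  haveI : Mono C := (Over.forget S).mono_of_mono_map (inferInstanceAs (Mono C.left))
  haveI : Mono emb := by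
    constructor
    intro Z a c h
    have h1 := congrArg (· ≫ fst _ _) h
    have h2 := congrArg (· ≫ snd _ _ ≫ fst _ _) h
    have h3 := congrArg (· ≫ snd _ _ ≫ snd _ _) h
    simp only [emb, Category.assoc, lift_fst, lift_snd_assoc, lift_snd] at h1 h2 h3
    refine CartesianMonoidalCategory.hom_ext _ _ h1 (CartesianMonoidalCategory.hom_ext _ _ ?_ ?_)
    · rw [← cancel_mono (primeTorus D N)]; simpa only [Category.assoc] using h2
    · simpa only [Category.assoc] using h3
  let Q : Over S := Over.mk (pullback.fst d.left C.left ≫ D'.hom)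
  let q₁ : Q ⟶ D' := Over.homMk (pullback.fst d.left C.left)
  let q₂ : Q ⟶ cellObj D n m := Over.homMk (pullback.snd d.left C.left) (by
    show pullback.snd d.left C.left ≫ _ = pullback.fst d.left C.left ≫ D'.hom
    rw [← Over.w C, ← Category.assoc, ← pullback.condition, Category.assoc, Over.w d])
  have hq : q₁ ≫ d = q₂ ≫ C := Over.OverMorphism.ext pullback.condition
  obtain ⟨g, hg⟩ := exists_primePt hT hU q₂ (by
    rw [← Category.assoc, ← hq, Category.assoc, hd1, MonObj.comp_one])
  have hembC : emb ≫ C = j ≫ d := hemb.trans hj.symm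
  let e : Ω ⟶ Q := Over.homMk (pullback.lift j.left emb.left (congrArg CommaMorphism.left hembC.symm)) (by
    show pullback.lift _ _ _ ≫ pullback.fst _ _ ≫ D'.hom = Ω.hom
    rw [pullback.lift_fst_assoc, Over.w])
  have he1 : e ≫ q₁ = j := Over.OverMorphism.ext (pullback.lift_fst _ _ _)
  have he2 : e ≫ q₂ = emb := Over.OverMorphism.ext (pullback.lift_snd _ _ _)
  have hg2 : g ≫ emb = q₂ := by rw [← cancel_mono C, Category.assoc, hemb]; exact hg.symm
  have h1 : e ≫ g = 𝟙 Ω := by rw [← cancel_mono emb, Category.assoc, hg2, he2, Category.id_comp]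
  have h2 : g ≫ j = q₁ := by
    rw [← cancel_mono d, Category.assoc, ← hembC, ← Category.assoc, hg2, hq]
  have h3 : g ≫ e = 𝟙 Q := by
    refine Over.OverMorphism.ext (pullback.hom_ext ?_ ?_)
    · have := congrArg CommaMorphism.left (show (g ≫ e) ≫ q₁ = q₁ by rw [Category.assoc, he1, h2])
      simpa [q₁] using this
    · have := congrArg CommaMorphism.left (show (g ≫ e) ≫ q₂ = q₂ by rw [Category.assoc, he2, hg2])
      simpa [q₂] using this
  haveI : IsIso e := ⟨g, h1, h3⟩
  haveI : IsIso e.left := inferInstanceAs (IsIso ((Over.forget S).map e))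
  rw [← he1]
  exact inferInstanceAs (IsOpenImmersion (e.left ≫ pullback.fst d.left C.left))

/-- The dimension of a fibre of the reduced cell. -/
theorem dim_cell {R : Type u} [Field R] (f : Spec (CommRingCat.of R) ⟶ S) (Λ : Type) [AddCommGroup Λ]
    [Module.Free ℤ Λ] [Module.Finite ℤ Λ] (n m : ℕ) :
    topologicalKrullDim ↥(Red.bc f (RedSub.pow (Red.Ga S) n ⊗ (Red.DS S Λ ⊗ RedSub.pow (Red.Ga S) m))).left =
      ((Module.finrank ℤ Λ + (n + m) : ℕ) : WithBot ℕ∞) := by
  let X := RedSub.pow (Red.Ga S) n ⊗ (Red.DS S Λ ⊗ RedSub.pow (Red.Ga S) m)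
  let A := MonoidAlgebra R (Multiplicative Λ)
  let C := MvPolynomial (Fin n ⊕ Fin m) A
  haveI := BigCell29.isAffineHom_DS (S := S) Λ
  haveI := BigCell29.isAffineHom_pow (S := S) n
  haveI := BigCell29.isAffineHom_pow (S := S) m
  haveI := BigCell29.isAffineHom_tensor (Red.DS S Λ) (RedSub.pow (Red.Ga S) m)
  haveI : IsAffineHom X.hom := BigCell29.isAffineHom_tensor _ _
  haveI : IsAffineHom (pullback.snd X.hom f) := inferInstance
  haveI : IsAffine (Red.bc f X).left := isAffine_of_isAffineHom (pullback.snd X.hom f)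
  let x₀ : tObj f C ⟶ X := lift (powPt f fun i => MvPolynomial.X (Sum.inl i))
    (lift (chPt f ((MvPolynomial.C : A →+* C).toMonoidHom.comp (MonoidAlgebra.of R (Multiplicative Λ))))
      (powPt f fun i => MvPolynomial.X (Sum.inr i)))
  obtain ⟨c, -, hc⟩ := isIso_of_points f x₀ fun B _ _ => by
    have key : ∀ φ : C →ₐ[R] B, tMap f φ ≫ x₀ = lift (powPt f fun i => φ (MvPolynomial.X (Sum.inl i)))
        (lift (chPt f ((φ.toRingHom.comp MvPolynomial.C).toMonoidHom.comp (MonoidAlgebra.of R (Multiplicative Λ))))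
          (powPt f fun i => φ (MvPolynomial.X (Sum.inr i)))) := fun φ => by
      rw [comp_lift, comp_lift, powPt_map, powPt_map, chPt_map]; rfl
    refine ⟨fun φ ψ h => ?_, fun p => ?_⟩
    · simp only [key] at h
      have h1 := congrArg (· ≫ fst _ _) h
      have h2 := congrArg (· ≫ snd _ _ ≫ fst _ _) h
      have h3 := congrArg (· ≫ snd _ _ ≫ snd _ _) h
      simp only [lift_fst, lift_snd_assoc, lift_snd] at h1 h2 h3
      refine MvPolynomial.algHom_ext' (MonoidAlgebra.algHom_ext (fun x => ?_)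
        (AlgHom.ext fun r => (AlgHom.commutes _ r).trans (AlgHom.commutes _ r).symm)) (Sum.rec
        (congrFun ((powPt_bijective n).injective h1)) (congrFun ((powPt_bijective m).injective h3)))
      exact DFunLike.congr_fun ((chPt_bijective f).injective h2) x
    · obtain ⟨y, hy⟩ := (powPt_bijective n).surjective (p ≫ fst _ _)
      obtain ⟨χ, hχ⟩ := (chPt_bijective f).surjective (p ≫ snd _ _ ≫ fst _ _)
      obtain ⟨x, hx⟩ := (powPt_bijective m).surjective (p ≫ snd _ _ ≫ snd _ _)
      refine ⟨MvPolynomial.aevalTower (MonoidAlgebra.lift R B (Multiplicative Λ) χ) (Sum.elim y x), ?_⟩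
      show tMap f _ ≫ x₀ = p
      rw [key]
      refine CartesianMonoidalCategory.hom_ext _ _ ?_ (CartesianMonoidalCategory.hom_ext _ _ ?_ ?_)
      · rw [lift_fst]
        exact Eq.trans (congrArg (powPt f) (funext fun i => MvPolynomial.aevalTower_X _ _ _)) hy
      · simp only [Category.assoc, lift_snd_assoc, lift_fst]
        refine Eq.trans (congrArg (chPt f) (MonoidHom.ext fun z => ?_)) hχ
        show MvPolynomial.aevalTower _ _ (MvPolynomial.C (MonoidAlgebra.of R (Multiplicative Λ) z)) = χ z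
        rw [MvPolynomial.aevalTower_C, MonoidAlgebra.lift_of]
      · simp only [Category.assoc, lift_snd, lift_snd_assoc]
        exact Eq.trans (congrArg (powPt f) (funext fun i => MvPolynomial.aevalTower_X _ _ _)) hx
  let e : (GrpSchLib.AffineHopf.sp R C).left ≅ (Red.bc f X).left := (Over.forget _).mapIso (asIso c)
  rw [← (Scheme.homeoOfIso e).isHomeomorph.topologicalKrullDim_eq]
  show topologicalKrullDim (PrimeSpectrum C) = _
  haveI : Monoid.FG (Multiplicative Λ) := AddMonoid.fg_iff_mul_fg.mp ((Module.Finite.iff_addGroup_fg.mp inferInstance : AddGroup.FG Λ) |> AddGroup.fg_iff_addMonoid_fg.mp)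
  haveI : IsNoetherianRing A := Algebra.FiniteType.isNoetherianRing R A
  rw [PrimeSpectrum.topologicalKrullDim_eq_ringKrullDim, MvPolynomial.ringKrullDim_of_isNoetherianRing,
    ringKrullDim_groupAlgebra, Nat.card_eq_fintype_card, Fintype.card_sum, Fintype.card_fin, Fintype.card_fin]
  norm_cast

include hT hU hd1 hlift in
/-- The dimension of a geometric fibre of the derived group. -/
theorem dim_fibre_derived (hN : ∀ m : D.M, m ∈ N ↔ ∀ a : D.idx, D.P.coroot a m = 0) (b : D.P.Base)
    (hred : Red.IsReductive D') (s : S) :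
    topologicalKrullDim ↥(Red.geomFibre s D').left =
      ((Module.finrank ℤ (D.M ⧸ N) + Fintype.card D.idx : ℕ) : WithBot ℕ∞) := by
  classical
  obtain ⟨n, eneg, hneg⟩ := exists_enum (RedSub.negRoots D.P b)
  obtain ⟨m, epos, hpos⟩ := exists_enum (RedSub.posRoots D.P b)
  obtain ⟨hfree, hfin⟩ := free_quot D N hN
  obtain ⟨j, hj⟩ := exists_open_cell D N hT hU d hd1 hlift hneg hpos
  let K := AlgebraicClosure (S.residueField s)
  haveI : ConnectedSpace (Red.geomFibre s D').left := (hred.2.2 s).2.2.1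
  haveI := hred.2.1
  haveI : Smooth (Red.geomFibre s D').hom := inferInstanceAs (Smooth (pullback.snd _ _))
  haveI : IrreducibleSpace (Red.geomFibre s D').left := Groth.Agent.S0348.result K _
  let jK := (Over.pullback (Red.geomPt s)).map j
  haveI : IsOpenImmersion jK.left :=
    MorphismProperty.of_isPullback (P := @IsOpenImmersion) (BigCell29.isPullback_map (Red.geomPt s) j).flip hj
  letI : (Red.geomFibre s D').left.Over (Spec (CommRingCat.of K)) := ⟨(Red.geomFibre s D').hom⟩
  haveI : LocallyOfFiniteType ((Red.geomFibre s D').left ↘ Spec (CommRingCat.of K)) :=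
    inferInstanceAs (LocallyOfFiniteType (Red.geomFibre s D').hom)
  have hdim := dim_cell (Red.geomPt s) (D.M ⧸ N) n m
  have hne : Nonempty (Red.bc (Red.geomPt s)
      (RedSub.pow (Red.Ga S) n ⊗ (Red.DS S (D.M ⧸ N) ⊗ RedSub.pow (Red.Ga S) m))).left := by
    by_contra hcon
    rw [not_nonempty_iff] at hcon
    rw [topologicalKrullDim, Order.krullDim_eq_bot_iff.mpr ⟨fun z => hcon.false z.isIrreducible.nonempty.some⟩] at hdim
    exact (WithBot.bot_ne_natCast _) hdim
  have h := Groth.Agent.S1618.result K (Red.geomFibre s D').left jK.left.opensRange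
    ⟨_, Set.mem_range_self hne.some⟩
  rw [← h, ← (Scheme.homeoOfIso jK.left.isoOpensRange).isHomeomorph.topologicalKrullDim_eq, hdim]
  congr 2
  congr 1
  let e : Fin n ⊕ Fin m ≃ D.idx := Equiv.ofBijective (Sum.elim eneg epos) ⟨hneg.1.sumElim hpos.1 fun a c h => by
    have h1 : eneg a ∈ RedSub.negRoots D.P b := hneg.2 ▸ ⟨a, rfl⟩
    rw [h] at h1
    exact (RedRk29.neg_iff_not_pos D b _).mp h1 (hpos.2 ▸ ⟨c, rfl⟩), fun c => by
      by_cases hc : c ∈ RedSub.posRoots D.P b
      · rw [← hpos.2] at hc; obtain ⟨k, rfl⟩ := hc; exact ⟨.inr k, rfl⟩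
      · have hc' := (RedRk29.neg_iff_not_pos D b c).mpr hc
        rw [← hneg.2] at hc'; obtain ⟨k, rfl⟩ := hc'; exact ⟨.inl k, rfl⟩⟩
  rw [← Fintype.card_congr e, Fintype.card_sum, Fintype.card_fin, Fintype.card_fin]

end CellChar

end Groth.Agent.RedSub30
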