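import Groth.Agent.RedSub30.QuotDatum
import Groth.Agent.RedRk29.BruhatCover
import Groth.Agent.RedSub30.TorusOverField

/-!
# Geometric points of a split group: the derived group and central torus points
-/

set_option autoImplicit false
set_option maxHeartbeats 800000

universe u

open CategoryTheory CategoryTheory.Limits AlgebraicGeometry MonoidalCategory CartesianMonoidalCategory
open scoped MonObj

noncomputable section

namespace Groth.Agent.RedSub30

theorem baer_units (K : Type u) [Field K] [IsAlgClosed K] : Module.Baer ℤ (Additive Kˣ) := by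
  letI : DivisibleBy (Additive Kˣ) ℕ := divisibleByOfSMulRightSurj _ _ fun {n} hn x => by
    obtain ⟨z, hz⟩ := IsAlgClosed.exists_pow_nat_eq ((Additive.toMul x : Kˣ) : K) (Nat.pos_of_ne_zero hn)
    have hz0 : z ≠ 0 := fun h => (Additive.toMul x).ne_zero (by rw [← hz, h, zero_pow hn])
    exact ⟨Additive.ofMul (Units.mk0 z hz0), Additive.toMul.injective (Units.ext (by simpa using hz))⟩
  letI : DivisibleBy (Additive Kˣ) ℤ := AddGroup.divisibleByIntOfDivisibleByNat _
  exact Module.Baer.of_divisible _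

theorem smooth_torus {K : Type u} [Field K] [IsAlgClosed K] {T : Over (Spec (CommRingCat.of K))} [GrpObj T]
    (hT : Red.IsTorus T) : Smooth T.hom := by
  obtain ⟨n, ⟨e⟩⟩ := exists_splitTorus_iso T hT
  obtain ⟨e₀⟩ := GrpSchLib.AffineHopf.nonempty_DS_iso K (Fin n → ℤ)
  haveI := smooth_DS (Spec (CommRingCat.of K)) (Fin n → ℤ)
  let e' := (Grp.forget _).mapIso (e.symm ≪≫ e₀)
  let q : T ⟶ Red.DS (Spec (CommRingCat.of K)) (Fin n → ℤ) := e'.hom
  haveI : IsIso q := inferInstanceAs (IsIso e'.hom)
  haveI : IsIso q.left := inferInstanceAs (IsIso ((Over.forget _).map q))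
  rw [← Over.w q]
  infer_instance

namespace CellChar

open GrpSchLib Rank2Red38 BigCell29

variable {S : Scheme.{u}} {G : Over S} [GrpObj G] (D : Red.SplitRed G) (N : AddSubgroup D.M)

theorem dsVal_chPt {R : Type u} [CommRing R] {f : Spec (CommRingCat.of R) ⟶ S} {B : Type u} [CommRing B]
    [Algebra R B] {M : Type} [AddCommGroup M] (χ : Multiplicative M →* B) (m : M) :
    dsVal (chPt f χ) m = (tVal f B).symm (χ (Multiplicative.ofAdd m)) := by
  rw [← gmFn_chi]; exact gmFn_chPt_chi f χ m

/-- The torus of the derived group. -/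
def primeTorus : Red.DS S (D.M ⧸ N) ⟶ D.T := Red.DSmap S (QuotientAddGroup.mk' N) ≫ D.split.inv.hom.hom

theorem isMonHom_primeTorus : IsMonHom (primeTorus D N) := by
  haveI := S5427.isMonHom_DSmap S (QuotientAddGroup.mk' N)
  haveI : IsMonHom D.split.inv.hom.hom := D.split.inv.hom.isMonHom_hom
  unfold primeTorus; infer_instance

variable {D N}

/-- A point of the torus killed by the projection comes from the torus of the derived group. -/
theorem exists_primeTorus_pt {φ : G ⟶ Red.DS S ↥N} [IsMonHom φ]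
    (hT : D.i ≫ φ = D.split.hom.hom.hom ≫ Red.DSmap S N.subtype) {X : Over S} (t : X ⟶ D.T)
    (h : t ≫ D.i ≫ φ = 1) : ∃ t' : X ⟶ Red.DS S (D.M ⧸ N), t' ≫ primeTorus D N = t := by
  rw [hT] at h
  obtain ⟨k, hk, -⟩ := HTop83.existsUnique_of_exact N.subtype (QuotientAddGroup.mk' N)
    (QuotientAddGroup.mk'_surjective N) (fun x hx => ⟨⟨x, (QuotientAddGroup.eq_zero_iff x).mp hx⟩, rfl⟩)
    (t ≫ D.split.hom.hom.hom) (by simpa only [Category.assoc] using h)
  have e : D.split.hom.hom.hom ≫ D.split.inv.hom.hom = 𝟙 _ := congrArg (fun k => k.hom.hom) D.split.hom_inv_id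
  exact ⟨k, by rw [primeTorus, ← Category.assoc, hk, Category.assoc, e, Category.comp_id]⟩

variable (D N)

/-- Over an algebraically closed field a point of the torus is a point of the torus of the derived group times
a point killed by all roots. -/
theorem exists_decomp_torus (hN : ∀ m : D.M, m ∈ N ↔ ∀ a : D.idx, D.P.coroot a m = 0) (s : S)
    (t : tObj (Red.geomPt s) (AlgebraicClosure (S.residueField s)) ⟶ D.T) :
    ∃ (t' : tObj (Red.geomPt s) (AlgebraicClosure (S.residueField s)) ⟶ Red.DS S (D.M ⧸ N))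
      (z : tObj (Red.geomPt s) (AlgebraicClosure (S.residueField s)) ⟶ D.T),
      t = (t' ≫ primeTorus D N) * z ∧ ∀ c, rootVal D _ c z = 1 := by
  let K := AlgebraicClosure (S.residueField s)
  let f := Red.geomPt s
  have e : D.split.inv.hom.hom ≫ D.split.hom.hom.hom = 𝟙 _ := congrArg (fun k => k.hom.hom) D.split.inv_hom_id
  obtain ⟨χ, hχ⟩ := (chPt_bijective f).surjective (t ≫ D.split.hom.hom.hom)
  let χu : D.M →+ Additive Kˣ := MonoidHom.toAdditiveRight χ.toHomUnits
  let Q := D.P.rootSpan ℤ
  let j : Q →ₗ[ℤ] D.M ⧸ N := (QuotientAddGroup.mk' N).toIntLinearMap ∘ₗ Q.subtype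
  have hj : Function.Injective j := (injective_iff_map_eq_zero j).mpr fun x hx =>
    Subtype.ext (QuotDatum.eq_zero_of_mem D N hN x.2 ((QuotientAddGroup.eq_zero_iff _).mp hx))
  obtain ⟨ψ, hψ⟩ := (baer_units K).extension_property j hj (χu.toIntLinearMap ∘ₗ Q.subtype)
  let χ' : Multiplicative (D.M ⧸ N) →* K :=
    (Units.coeHom K).comp (AddMonoidHom.toMultiplicativeLeft ψ.toAddMonoidHom)
  have hroot : ∀ c, χ' (Multiplicative.ofAdd (QuotientAddGroup.mk' N (D.P.root c))) =
      χ (Multiplicative.ofAdd (D.P.root c)) := fun c => by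
    have := LinearMap.congr_fun hψ ⟨D.P.root c, Submodule.subset_span ⟨c, rfl⟩⟩
    exact congrArg (fun a => ((Additive.toMul a : Kˣ) : K)) this
  let t' : tObj f K ⟶ Red.DS S (D.M ⧸ N) := chPt f χ'
  refine ⟨t', (t' ≫ primeTorus D N)⁻¹ * t, (mul_inv_cancel_left _ _).symm, fun c => ?_⟩
  rw [map_mul, map_inv, inv_mul_eq_one]
  refine Units.ext ?_
  rw [rootVal_apply, rootVal_apply, ← hχ, primeTorus, Category.assoc, Category.assoc, e, Category.comp_id,
    dsVal_map, dsVal_chPt, dsVal_chPt, hroot]

/-- A torus point killed by all roots is central among the geometric points. -/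
theorem comm_of_rootVal (s : S) {z : tObj (Red.geomPt s) (AlgebraicClosure (S.residueField s)) ⟶ D.T}
    (hz : ∀ c, rootVal D _ c z = 1) (g : tObj (Red.geomPt s) (AlgebraicClosure (S.residueField s)) ⟶ G) :
    I D _ z * g = g * I D _ z := by
  obtain ⟨-, -, hgen⟩ := RedRk29.geom_pts D s
  induction hgen g using Subgroup.closure_induction with
  | mem g hg =>
    rcases hg with ⟨t, rfl⟩ | hg
    · rw [← map_mul, torus_comm, map_mul]
    · obtain ⟨c, hc⟩ := Set.mem_iUnion.mp hg
      obtain ⟨x, rfl⟩ := hc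
      have h := conj_U D c z x
      rw [hz, Units.val_one, one_mul] at h
      exact mul_inv_eq_iff_eq_mul.mp h
  | one => rw [mul_one, one_mul]
  | mul a b _ _ ha hb => rw [← mul_assoc, ha, mul_assoc, hb, mul_assoc]
  | inv a _ ha => exact (Commute.inv_right ha : Commute _ _)

end CellChar

end Groth.Agent.RedSub30
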