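import Groth.Agent.RedSub30.DerKernel
import Groth.Agent.RedSub30.DerPoints
import Groth.Agent.GrpSchLib.ReducedPoints
import Groth.Agent.GrpSchLib.SmoothReduced

/-!
# Geometric fibres of the derived group: reductive, with maximal torus `D(M/N)`
-/

set_option autoImplicit false
set_option maxHeartbeats 1000000

universe u

open CategoryTheory CategoryTheory.Limits AlgebraicGeometry MonoidalCategory CartesianMonoidalCategory
open scoped MonObj

noncomputable section

namespace Groth.Agent.RedSub30.CellChar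

open GrpSchLib Rank2Red38 BigCell29 DSPtsLib

variable {S : Scheme.{u}} {G D' : Over S} [GrpObj G] [GrpObj D']

/-- Inclusion in a closed subscheme may be tested on rational points. -/
theorem exists_fac_of_rat_pts {k : Type u} [Field k] [IsAlgClosed k] {B C X : Over (Spec (CommRingCat.of k))}
    [Smooth B.hom] (iB : B ⟶ X) (iC : C ⟶ X) [IsClosedImmersion iC.left]
    (h : ∀ x : 𝟙_ (Over (Spec (CommRingCat.of k))) ⟶ B, ∃ z : 𝟙_ (Over (Spec (CommRingCat.of k))) ⟶ C,
      z ≫ iC = x ≫ iB) : ∃ f : B ⟶ C, f ≫ iC = iB := by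
  have : IsReduced B.left := GrpSchLib.isReduced_of_smooth_field B.hom
  let e : 𝟙_ (Over (Spec (CommRingCat.of k))) ⟶ Over.mk (Spec.map (CommRingCat.ofHom (algebraMap k k))) :=
    Over.homMk (𝟙 (Spec (CommRingCat.of k))) (by
      show 𝟙 _ ≫ Spec.map (CommRingCat.ofHom (algebraMap k k)) = 𝟙 _
      simp)
  let e' : Over.mk (Spec.map (CommRingCat.ofHom (algebraMap k k))) ⟶ 𝟙_ (Over (Spec (CommRingCat.of k))) := toUnit _
  have hee : e' ≫ e = 𝟙 _ := Over.OverMorphism.ext (by
    show (Spec.map (CommRingCat.ofHom (algebraMap k k))) ≫ 𝟙 _ = 𝟙 _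
    simp)
  refine GrpSchLib.exists_fac_of_points (K := k) iB iC fun s => ?_
  obtain ⟨z, hz⟩ := h (e ≫ s)
  exact ⟨e' ≫ z, by rw [Category.assoc, hz, ← Category.assoc, ← Category.assoc, hee, Category.id_comp]⟩

/-- A geometric point as a point of the base change. -/
def fibPt (s : S) {Y : Over S} (x : 𝟙_ (Over (Spec (CommRingCat.of (AlgebraicClosure (S.residueField s))))) ⟶
    Red.geomFibre s Y) : tObj (Red.geomPt s) (AlgebraicClosure (S.residueField s)) ⟶ Y :=
  theta (Red.geomPt s) (toUnit (GrpSchLib.AffineHopf.sp (AlgebraicClosure (S.residueField s))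
    (AlgebraicClosure (S.residueField s))) ≫ x)

theorem isIso_toUnit_sp (K : Type u) [Field K] :
    IsIso (toUnit (GrpSchLib.AffineHopf.sp K K) : GrpSchLib.AffineHopf.sp K K ⟶ _) := by
  haveI : IsIso ((toUnit (GrpSchLib.AffineHopf.sp K K)).left) := by
    show IsIso (Spec.map (CommRingCat.ofHom (algebraMap K K)))
    rw [Algebra.algebraMap_self]
    exact inferInstanceAs (IsIso (Spec.map (𝟙 (CommRingCat.of K))))
  haveI : IsIso ((Over.forget _).map (toUnit (GrpSchLib.AffineHopf.sp K K))) := ‹_›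
  exact isIso_of_reflects_iso _ (Over.forget _)

theorem fibPt_bijective (s : S) (Y : Over S) : Function.Bijective (fibPt s (Y := Y)) := by
  haveI := isIso_toUnit_sp (AlgebraicClosure (S.residueField s))
  refine (theta_bijective (Red.geomPt s)).comp ⟨fun a b h => ?_, fun y => ⟨inv (toUnit _) ≫ y, by simp⟩⟩
  exact (cancel_epi (toUnit _)).mp h

theorem fibPt_mul (s : S) (Y : Over S) [GrpObj Y]
    (x y : 𝟙_ (Over (Spec (CommRingCat.of (AlgebraicClosure (S.residueField s))))) ⟶ Red.geomFibre s Y) :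
    fibPt s (x * y) = fibPt s x * fibPt s y := by
  rw [fibPt, MonObj.comp_mul]; exact theta_mul _ _ _

theorem fibPt_map (s : S) {Y Z : Over S} (h : Y ⟶ Z)
    (x : 𝟙_ (Over (Spec (CommRingCat.of (AlgebraicClosure (S.residueField s))))) ⟶ Red.geomFibre s Y) :
    fibPt s (x ≫ (Over.pullback (Red.geomPt s)).map h) = fibPt s x ≫ h := by
  rw [fibPt, ← Category.assoc]; exact theta_map _ _ _

theorem fibPt_inv (s : S) (Y : Over S) [GrpObj Y]
    (x : 𝟙_ (Over (Spec (CommRingCat.of (AlgebraicClosure (S.residueField s))))) ⟶ Red.geomFibre s Y) :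
    fibPt s x⁻¹ = (fibPt s x)⁻¹ :=
  (MonoidHom.mk' (fibPt s (Y := Y)) (fibPt_mul s Y)).map_inv x

variable (D : Red.SplitRed G) (N : AddSubgroup D.M)
  (hN : ∀ m : D.M, m ∈ N ↔ ∀ a : D.idx, D.P.coroot a m = 0) {φ : G ⟶ Red.DS S ↥N} [IsMonHom φ]
  (hT : D.i ≫ φ = D.split.hom.hom.hom ≫ Red.DSmap S N.subtype) (hU : ∀ c : D.idx, D.u c ≫ φ = 1)
  (d : D' ⟶ G) [IsMonHom d] (hlift : ∀ {X : Over S} (g : X ⟶ G), g ≫ φ = 1 → ∃ g' : X ⟶ D', g' ≫ d = g)

include hT hU in
theorem primeTorus_comp : (primeTorus D N ≫ D.i) ≫ φ = 1 := by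
  have e : D.split.inv.hom.hom ≫ D.split.hom.hom.hom = 𝟙 _ := congrArg (fun k => k.hom.hom) D.split.inv_hom_id
  simp only [primeTorus, Category.assoc]
  rw [hT, ← Category.assoc D.split.inv.hom.hom, e, Category.id_comp]
  exact HTop83.DSmap_comp_eq_one _ _ fun x => (QuotientAddGroup.eq_zero_iff _).mpr x.2

include hN hT hU hlift in
/-- The derived group is normal on geometric points, compatibly with subgroups normal in it. -/
theorem isNormal_of_normal (s : S) [ConnectedSpace (Red.geomFibre s D').left] [Smooth D'.hom]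
    [IsClosedImmersion d.left]
    {U : Over (Spec (CommRingCat.of (AlgebraicClosure (S.residueField s))))} [GrpObj U] [Smooth U.hom]
    (i : U ⟶ Red.geomFibre s D') [IsMonHom i] [IsClosedImmersion i.left] (hi : AlgGrp.IsNormalHom i) :
    AlgGrp.IsNormalHom (i ≫ (Over.pullback (Red.geomPt s)).map d) := by
  classical
  let K := AlgebraicClosure (S.residueField s)
  let X := tObj (Red.geomPt s) K
  let GK := Red.geomFibre s G
  let j : U ⟶ GK := i ≫ (Over.pullback (Red.geomPt s)).map d
  let R : Subgroup (X ⟶ G) := (MonoidHom.mk' (fun x : 𝟙_ (Over (Spec (CommRingCat.of K))) ⟶ U =>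
    fibPt s (x ≫ i) ≫ d) fun x y => by rw [MonObj.mul_comp, fibPt_mul, MonObj.mul_comp]).range
  have hd : ∀ h : X ⟶ D', ∀ r ∈ R, (h ≫ d) * r * (h ≫ d)⁻¹ ∈ R := fun h r hr => by
    obtain ⟨x, rfl⟩ := hr
    obtain ⟨h', rfl⟩ := (fibPt_bijective s D').surjective h
    obtain ⟨x', hx'⟩ := hi _ h' x
    refine ⟨x', ?_⟩
    show fibPt s (x' ≫ i) ≫ d = (fibPt s h' ≫ d) * (fibPt s (x ≫ i) ≫ d) * (fibPt s h' ≫ d)⁻¹
    rw [← hx', fibPt_mul, fibPt_mul, fibPt_inv, MonObj.mul_comp, MonObj.mul_comp, GrpObj.inv_comp]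
  have hnd : ∀ h : X ⟶ D', h ≫ d ∈ Subgroup.normalizer (R : Set (X ⟶ G)) := fun h =>
    Subgroup.mem_normalizer_iff.mpr fun r => ⟨fun hr => hd h r hr, fun hr => by
      have := hd h⁻¹ _ hr
      rw [GrpObj.inv_comp] at this
      simpa [mul_assoc] using this⟩
  have hall : ∀ g : X ⟶ G, g ∈ Subgroup.normalizer (R : Set (X ⟶ G)) := fun g => by
    obtain ⟨-, -, hgen⟩ := RedRk29.geom_pts D s
    refine (Subgroup.closure_le _).mpr ?_ (hgen g)
    rintro g' (⟨t, rfl⟩ | hg')
    · obtain ⟨t', z, rfl, hz⟩ := exists_decomp_torus D N hN s t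
      rw [map_mul]
      refine mul_mem ?_ ?_
      · obtain ⟨h, hh⟩ := hlift ((t' ≫ primeTorus D N) ≫ D.i) (by
          rw [Category.assoc, Category.assoc, ← Category.assoc (primeTorus D N), primeTorus_comp D N hT hU,
            MonObj.comp_one])
        exact (show I D X (t' ≫ primeTorus D N) = h ≫ d from hh.symm) ▸ hnd h
      · exact Subgroup.mem_normalizer_iff.mpr fun r => by rw [comm_of_rootVal D s hz r, mul_inv_cancel_right]
    · obtain ⟨c, x, rfl⟩ := Set.mem_iUnion.mp hg'
      obtain ⟨h, hh⟩ := hlift (Rank2Red38.U D X c x) (by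
        show (_ ≫ D.u c) ≫ φ = 1
        rw [Category.assoc, hU, MonObj.comp_one])
      exact hh ▸ hnd h
  haveI := D.reductive.2.1
  haveI : Smooth GK.hom := inferInstanceAs (Smooth (pullback.snd _ _))
  haveI := BigCell29.isClosedImmersion_map (Red.geomPt s) d
  haveI : IsClosedImmersion j.left := inferInstanceAs (IsClosedImmersion (i.left ≫ _))
  haveI : Smooth (GK ⊗ U).hom := by rw [Over.tensorObj_hom]; infer_instance
  haveI : IsAffine GK.left := (D.reductive.2.2 s).1
  obtain ⟨c, hc⟩ := exists_fac_of_rat_pts (fst GK U * (snd GK U ≫ j) * (fst GK U)⁻¹) j fun y => by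
    obtain ⟨x', hx'⟩ := (Subgroup.mem_normalizer_iff.mp (hall (fibPt s (y ≫ fst GK U))) (fibPt s (y ≫ snd GK U ≫ i) ≫ d)).mp
      ⟨y ≫ snd GK U, by show fibPt s _ ≫ d = _; rw [Category.assoc]⟩
    refine ⟨x', (fibPt_bijective s G).injective ?_⟩
    simp only [MonObj.comp_mul, GrpObj.comp_inv, j, ← Category.assoc]
    rw [fibPt_mul, fibPt_mul, fibPt_inv, fibPt_map, fibPt_map]
    simpa only [Category.assoc, MonoidHom.mk'_apply] using hx'
  intro T' g n
  refine ⟨lift g n ≫ c, ?_⟩
  rw [Category.assoc, hc]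
  simp only [MonObj.comp_mul, GrpObj.comp_inv]
  rw [show lift g n ≫ fst GK U = g from lift_fst g n, show lift g n ≫ snd GK U ≫ j = n ≫ j from lift_snd_assoc g n j]

theorem mono_primeTorus : Mono (primeTorus D N) := by
  constructor
  intro Z a c h
  have e : D.split.inv.hom.hom ≫ D.split.hom.hom.hom = 𝟙 _ := congrArg (fun k => k.hom.hom) D.split.inv_hom_id
  refine ds_ext fun q => ?_
  obtain ⟨y, rfl⟩ := QuotientAddGroup.mk'_surjective N q
  have h' := congrArg (fun t => dsVal (t ≫ D.split.hom.hom.hom) y) h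
  simp only [primeTorus, Category.assoc] at h'
  rw [e, Category.comp_id, dsVal_map, dsVal_map] at h'
  exact h'

variable {D N}

include hN hT hU hlift in
/-- The derived group is reductive. -/
theorem isReductive_derived [IsClosedImmersion d.left] [Smooth D'.hom] (hconn : RedSub.HasConnectedFibres D')
    [IsAffineHom D'.hom] : Red.IsReductive D' := by
  haveI : GeometricallyConnected D'.hom := SecGerm.geometricallyConnected_group D' fun s => by
    haveI := Subtype.connectedSpace (hconn s)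
    exact (D'.hom.fiberHomeo s).symm.surjective.connectedSpace (D'.hom.fiberHomeo s).symm.continuous
  refine ⟨inferInstance, inferInstance, fun s => ?_⟩
  haveI : Smooth (Red.geomFibre s D').hom := inferInstanceAs (Smooth (pullback.snd _ _))
  haveI hconnK : ConnectedSpace (Red.geomFibre s D').left :=
    inferInstanceAs (ConnectedSpace ↥(pullback D'.hom (Red.geomPt s)))
  haveI hdK := BigCell29.isClosedImmersion_map (Red.geomPt s) d
  refine ⟨?_, inferInstance, hconnK, fun U _ i _ hic hUs hUc hin hsub => ?_⟩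
  · haveI : IsAffineHom (Red.geomFibre s D').hom := inferInstanceAs (IsAffineHom (pullback.snd _ _))
    exact isAffine_of_isAffineHom (Red.geomFibre s D').hom
  have hnorm := isNormal_of_normal D N hN hT hU d hlift s i hin
  haveI : IsClosedImmersion (i ≫ (Over.pullback (Red.geomPt s)).map d).left :=
    inferInstanceAs (IsClosedImmersion (i.left ≫ _))
  haveI : IsMonHom ((Over.pullback (Red.geomPt s)).map d) := inferInstance
  exact (D.reductive.2.2 s).2.2.2 U (i ≫ (Over.pullback (Red.geomPt s)).map d) inferInstance hUs hUc hnorm hsub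

include hN hT in
/-- The torus `D(M/N)` is maximal in the derived group. -/
theorem isMaximalTorus_derived [Mono d] [IsAffineHom D'.hom] [Smooth D'.hom] (hd1 : d ≫ φ = 1) (i' : Red.DS S (D.M ⧸ N) ⟶ D')
    (hi' : i' ≫ d = primeTorus D N ≫ D.i) : Red.IsMaximalTorus i' := by
  haveI : Mono D.i := D.maximalTorus.2.1
  haveI := mono_primeTorus D N
  haveI := isMonHom_primeTorus D N
  haveI : IsMonHom (i' ≫ d) := by rw [hi']; infer_instance
  haveI : IsMonHom i' := RedSub30.isMonHom_of_mono d i'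
  haveI : Mono (i' ≫ d) := by rw [hi']; infer_instance
  haveI : Mono i' := mono_of_mono i' d
  obtain ⟨hfree, hfin⟩ := free_quot D N hN
  obtain ⟨r, ⟨e⟩⟩ := exists_DS_iso S (D.M ⧸ N)
  have hTor : Red.IsTorus (Red.DS S (D.M ⧸ N)) := MaxTorusLib.isTorus_of_iso e (MaxTorusLib.isTorus_DS S r)
  refine ⟨inferInstance, inferInstance, hTor, fun s T'' _ j _ _ f hT'' hf => ?_⟩
  let K := AlgebraicClosure (S.residueField s)
  let X := tObj (Red.geomPt s) K
  let iK := (Over.pullback (Red.geomPt s)).map i'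
  haveI : Smooth T''.hom := smooth_torus hT''
  haveI := hfree
  haveI := hfin
  haveI : IsClosedImmersion i'.left := by
    haveI : IsClosedImmersion (i'.left ≫ d.left) := by
      rw [← Over.comp_left, hi']
      haveI : IsMonHom (primeTorus D N ≫ D.i) := inferInstance
      haveI : Mono (primeTorus D N ≫ D.i) := inferInstance
      haveI := D.reductive.1
      haveI := D.reductive.2.1
      exact MaxTorusLib.isClosedImmersion_of_torus hTor (primeTorus D N ≫ D.i)
    exact IsClosedImmersion.of_comp i'.left d.left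
  haveI := BigCell29.isClosedImmersion_map (Red.geomPt s) i'
  haveI hmonoK : Mono iK := (Over.forget _).mono_of_mono_map (inferInstanceAs (Mono iK.left))
  have hpts : ∀ y : 𝟙_ (Over (Spec (CommRingCat.of K))) ⟶ T'', ∃ z : 𝟙_ (Over (Spec (CommRingCat.of K))) ⟶
      Red.geomFibre s (Red.DS S (D.M ⧸ N)), z ≫ iK = y ≫ j := by
    intro y
    obtain ⟨-, hZ, -⟩ := RedRk29.geom_pts D s
    have hcomm : ∀ t : X ⟶ D.T, (fibPt s (y ≫ j) ≫ d) * I D X t = I D X t * (fibPt s (y ≫ j) ≫ d) := fun t => by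
      obtain ⟨t', z, rfl, hz⟩ := exists_decomp_torus D N hN s t
      obtain ⟨t'', ht''⟩ := (fibPt_bijective s _).surjective t'
      have h1 : Commute (fibPt s (y ≫ j) ≫ d) (I D X (t' ≫ primeTorus D N)) := by
        have hc : y * (t'' ≫ f) = (t'' ≫ f) * y := RankOne.torus_mul_comm hT'' _ y (t'' ≫ f)
        have h := congrArg (fun w => fibPt s (w ≫ j) ≫ d) hc
        simp only [MonObj.mul_comp, fibPt_mul, Category.assoc, hf] at h
        rw [fibPt_map, ht'', Category.assoc, hi'] at h
        show _ * _ = _ * _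
        rw [show I D X (t' ≫ primeTorus D N) = t' ≫ primeTorus D N ≫ D.i from
          (show _ = (t' ≫ primeTorus D N) ≫ D.i from rfl).trans (Category.assoc _ _ _)]
        exact h
      have h2 : Commute (fibPt s (y ≫ j) ≫ d) (I D X z) := (comm_of_rootVal D s hz _).symm
      rw [map_mul]
      exact h1.mul_right h2
    obtain ⟨t, ht⟩ := hZ _ hcomm
    obtain ⟨t', rfl⟩ := exists_primeTorus_pt hT t (by
      rw [← Category.assoc, show t ≫ D.i = fibPt s (y ≫ j) ≫ d from ht.symm, Category.assoc, hd1, MonObj.comp_one])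
    obtain ⟨z, rfl⟩ := (fibPt_bijective s _).surjective t'
    refine ⟨z, (fibPt_bijective s D').injective ?_⟩
    rw [fibPt_map, ← cancel_mono d, Category.assoc, hi', ht]
    exact (Category.assoc _ _ _).symm
  haveI : Smooth (Red.geomFibre s D').hom := inferInstanceAs (Smooth (pullback.snd _ _))
  haveI : IsAffine (Red.geomFibre s D').left := by
    haveI : IsAffineHom (Red.geomFibre s D').hom := inferInstanceAs (IsAffineHom (pullback.snd _ _))
    exact isAffine_of_isAffineHom (Red.geomFibre s D').hom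
  obtain ⟨g, hg⟩ := exists_fac_of_rat_pts j iK hpts
  exact ⟨g, by rw [← cancel_mono iK, Category.assoc, hg, hf, Category.id_comp],
    by rw [← cancel_mono j, Category.assoc, hf, hg, Category.id_comp]⟩

end Groth.Agent.RedSub30.CellChar
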