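import Groth.Agent.RedSub30.CellKernel
import Groth.Agent.GrpSchLib.KernelGrp
import Groth.Agent.SecGerm.Irred

/-!
# The derived group of a split group is the kernel of the map to `D_S(N)`
-/

set_option autoImplicit false

universe u

open CategoryTheory CategoryTheory.Limits AlgebraicGeometry MonoidalCategory CartesianMonoidalCategory
open scoped MonObj

noncomputable section

namespace Groth.Agent.RedSub30.CellChar

open GrpSchLib Rank2Red38

variable {S : Scheme.{u}} {G D' : Over S} [GrpObj G] [GrpObj D']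

theorem mono_of_isKernel {C : Over S} [GrpObj C] {d : D' ⟶ G} {f : G ⟶ C} (h : AlgGrp.IsKernel d f) : Mono d :=
  ⟨fun _ _ e => h.hom_ext e (toUnit_unique _ _)⟩

/-- A kernel of a homomorphism to a commutative group killed by all such is the kernel of the projection to
`D_S(N)`; in particular it is a closed subgroup, smooth with connected fibres. -/
theorem derived_props (D : Red.SplitRed G) (b : D.P.Base) (N : AddSubgroup D.M)
    (hN : ∀ m : D.M, m ∈ N ↔ ∀ a : D.idx, D.P.coroot a m = 0) (φ : G ⟶ Red.DS S ↥N) [IsMonHom φ]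
    (hT : D.i ≫ φ = D.split.hom.hom.hom ≫ Red.DSmap S N.subtype) (hU : ∀ c : D.idx, D.u c ≫ φ = 1)
    (d : D' ⟶ G) [IsMonHom d]
    (hker : ∃ (C : Over S) (_ : GrpObj C) (f₀ : G ⟶ C), IsMonHom f₀ ∧ (∀ (X : Over S) (a b : X ⟶ C), a * b = b * a) ∧
      AlgGrp.IsKernel d f₀)
    (hkill : RedSub.KilledByCommutative d) :
    Mono d ∧ d ≫ φ = 1 ∧ (∀ {X : Over S} (g : X ⟶ G), g ≫ φ = 1 → ∃ g' : X ⟶ D', g' ≫ d = g) ∧
      IsClosedImmersion d.left ∧ Smooth D'.hom ∧ RedSub.HasConnectedFibres D' ∧ IsAffineHom D'.hom := by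
  obtain ⟨C, _, f₀, hf₀, hC, hk₀⟩ := hker
  haveI := mono_of_isKernel hk₀
  have hdφ : d ≫ φ = 1 := hkill (Red.DS S ↥N) φ fun X a b => ds_comm a b
  haveI := BigCell29.isAffineHom_DS (S := S) ↥N
  obtain ⟨K, _, k, hkh, hkc, -, hk⟩ := GrpSchLib.exists_kernel φ
  obtain ⟨-, -, hkk⟩ := kernel_props D b N hN φ hT hU K k hk
  haveI := mono_of_isKernel hk
  have hlift : ∀ {X : Over S} (g : X ⟶ G), g ≫ φ = 1 → ∃ g' : X ⟶ D', g' ≫ d = g := fun {X} g hg => by
    obtain ⟨g₁, hg₁⟩ : ∃ g₁ : X ⟶ K, g₁ ≫ k = g := ⟨hk.lift g (toUnit _) hg, hk.lift_fst _ _ _⟩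
    have hf : g ≫ f₀ = 1 := by rw [← hg₁, Category.assoc, hkk C f₀ hC, MonObj.comp_one]
    exact ⟨hk₀.lift g (toUnit _) hf, hk₀.lift_fst _ _ _⟩
  have hK : AlgGrp.IsKernel d φ := by
    refine IsPullback.of_isLimit (c := PullbackCone.mk d (toUnit D') hdφ) (PullbackCone.IsLimit.mk _
      (fun c => (hlift c.fst (c.condition.trans (by rw [toUnit_unique c.snd (toUnit _)]; rfl))).choose)
      (fun c => (hlift c.fst (c.condition.trans (by rw [toUnit_unique c.snd (toUnit _)]; rfl))).choose_spec)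
      (fun c => toUnit_unique _ _) fun c m h _ => ?_)
    rw [← cancel_mono d, h]
    exact ((hlift c.fst (c.condition.trans (by rw [toUnit_unique c.snd (toUnit _)]; rfl))).choose_spec).symm
  obtain ⟨hs, hc, -⟩ := kernel_props D b N hN φ hT hU D' d hK
  let e : D' ≅ K := hK.isoIsPullback _ _ hk
  have he : e.hom ≫ k = d := hK.isoIsPullback_hom_fst _ _ hk
  haveI : IsIso e.hom.left := inferInstanceAs (IsIso ((Over.forget S).map e.hom))
  haveI hdc : IsClosedImmersion d.left := by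
    rw [← he]; exact inferInstanceAs (IsClosedImmersion (e.hom.left ≫ k.left))
  haveI := D.reductive.1
  refine ⟨inferInstance, hdφ, hlift, hdc, hs, hc, ?_⟩
  rw [← Over.w d]
  exact inferInstanceAs (IsAffineHom (d.left ≫ G.hom))

end Groth.Agent.RedSub30.CellChar
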