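import Groth.Agent.RedSub30.DerDim
import Groth.Agent.RedRk29.DualPinning
import Groth.Agent.RedRk29.BruhatPts
import Groth.Agent.RedRk29.NormWeyl
import Groth.Agent.SgaFix20.DSMap

/-!
# The splitting of the derived group of a split group
-/

set_option autoImplicit false
set_option maxHeartbeats 800000

universe u

open CategoryTheory CategoryTheory.Limits AlgebraicGeometry MonoidalCategory CartesianMonoidalCategory
open scoped MonObj

noncomputable section

namespace Groth.Agent.RedSub30.CellChar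

open GrpSchLib Rank2Red38

variable {S : Scheme.{u}} {G D' : Over S} [GrpObj G] [GrpObj D']

/-- A reflection point killed by every homomorphism killing the root groups. -/
theorem exists_weyl (D : Red.SplitRed G) (b : D.P.Base) (a : D.idx) {H : Over S} [GrpObj H] (φ : G ⟶ H) [IsMonHom φ]
    (hU : ∀ c : D.idx, D.u c ≫ φ = 1) :
    ∃ w : 𝟙_ (Over S) ⟶ G, w ≫ φ = 1 ∧ ∀ (X : Over S) (t : X ⟶ D.T),
      (toUnit X ≫ w) * (t ≫ D.i) * (toUnit X ≫ w)⁻¹ =
        t ≫ D.split.hom.hom.hom ≫ Red.DSmap S (D.P.reflection a).toLinearMap.toAddMonoidHom ≫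
          D.split.inv.hom.hom ≫ D.i := by
  classical
  obtain ⟨c, hc⟩ := RedRk29.exists_isDualPair D a
  let P : Red.Pinning G := { D with base := b }
  let k : D.idx → Γ(S, ⊤)ˣ := fun x => if x = D.P.reflectionPerm a a then c⁻¹ else 1
  let E := (RedRk29.rescale P k).toSplitRed
  have hne : a ≠ D.P.reflectionPerm a a := fun h => by
    have h2 := congrArg D.P.root h
    rw [RootPairing.root_reflectionPerm, RootPairing.reflection_apply_self, ← add_eq_zero_iff_eq_neg,
      ← two_smul ℤ] at h2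
    exact D.P.ne_zero a (smul_eq_zero_iff_right (two_ne_zero' ℤ) |>.mp h2)
  have hka : k a = 1 := if_neg hne
  have hkn : k (D.P.reflectionPerm a a) = c⁻¹ := if_pos rfl
  have hdual : IsDual E a := by
    intro X x y hxy
    let e : Γ(X.left, ⊤) := glob X ((c : Γ(S, ⊤)))
    let e' : Γ(X.left, ⊤) := glob X (c⁻¹ : Γ(S, ⊤)ˣ)
    have hd : e * e' = 1 := by rw [← map_mul, Units.mul_inv, map_one]
    have hxy' : IsUnit (1 + X.hom.appTop.hom (c : Γ(S, ⊤)) * Red.gaFn x * Red.gaFn (GaPts.ptOfFn (e' * Red.gaFn y))) := by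
      rw [GaPts.gaFn_ptOfFn]
      convert hxy using 2
      show e * Red.gaFn x * (e' * Red.gaFn y) = Red.gaFn x * Red.gaFn y
      linear_combination (Red.gaFn x * Red.gaFn y) * hd
    obtain ⟨x', y', z, hz, hx', hy', h⟩ := hc X x (GaPts.ptOfFn (e' * Red.gaFn y)) hxy'
    rw [GaPts.gaFn_ptOfFn] at hz hy'
    change Red.gmFn z = 1 + e * Red.gaFn x * (e' * Red.gaFn y) at hz
    refine ⟨x', GaPts.ptOfFn (e * Red.gaFn y'), z, hz.trans ?_, hx', ?_, ?_⟩
    · linear_combination (Red.gaFn x * Red.gaFn y) * hd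
    · rw [GaPts.gaFn_ptOfFn]
      linear_combination e * hy' + Red.gaFn y * hd
    · have ex : ∀ w : X ⟶ Red.Ga S, w ≫ scaleHom (((1 : Γ(S, ⊤)ˣ)) : Γ(S, ⊤)) = w := fun w => by
        rw [Units.val_one, scaleHom_one, Category.comp_id]
      have ey : ∀ w : X ⟶ Red.Ga S, w ≫ scaleHom ((c⁻¹ : Γ(S, ⊤)ˣ) : Γ(S, ⊤)) = GaPts.ptOfFn (e' * Red.gaFn w) :=
        fun w => GaPts.gaFn_injective (by simp only [gaFn_scaleHom, GaPts.gaFn_ptOfFn]; rfl)
      have ey' : GaPts.ptOfFn (e * Red.gaFn y') ≫ scaleHom ((c⁻¹ : Γ(S, ⊤)ˣ) : Γ(S, ⊤)) = y' := by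
        rw [ey, GaPts.gaFn_ptOfFn]
        exact GaPts.gaFn_injective (by simp only [GaPts.gaFn_ptOfFn]; linear_combination Red.gaFn y' * hd)
      change (x ≫ scaleHom (k a : Γ(S, ⊤)) ≫ D.u a) *
          (y ≫ scaleHom (k (D.P.reflectionPerm a a) : Γ(S, ⊤)) ≫ D.u (D.P.reflectionPerm a a)) =
        (GaPts.ptOfFn (e * Red.gaFn y') ≫ scaleHom (k (D.P.reflectionPerm a a) : Γ(S, ⊤)) ≫ D.u (D.P.reflectionPerm a a)) *
          (z ≫ corootHom D a ≫ D.i) * (x' ≫ scaleHom (k a : Γ(S, ⊤)) ≫ D.u a)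
      rw [hka, hkn]
      simp only [← Category.assoc, ex, ey', ey y]
      simpa only [Category.assoc, corootHom, RedRk29.negIdx] using h
  refine ⟨W E (𝟙_ (Over S)) a, ?_, fun X t => ?_⟩
  · have h : ∀ (q : D.idx) (x : Γ((𝟙_ (Over S)).left, ⊤)), Rank2Red38.U E (𝟙_ (Over S)) q x ≫ φ = 1 := fun q x => by
      show (_ ≫ scaleHom _ ≫ D.u q) ≫ φ = 1
      rw [Category.assoc, Category.assoc, hU, MonObj.comp_one, MonObj.comp_one]
    simp only [W, weylElt, MonObj.mul_comp, GrpObj.inv_comp, h, inv_one, one_mul]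
  · rw [comp_W (D := E) (toUnit X) a]
    exact (W_conj_torus E hdual t).trans (RedRk29.refl_torus E X a t).symm

/-- The derived group of a split group is split with root datum `(M/N, R)`. -/
theorem exists_split_derived (D : Red.SplitRed G) (N : AddSubgroup D.M)
    (hN : ∀ m : D.M, m ∈ N ↔ ∀ a : D.idx, D.P.coroot a m = 0) (d : D' ⟶ G) [IsMonHom d]
    (hker : ∃ (C : Over S) (_ : GrpObj C) (f₀ : G ⟶ C), IsMonHom f₀ ∧ (∀ (X : Over S) (a b : X ⟶ C), a * b = b * a) ∧
      AlgGrp.IsKernel d f₀)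
    (hkill : RedSub.KilledByCommutative d) :
    ∃ (Dd : Red.SplitRed D') (τ : Dd.T ⟶ D.T) (eidx : Dd.idx ≃ D.idx) (em : Dd.M ≃+ D.M ⧸ N),
      τ ≫ D.i = Dd.i ≫ d ∧
      τ ≫ D.split.hom.hom.hom =
        Dd.split.hom.hom.hom ≫ Red.DSmap S (em.symm.toAddMonoidHom.comp (QuotientAddGroup.mk' N)) ∧
      (∀ a' : Dd.idx, em (Dd.P.root a') = QuotientAddGroup.mk' N (D.P.root (eidx a'))) ∧
      (∀ a' : Dd.idx, Dd.u a' ≫ d = D.u (eidx a')) := by
  classical
  obtain ⟨hfree, hfin⟩ := free_quot D N hN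
  obtain ⟨C, _, f₀, hf₀, hC, hk₀⟩ := hker
  haveI := mono_of_isKernel hk₀
  haveI := D.reductive.1
  obtain ⟨hcl, hsm, haff, hlift, φ, hφ, hT, hU, hd1, hbase⟩ :
      IsClosedImmersion d.left ∧ Smooth D'.hom ∧ IsAffineHom D'.hom ∧
      ∃ (_ : True) (φ : G ⟶ Red.DS S ↥N) (_ : IsMonHom φ),
        D.i ≫ φ = D.split.hom.hom.hom ≫ Red.DSmap S N.subtype ∧ (∀ c : D.idx, D.u c ≫ φ = 1) ∧ d ≫ φ = 1 ∧
        ((∀ {X : Over S} (g : X ⟶ G), g ≫ φ = 1 → ∃ g' : X ⟶ D', g' ≫ d = g) ∧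
          (IsEmpty S ∨ (Nonempty D.P.Base ∧ RedSub.HasConnectedFibres D'))) := by
    rcases isEmpty_or_nonempty S with hS | hS
    · haveI : IsEmpty G.left := Function.isEmpty G.hom.base
      haveI : IsEmpty D'.left := Function.isEmpty D'.hom.base
      refine ⟨inferInstance, inferInstance, inferInstance, trivial, 1,
        { one_hom := hom_eq_of_isEmpty _ _, mul_hom := hom_eq_of_isEmpty _ _ },
        hom_eq_of_isEmpty _ _, fun c => hom_eq_of_isEmpty _ _, hom_eq_of_isEmpty _ _, fun {X} g _ => ?_, Or.inl hS⟩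
      haveI : IsEmpty X.left := Function.isEmpty X.hom.base
      exact ⟨Over.homMk (isInitialOfIsEmpty.to _) (isInitialOfIsEmpty.hom_ext _ _), hom_eq_of_isEmpty _ _⟩
    · obtain ⟨b⟩ := RedRk29.exists_base' D
      obtain ⟨φ, hφ, hT, hU⟩ := exists_hom_toQuot D b N fun x hx => (hN x).mp hx
      obtain ⟨-, h1, h2, h3, h4, h5, h6⟩ :=
        derived_props D b N hN φ hT hU d ⟨C, inferInstance, f₀, hf₀, hC, hk₀⟩ hkill
      exact ⟨h3, h4, h6, trivial, φ, hφ, hT, hU, h1, h2, Or.inr ⟨⟨b⟩, h5⟩⟩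
  obtain ⟨hlift', hS⟩ := hbase
  have hred : Red.IsReductive D' := by
    rcases hS with hS | ⟨-, hconn⟩
    · exact ⟨inferInstance, inferInstance, fun s => (hS.false s).elim⟩
    · exact isReductive_derived hN hT hU d hlift' hconn
  obtain ⟨i', hi'⟩ := hlift' (primeTorus D N ≫ D.i) (primeTorus_comp D N hT hU)
  have hmax : Red.IsMaximalTorus i' := isMaximalTorus_derived hN hT d hd1 i' hi'
  choose u' hu' using fun a => hlift' (D.u a) (hU a)
  have e : D.split.inv.hom.hom ≫ D.split.hom.hom.hom = 𝟙 _ := congrArg (fun k => k.hom.hom) D.split.inv_hom_id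
  have hroot : ∀ a, Red.IsRootHom i' (𝟙 _ ≫ Red.chi S (QuotientAddGroup.mk' N (D.P.root a))) (u' a) := by
    intro a
    obtain ⟨h1, h2, h3⟩ := D.rootHom a
    refine ⟨?_, ?_, fun X t x => ?_⟩
    · haveI : IsMonHom (u' a ≫ d) := (hu' a).symm ▸ h1
      exact RedSub30.isMonHom_of_mono d (u' a)
    · haveI : IsClosedImmersion ((u' a).left ≫ d.left) := by rw [← Over.comp_left, hu' a]; exact h2
      exact IsClosedImmersion.of_comp (u' a).left d.left
    · obtain ⟨y, hy, hfn⟩ := h3 X (t ≫ primeTorus D N) x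
      refine ⟨y, ?_, hfn.trans ?_⟩
      · rw [← cancel_mono d, MonObj.mul_comp, MonObj.mul_comp, GrpObj.inv_comp]
        simp only [Category.assoc, hu', hi']
        simpa only [Category.assoc] using hy
      · congr 1
        rw [← Category.assoc (t ≫ primeTorus D N), gmFn_chi, Category.id_comp, gmFn_chi, primeTorus,
          Category.assoc, Category.assoc, e, Category.comp_id, dsVal_map]
  have hrefl : ∀ a, ∃ n : 𝟙_ (Over S) ⟶ D', ∀ (X : Over S) (t : X ⟶ Red.DS S (D.M ⧸ N)),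
      (toUnit X ≫ n) * (t ≫ i') * (toUnit X ≫ n)⁻¹ =
        t ≫ 𝟙 _ ≫ Red.DSmap S ((QuotDatum.datum D N hN).reflection a).toLinearMap.toAddMonoidHom ≫ 𝟙 _ ≫ i' := by
    intro a
    rcases hS with hS | ⟨⟨b⟩, -⟩
    · exact ⟨1, fun X t => hom_eq_of_isEmpty _ _⟩
    obtain ⟨w, hw, hwt⟩ := exists_weyl D b a φ hU
    obtain ⟨n, hn⟩ := hlift' w hw
    refine ⟨n, fun X t => ?_⟩
    rw [← cancel_mono d, MonObj.mul_comp, MonObj.mul_comp, GrpObj.inv_comp]
    simp only [Category.assoc, Category.id_comp, hn, hi']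
    rw [← Category.assoc t (primeTorus D N), hwt]
    simp only [primeTorus, Category.assoc]
    rw [← Category.assoc D.split.inv.hom.hom D.split.hom.hom.hom, e, Category.id_comp,
      ← Category.assoc (Red.DSmap S (QuotientAddGroup.mk' N)), SgaFix20.DSmap_comp,
      ← QuotDatum.reflection_comp D N hN a, ← SgaFix20.DSmap_comp, Category.assoc]
  have hdim : ∀ s : S, topologicalKrullDim ↥(Red.geomFibre s D').left =
      ((Module.finrank ℤ (D.M ⧸ N) + Fintype.card D.idx : ℕ) : WithBot ℕ∞) := by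
    intro s
    rcases hS with hS | ⟨⟨b⟩, -⟩
    · exact (hS.false s).elim
    · exact dim_fibre_derived D N hT hU d hd1 hlift' hN b hred s
  let Dd : Red.SplitRed D' :=
    { T := Red.DS S (D.M ⧸ N)
      i := i'
      M := D.M ⧸ N
      idx := D.idx
      P := QuotDatum.datum D N hN
      pairing_eq := QuotDatum.pairing_eq D N hN
      u := u'
      reductive := hred
      maximalTorus := hmax
      split := Iso.refl _
      rootHom := hroot
      refl := hrefl
      dim_fibre := hdim }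
  refine ⟨Dd, primeTorus D N, Equiv.refl _, AddEquiv.refl _, hi'.symm, ?_, fun a => rfl, hu'⟩
  show primeTorus D N ≫ D.split.hom.hom.hom = 𝟙 _ ≫ Red.DSmap S _
  rw [Category.id_comp, primeTorus, Category.assoc, e, Category.comp_id]
  rfl

end Groth.Agent.RedSub30.CellChar
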