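import Groth.Agent.RedSub30.OrderedRoots

/-!
# The polynomial group law in increasing root coordinates
-/

set_option autoImplicit false
set_option synthInstance.maxHeartbeats 100000

universe u

open CategoryTheory CategoryTheory.Limits AlgebraicGeometry MonoidalCategory CartesianMonoidalCategory
open scoped MonObj

noncomputable section

namespace Groth.Agent.RedSub30.RootPoly

open GrpSchLib Rank2Red38 BigCell29

variable {S : Scheme.{u}}

/-- Polynomials over the functions of the base are determined by their values on all points. -/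
theorem poly_ext {J : Type} {p q : MvPolynomial J Γ(S, ⊤)}
    (h : ∀ (X : Over S) (x : J → Γ(X.left, ⊤)),
      MvPolynomial.eval₂ (glob X) x p = MvPolynomial.eval₂ (glob X) x q) : p = q := by
  refine MvPolynomial.ext _ _ fun a => ?_
  have e : (GaPts.ptOfFn (glob (𝟙_ (Over S)) (p.coeff a)) : 𝟙_ (Over S) ⟶ Red.Ga S) =
      GaPts.ptOfFn (glob (𝟙_ (Over S)) (q.coeff a)) := ext_tObj fun R _ g _ B _ _ j => by
    rw [RankOne.map_gaFn_ptOfFn, RankOne.map_gaFn_ptOfFn, map_glob, map_glob]
    congr 1
    let x : J → Γ((tObj g (MvPolynomial J B)).left, ⊤) := fun k => (tVal g _).symm (MvPolynomial.X k)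
    have key : ∀ r : MvPolynomial J Γ(S, ⊤), (tVal g (MvPolynomial J B))
        (MvPolynomial.eval₂ (glob (tObj g (MvPolynomial J B))) x r) =
          MvPolynomial.map ((algebraMap R B).comp ((Scheme.ΓSpecIso (CommRingCat.of R)).hom.hom.comp g.appTop.hom)) r :=
      fun r => by
      rw [show tVal g (MvPolynomial J B) (MvPolynomial.eval₂ (glob (tObj g (MvPolynomial J B))) x r) =
        (tVal g (MvPolynomial J B)).toRingHom (MvPolynomial.eval₂ (glob (tObj g (MvPolynomial J B))) x r) from rfl,
        MvPolynomial.hom_eval₂]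
      have hx : (fun k => (tVal g (MvPolynomial J B)).toRingHom (x k)) = MvPolynomial.X :=
        funext fun k => (tVal g (MvPolynomial J B)).apply_symm_apply _
      have hc : (tVal g (MvPolynomial J B)).toRingHom.comp (glob (tObj g (MvPolynomial J B))) =
          MvPolynomial.C.comp ((algebraMap R B).comp ((Scheme.ΓSpecIso (CommRingCat.of R)).hom.hom.comp g.appTop.hom)) :=
        RingHom.ext fun c => (tVal_glob g c).trans (IsScalarTower.algebraMap_apply R B (MvPolynomial J B) _)
      exact (congrArg₂ (fun c y => MvPolynomial.eval₂ c y r) hc hx).trans (by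
        induction r using MvPolynomial.induction_on with
        | C c => simp
        | add u v hu hv => rw [MvPolynomial.eval₂_add, map_add, hu, hv]
        | mul_X u i hu => rw [MvPolynomial.eval₂_mul, MvPolynomial.eval₂_X, map_mul, MvPolynomial.map_X, hu])
    have h1 := congrArg (MvPolynomial.coeff a) ((key p).symm.trans
      ((congrArg (tVal g _) (h _ x)).trans (key q)))
    rw [MvPolynomial.coeff_map, MvPolynomial.coeff_map] at h1
    apply (tVal g B).injective
    rw [tVal_glob, tVal_glob]
    exact h1
  have e' := congrArg Red.gaFn e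
  rw [GaPts.gaFn_ptOfFn, GaPts.gaFn_ptOfFn] at e'
  exact (glob_self _).symm.trans (e'.trans (glob_self _))

variable {G : Over S} [GrpObj G] {D : Red.SplitRed G}
variable [LinearOrder D.M] [IsOrderedAddMonoid D.M] {N : ℕ} {e : Fin N → D.idx} (he : Function.Injective e)
  (hrange : ∀ a : D.idx, a ∈ Set.range e ↔ 0 < D.P.root a) (hmono : StrictMono (fun k => D.P.root (e k)))

include he hrange in
theorem wordPt_injective (X : Over S) : Function.Injective (wordPt D X e) := fun a b hab => by
  obtain ⟨lam, hlam⟩ := exists_form hrange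
  haveI := (isPosClosed_all he hrange hlam).mono_prodMap
  rw [← coord_ofCoord a, ← coord_ofCoord b, ← comp_prodMap, ← comp_prodMap] at hab
  rw [← coord_ofCoord a, ← coord_ofCoord b, (cancel_mono _).mp hab]

include he hrange hmono in
/-- The group law in increasing coordinates. -/
theorem exists_groupLaw : ∃ Q : Fin N → MvPolynomial (Fin N ⊕ Fin N) Γ(S, ⊤),
    (∀ (X : Over S) (x y : Fin N → Γ(X.left, ⊤)),
      wordPt D X e x * wordPt D X e y =
        wordPt D X e fun k => MvPolynomial.eval₂ (glob X) (Sum.elim x y) (Q k)) ∧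
    ∀ k : Fin N, ∀ v ∈ (Q k - MvPolynomial.X (Sum.inl k) - MvPolynomial.X (Sum.inr k)).vars,
      Sum.elim (fun j : Fin N => j < k) (fun j : Fin N => j < k) v := by
  classical
  obtain ⟨lam, hlam⟩ := exists_form hrange
  have hl := isPosClosed_all he hrange hlam
  set w := Fin.append e e with hw_def
  have hw : ∀ k, w k ∈ List.ofFn e :=
    Fin.addCases (fun j => List.mem_ofFn.mpr ⟨j, (Fin.append_left e e j).symm⟩)
      (fun j => List.mem_ofFn.mpr ⟨j, (Fin.append_right e e j).symm⟩)
  obtain ⟨P, hP1, hP2⟩ := exists_poly D lam w (fun X => wordPt D X w) (fun k => hl.pos _ (hw k))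
    (isWeighted_wordPt D w) (List.ofFn e) hl.nodup hl.pos (hl.mem_of_wt hw)
  let σ : Fin (N + N) → Fin N ⊕ Fin N := finSumFinEquiv.symm
  have hσ : ∀ (X : Over S) (x y : Fin N → Γ(X.left, ⊤)), Sum.elim x y ∘ σ = Fin.append x y := fun X x y =>
    funext (Fin.addCases (fun j => by simp [σ]) (fun j => by
      simp only [Function.comp_apply, σ, finSumFinEquiv_symm_apply_natAdd, Sum.elim_inr, Fin.append_right]))
  have hlaw : ∀ (X : Over S) (x y : Fin N → Γ(X.left, ⊤)), wordPt D X e x * wordPt D X e y =
      wordPt D X e fun k => MvPolynomial.eval₂ (glob X) (Fin.append x y) (P (e k)) := fun X x y => by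
    rw [← wordPt_append, hP2, rootProd_ofFn]
  refine ⟨fun k => MvPolynomial.rename σ (P (e k)), fun X x y => ?_, fun k v hv => ?_⟩
  · simp only [MvPolynomial.eval₂_rename, hσ]
    exact hlaw X x y
  have hpos : ∀ j, 0 < D.P.root (e j) := fun j => (hrange _).mp (Set.mem_range_self j)
  have hwo : ∀ l, 0 < D.P.root (w l) := fun l => by
    obtain ⟨j, hj⟩ := List.mem_ofFn.mp (hw l)
    exact hj ▸ hpos j
  -- the linear coefficients
  have hone : ∀ l : Fin (N + N), w l = e k → (P (e k)).coeff (Finsupp.single l 1) = 1 := by
    intro l hl0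
    let T := 𝟙_ (Over S)
    have h1 : wordPt D T w (Pi.single l 1 : Fin (N + N) → Γ(T.left, ⊤)) = wordPt D T e (Pi.single k 1) := by
      rw [← Fin.append_castAdd_natAdd (f := (Pi.single l 1 : Fin (N + N) → Γ(T.left, ⊤))), wordPt_append]
      revert hl0
      refine Fin.addCases (fun j hl0 => ?_) (fun j hl0 => ?_) l
      · obtain rfl : j = k := he ((Fin.append_left e e j).symm.trans hl0)
        have e1 : (fun i => (Pi.single (Fin.castAdd N j) 1 : Fin (N + N) → Γ(T.left, ⊤)) (Fin.castAdd N i)) = Pi.single j 1 :=
          funext fun i => by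
            by_cases hij : i = j
            · rw [hij, Pi.single_eq_same, Pi.single_eq_same]
            · rw [Pi.single_eq_of_ne hij, Pi.single_eq_of_ne (fun h => hij (Fin.castAdd_injective _ _ h))]
        have e2 : (fun i => (Pi.single (Fin.castAdd N j) 1 : Fin (N + N) → Γ(T.left, ⊤)) (Fin.natAdd N i)) = 0 := funext fun i => by
          refine Pi.single_eq_of_ne ?_ _
          intro h; have := congrArg Fin.val h; simp at this; omega
        rw [e1, e2, (isWeighted_wordPt D e).zero, _root_.mul_one]
      · obtain rfl : j = k := he ((Fin.append_right e e j).symm.trans hl0)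
        have e1 : (fun i => (Pi.single (Fin.natAdd N j) 1 : Fin (N + N) → Γ(T.left, ⊤)) (Fin.natAdd N i)) = Pi.single j 1 :=
          funext fun i => by
            by_cases hij : i = j
            · rw [hij, Pi.single_eq_same, Pi.single_eq_same]
            · rw [Pi.single_eq_of_ne hij, Pi.single_eq_of_ne (fun h => hij (Fin.natAdd_injective _ _ h))]
        have e2 : (fun i => (Pi.single (Fin.natAdd N j) 1 : Fin (N + N) → Γ(T.left, ⊤)) (Fin.castAdd N i)) = 0 := funext fun i => by
          refine Pi.single_eq_of_ne ?_ _
          intro h; have := congrArg Fin.val h; simp at this; omega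
        rw [e1, e2, (isWeighted_wordPt D e).zero, _root_.one_mul]
    rw [hP2, rootProd_ofFn] at h1
    have h2 := congrFun (wordPt_injective he hrange T h1) k
    rw [Pi.single_eq_same, MvPolynomial.eval₂_eq', Finset.sum_eq_single (Finsupp.single l 1)] at h2
    · rw [Finset.prod_eq_single l (fun j _ hj => by rw [Finsupp.single_eq_of_ne hj, pow_zero])
        (fun h => absurd (Finset.mem_univ l) h), Finsupp.single_eq_same, pow_one, Pi.single_eq_same,
        _root_.mul_one] at h2
      exact (glob_self _).symm.trans h2
    · intro q hq hne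
      obtain ⟨l', hl'⟩ : ∃ l', q l' ≠ 0 := by
        by_contra! hz
        have h3 := hP1 _ q hq
        rw [wt, Finset.sum_eq_zero fun i _ => by rw [hz i, zero_smul]] at h3
        exact (hpos k).ne h3
      by_cases hll : l' = l
      · subst hll
        exact absurd (single_of_wt_le hwo q hl' (by rw [hP1 _ q hq, hl0])) hne
      · rw [Finset.prod_eq_zero (Finset.mem_univ l') (by rw [Pi.single_eq_of_ne hll, zero_pow hl']),
          MulZeroClass.mul_zero]
    · intro h
      rw [MvPolynomial.notMem_support_iff.mp h, map_zero, MulZeroClass.zero_mul]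
  -- the remaining variables are smaller
  let R' := P (e k) - MvPolynomial.X (Fin.castAdd N k) - MvPolynomial.X (Fin.natAdd N k)
  have hR : MvPolynomial.rename σ R' =
      MvPolynomial.rename σ (P (e k)) - MvPolynomial.X (Sum.inl k) - MvPolynomial.X (Sum.inr k) := by
    simp only [R', σ, map_sub, MvPolynomial.rename_X, finSumFinEquiv_symm_apply_castAdd,
      finSumFinEquiv_symm_apply_natAdd]
  rw [← hR] at hv
  obtain ⟨l, hl', rfl⟩ := Finset.mem_image.mp (MvPolynomial.vars_rename _ _ hv)
  obtain ⟨q, hq, hlq⟩ := MvPolynomial.mem_vars l |>.mp hl'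
  rw [Finsupp.mem_support_iff] at hlq
  rw [MvPolynomial.mem_support_iff] at hq
  have hsl : q ≠ Finsupp.single (Fin.castAdd N k) 1 ∧ q ≠ Finsupp.single (Fin.natAdd N k) 1 := by
    have hne : Finsupp.single (Fin.castAdd N k) 1 ≠ Finsupp.single (Fin.natAdd N k) (1 : ℕ) := fun h => by
      have := congrArg Fin.val (Finsupp.single_left_injective one_ne_zero h)
      simp at this
      have := k.isLt
      omega
    constructor <;> rintro rfl <;> apply hq
    · rw [MvPolynomial.coeff_sub, MvPolynomial.coeff_sub, hone _ (Fin.append_left e e k), MvPolynomial.coeff_X',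
        MvPolynomial.coeff_X', if_pos rfl, if_neg hne.symm]
      ring
    · rw [MvPolynomial.coeff_sub, MvPolynomial.coeff_sub, hone _ (Fin.append_right e e k), MvPolynomial.coeff_X',
        MvPolynomial.coeff_X', if_neg hne, if_pos rfl]
      ring
  have hqP : q ∈ (P (e k)).support := MvPolynomial.mem_support_iff.mpr (by
    simp only [R', MvPolynomial.coeff_sub, MvPolynomial.coeff_X', if_neg hsl.1.symm, if_neg hsl.2.symm, sub_zero] at hq
    exact hq)
  have hlt : D.P.root (w l) < D.P.root (e k) := by
    by_contra! hge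
    have hqs := single_of_wt_le hwo q hlq ((hP1 _ q hqP).le.trans hge)
    have hwt : D.P.root (w l) = D.P.root (e k) := by
      rw [← hP1 _ q hqP, hqs, wt, Finset.sum_eq_single l (fun i _ hi => by rw [Finsupp.single_eq_of_ne hi, zero_smul])
        (fun h => absurd (Finset.mem_univ l) h), Finsupp.single_eq_same, one_smul]
    revert hqs hwt
    refine Fin.addCases (fun j => ?_) (fun j => ?_) l <;> intro hqs hwt
    · rw [show w (Fin.castAdd N j) = e j from Fin.append_left e e j] at hwt
      exact hsl.1 (by rw [hqs, he (D.P.root.injective hwt)])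
    · rw [show w (Fin.natAdd N j) = e j from Fin.append_right e e j] at hwt
      exact hsl.2 (by rw [hqs, he (D.P.root.injective hwt)])
  revert hlt
  refine Fin.addCases (fun j => ?_) (fun j => ?_) l <;> intro hlt
  · rw [show w (Fin.castAdd N j) = e j from Fin.append_left e e j] at hlt
    simpa only [σ, finSumFinEquiv_symm_apply_castAdd, finSumFinEquiv_symm_apply_natAdd, Sum.elim_inl, Sum.elim_inr] using
      hmono.lt_iff_lt.mp hlt
  · rw [show w (Fin.natAdd N j) = e j from Fin.append_right e e j] at hlt
    simpa only [σ, finSumFinEquiv_symm_apply_castAdd, finSumFinEquiv_symm_apply_natAdd, Sum.elim_inl, Sum.elim_inr] using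
      hmono.lt_iff_lt.mp hlt

end Groth.Agent.RedSub30.RootPoly
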