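import Groth.Agent.RedSub30.TypeRNormalises

/-!
# Torus points killed by the roots of a subgroup of type (R) centralise it
-/

set_option autoImplicit false
set_option synthInstance.maxHeartbeats 100000

universe u

open CategoryTheory CategoryTheory.Limits MonoidalCategory CartesianMonoidalCategory AlgebraicGeometry WithConv
open scoped MonObj AddMonoidAlgebra

namespace Groth.Agent.RedSub30

open BigCell29 RootPoly

variable {S : Scheme.{u}} {G H : Over S} [GrpObj G] [GrpObj H] (D : Red.SplitRed G) (h : H ⟶ G)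
  [IsMonHom h] [IsImmersion h.left] [QuasiCompact h.left] [Smooth H.hom] (t : D.T ⟶ H) (ht : t ≫ h = D.i)
  {R' : Set D.idx} (hR' : ∀ a : D.idx, (∃ v : Red.Ga S ⟶ H, v ≫ h = D.u a) ↔ a ∈ R')

include t ht hR' in
/-- A torus point killed by the roots of the subgroup commutes with its points. -/
theorem torus_comm_of_rootVal [ConnectedSpace S] (hconn : RedSub.HasConnectedFibres H)
    {X : Over S} (τ : X ⟶ D.T) (hτ : ∀ a ∈ R', Rank2Red38.rootVal D X a τ = 1) (y : X ⟶ H) :
    Commute (Rank2Red38.I D X τ) (y ≫ h) := by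
  classical
  haveI := Fintype.ofFinite D.idx
  obtain ⟨lam, hreg, -⟩ := exists_regular_pos D (Ψ := (∅ : Set D.idx)) 0 (fun a ha => absurd ha (Set.notMem_empty a))
  have henum : ∀ Ψ : Set D.idx, ∃ (k : ℕ) (c : Fin k → D.idx), RedSub.Enumerates Ψ c := fun Ψ => by
    let c : Fin (Fintype.card Ψ) → D.idx := fun k => ((Fintype.equivFin Ψ).symm k).1
    refine ⟨_, c, fun p q hpq => (Fintype.equivFin Ψ).symm.injective (Subtype.ext hpq),
      Set.ext fun a => ⟨?_, fun ha => ⟨Fintype.equivFin Ψ ⟨a, ha⟩, by simp [c]⟩⟩⟩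
    rintro ⟨k, rfl⟩
    exact ((Fintype.equivFin Ψ).symm k).2
  obtain ⟨p, eneg, hneg⟩ := henum (R' ∩ {i | 0 < (-lam) (D.P.root i)})
  obtain ⟨q, epos, hpos⟩ := henum (R' ∩ {i | 0 < lam (D.P.root i)})
  have hnm : ∀ j, eneg j ∈ R' := fun j => ((Set.ext_iff.mp hneg.2 _).mp (Set.mem_range_self j)).1
  have hpm : ∀ j, epos j ∈ R' := fun j => ((Set.ext_iff.mp hpos.2 _).mp (Set.mem_range_self j)).1
  obtain ⟨c, hc⟩ := exists_cell_factor D h t ht hR' hnm hpm
  haveI := isOpenImmersion_cell D h t ht hR' hreg hneg hpos c hc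
  have hh : Mono h := ⟨fun a b hab => Over.OverMorphism.ext ((cancel_mono h.left).mp (congrArg CommaMorphism.left hab))⟩
  have hone : Set.range η[H].left ⊆ Set.range c.left := by
    obtain ⟨e1, he1⟩ := exists_one_cellMap D eneg epos
    have e2 : e1 ≫ c = η[H] := by
      rw [← cancel_mono h, Category.assoc, hc, he1, IsMonHom.one_hom, MonObj.one_eq_one]
    rw [← e2, Over.comp_left]
    rintro _ ⟨a, rfl⟩
    exact ⟨e1.left a, rfl⟩
  haveI := surjective_mul_open c hconn hone
  haveI := flat_mul_open c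
  haveI := locallyOfFinitePresentation_mul_open c
  let P : Over S := Over.mk (pullback.fst y.left ((c ⊗ₘ c) ≫ μ[H]).left ≫ X.hom)
  let pX : P ⟶ X := Over.homMk (pullback.fst _ _) rfl
  let pC : P ⟶ cellObj D p q ⊗ cellObj D p q := Over.homMk (pullback.snd _ _) (by
    show _ = pullback.fst _ _ ≫ X.hom
    rw [← Over.w ((c ⊗ₘ c) ≫ μ[H]), ← pullback.condition_assoc, Over.w y])
  have hP : pX ≫ y = pC ≫ (c ⊗ₘ c) ≫ μ[H] := Over.OverMorphism.ext pullback.condition
  haveI : Surjective pX.left := MorphismProperty.pullback_fst _ _ inferInstance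
  haveI : Flat pX.left := MorphismProperty.pullback_fst _ _ inferInstance
  haveI := Flat.epi_of_flat_of_surjective pX.left
  have hy : pX ≫ y ≫ h = ((pC ≫ fst _ _) ≫ RedSub.cellMap D eneg epos) *
      ((pC ≫ snd _ _) ≫ RedSub.cellMap D eneg epos) := by
    rw [← Category.assoc, hP, ← hc, Category.assoc pC, Category.assoc _ _ h, IsMonHom.mul_hom h,
      ← Category.assoc (c ⊗ₘ c), tensorHom_comp_tensorHom, CategoryTheory.Hom.mul_def, ← Category.assoc pC]
    congr 1
    ext <;> simp
  set σ := pX ≫ τ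
  have hσ : ∀ a ∈ R', Rank2Red38.rootVal D P a σ = 1 := fun a ha => Units.ext (by
    rw [← Rank2Red38.rootVal_comp pX, hτ a ha, Units.val_one, map_one, Units.val_one])
  have hword : ∀ {k : ℕ} (w : Fin k → D.idx), (∀ j, w j ∈ R') → ∀ x : Fin k → Γ(P.left, ⊤),
      Commute (Rank2Red38.I D P σ) (wordPt D P w x) := fun w hw x => by
    refine Commute.list_prod_right _ _ fun a ha => ?_
    obtain ⟨j, rfl⟩ := List.mem_ofFn.mp ha
    refine mul_inv_eq_iff_eq_mul.mp ?_
    rw [Rank2Red38.conj_U, hσ _ (hw j), Units.val_one, one_mul]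
  have hcell : ∀ w : P ⟶ cellObj D p q, Commute (Rank2Red38.I D P σ) (w ≫ RedSub.cellMap D eneg epos) := fun w => by
    have hw : w ≫ RedSub.cellMap D eneg epos = wordPt D P eneg (coord (w ≫ fst _ _)) *
        (Rank2Red38.I D P (w ≫ snd _ _ ≫ fst _ _) * wordPt D P epos (coord (w ≫ snd _ _ ≫ snd _ _))) := by
      rw [RedSub.cellMap, MonObj.comp_mul, MonObj.comp_mul, ← Category.assoc w, comp_prodMap,
        show w ≫ snd _ _ ≫ snd _ _ ≫ RedSub.prodMap (Red.Ga S) q (fun k => D.u (epos k)) =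
          (w ≫ snd _ _ ≫ snd _ _) ≫ RedSub.prodMap (Red.Ga S) q (fun k => D.u (epos k)) by simp only [Category.assoc],
        comp_prodMap]
      congr 2
    rw [hw]
    refine (hword eneg hnm _).mul_right (Commute.mul_right ?_ (hword epos hpm _))
    show _ * _ = _ * _
    rw [← map_mul, Rank2Red38.torus_comm, map_mul]
  have key : pX ≫ (Rank2Red38.I D X τ * (y ≫ h)) = pX ≫ ((y ≫ h) * Rank2Red38.I D X τ) := by
    rw [MonObj.comp_mul, MonObj.comp_mul, show pX ≫ Rank2Red38.I D X τ = Rank2Red38.I D P σ from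
      (Category.assoc _ _ _).symm, hy]
    exact (hcell _).mul_right (hcell _)
  exact Over.OverMorphism.ext ((cancel_epi pX.left).mp (congrArg CommaMorphism.left key))

end Groth.Agent.RedSub30
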