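import Groth.Agent.RedSub30.LeviIwasawa
import Groth.Agent.BigCell29.CellOne
import Mathlib.RingTheory.Valuation.LocalSubring
import Mathlib.AlgebraicGeometry.Morphisms.ClosedImmersion

/-!
# Subgroups of type (R) whose root set has a polarised remaining part are closed
-/

set_option autoImplicit false
set_option maxHeartbeats 1000000
set_option synthInstance.maxHeartbeats 100000

universe u

open CategoryTheory CategoryTheory.Limits MonoidalCategory CartesianMonoidalCategory AlgebraicGeometry WithConv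
open scoped MonObj AddMonoidAlgebra

noncomputable section

namespace Groth.Agent.RedSub30.Valuation

open BigCell29 RootPoly

variable {S : Scheme.{u}} {G H : Over S} [GrpObj G] [GrpObj H] (D : Red.SplitRed G) (h : H ⟶ G)
  [IsMonHom h] [IsImmersion h.left] [QuasiCompact h.left] [Smooth H.hom] (t : D.T ⟶ H) (ht : t ≫ h = D.i)
  {R' : Set D.idx} (hR' : ∀ a : D.idx, (∃ v : Red.Ga S ⟶ H, v ≫ h = D.u a) ↔ a ∈ R')
  {R : Type u} [CommRing R] {f : Spec (CommRingCat.of R) ⟶ S} [IsOpenImmersion f] {A : Type u} [CommRing A]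
  [HopfAlgebra R A] (Md : Model f G A) {L : Type u} [Field L] [IsAlgClosed L] [Algebra R L]

include t ht hR' in
/-- Over an algebraically closed field the subgroup is generated by its torus and root groups. -/
theorem mem_closure_gen [ConnectedSpace S] (hconn : RedSub.HasConnectedFibres H) {g : Pt R A L}
    (hg : g ∈ (subPts h Md).mem L) :
    g ∈ Subgroup.closure (Set.range (Md.frame D).T.tor ∪ ⋃ c ∈ R', Set.range ((Md.frame D).rt c) : Set (Pt R A L)) := by
  classical
  set F := Md.frame D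
  set C := Subgroup.closure (Set.range F.T.tor ∪ ⋃ c ∈ R', Set.range (F.rt c) : Set (Pt R A L))
  obtain ⟨lam, hreg, -⟩ := exists_regular_pos D (Ψ := (∅ : Set D.idx)) 0 (fun a ha => absurd ha (Set.notMem_empty a))
  obtain ⟨n, eneg, hneg⟩ := exists_enum D (R' ∩ {i | 0 < (-lam) (D.P.root i)})
  obtain ⟨m, epos, hpos⟩ := exists_enum D (R' ∩ {i | 0 < lam (D.P.root i)})
  have hnm : ∀ j, eneg j ∈ R' := fun j => ((Set.ext_iff.mp hneg.2 _).mp (Set.mem_range_self j)).1
  have hpm : ∀ j, epos j ∈ R' := fun j => ((Set.ext_iff.mp hpos.2 _).mp (Set.mem_range_self j)).1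
  obtain ⟨c, hc⟩ := exists_cell_factor D h t ht hR' hnm hpm
  haveI := isOpenImmersion_cell D h t ht hR' hreg hneg hpos c hc
  haveI hh : Mono h := ⟨fun a b hab => Over.OverMorphism.ext ((cancel_mono h.left).mp (congrArg CommaMorphism.left hab))⟩
  have hone : Set.range η[H].left ⊆ Set.range c.left := by
    obtain ⟨o, ho⟩ := exists_one_cellMap D eneg epos
    have e2 : o ≫ c = η[H] := by
      rw [← cancel_mono h, Category.assoc, hc, ho, IsMonHom.one_hom, MonObj.one_eq_one]
    rw [← e2, Over.comp_left]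
    rintro _ ⟨a, rfl⟩
    exact ⟨o.left a, rfl⟩
  haveI := surjective_mul_open c hconn hone
  haveI := locallyOfFinitePresentation_mul_open c
  obtain ⟨z, hz⟩ := hg
  let W : Over (Spec (CommRingCat.of L)) := Over.mk (pullback.fst z.left ((c ⊗ₘ c) ≫ μ[H]).left)
  haveI : LocallyOfFiniteType W.hom := MorphismProperty.pullback_fst _ _ inferInstance
  haveI : JacobsonSpace W.left := LocallyOfFiniteType.jacobsonSpace W.hom
  haveI : Surjective W.hom := MorphismProperty.pullback_fst _ _ inferInstance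
  obtain ⟨w₀, -, hw₀⟩ := nonempty_inter_closedPoints (Z := (Set.univ : Set W.left))
    ⟨(W.hom.surjective (IsLocalRing.closedPoint L)).choose, trivial⟩ isClosed_univ.isLocallyClosed
  obtain ⟨s, -⟩ := GrpSchLib.exists_point_of_isClosed (K := L) W hw₀
  have hs : s.left ≫ pullback.fst z.left ((c ⊗ₘ c) ≫ μ[H]).left = 𝟙 _ := by
    have e1 := Over.w s
    simp only [W, Over.mk_hom] at e1
    rw [e1]
    simp [Algebra.algebraMap_self]
  let q : tObj f L ⟶ cellObj D n m ⊗ cellObj D n m := Over.homMk (s.left ≫ pullback.snd _ _) (by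
    rw [← Over.w ((c ⊗ₘ c) ≫ μ[H]), Category.assoc]
    show s.left ≫ pullback.snd _ _ ≫ _ = _
    rw [← pullback.condition_assoc, reassoc_of% hs]
    exact Over.w z)
  have hq : q ≫ (c ⊗ₘ c) ≫ μ[H] = z := Over.OverMorphism.ext (by
    show (s.left ≫ pullback.snd _ _) ≫ ((c ⊗ₘ c) ≫ μ[H]).left = z.left
    rw [Category.assoc, ← pullback.condition, reassoc_of% hs])
  have hcell : ∀ w : tObj f L ⟶ cellObj D n m, ∃ a ∈ C, w ≫ c ≫ h = Md.pt a := fun w => by
    obtain ⟨⟨y, χ, x⟩, hw, -⟩ := cellPt_bijective D w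
    refine ⟨_, ?_, by rw [hc, ← hw, Md.cellPt_cellMap]⟩
    have hword : ∀ {k : ℕ} (e : Fin k → D.idx), (∀ j, e j ∈ R') → ∀ v : Fin k → L, F.prodPt e v ∈ C :=
      fun e he v => by
        rw [Frame.prodPt]
        refine list_prod_mem fun u hu => ?_
        obtain ⟨j, rfl⟩ := List.mem_ofFn.mp hu
        exact Subgroup.subset_closure (Or.inr (Set.mem_iUnion₂.mpr ⟨_, he j, _, rfl⟩))
    exact mul_mem (mul_mem (hword eneg hnm y) (Subgroup.subset_closure (Or.inl ⟨χ, rfl⟩))) (hword epos hpm x)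
  obtain ⟨a₁, ha₁, e₁⟩ := hcell (q ≫ fst _ _)
  obtain ⟨a₂, ha₂, e₂⟩ := hcell (q ≫ snd _ _)
  have : g = a₁ * a₂ := Md.pt_bijective.injective (by
    rw [Md.pt_mul, ← e₁, ← e₂, ← hz, ← hq, ← Category.assoc _ c h, ← Category.assoc _ c h, ← MonObj.mul_comp]
    congr 1
    rw [CategoryTheory.Hom.mul_def, ← Category.assoc q]
    congr 1
    ext <;> simp)
  exact this ▸ mul_mem ha₁ ha₂

include t ht hR' in
/-- A point over a valuation ring lying in the subgroup over the field lies in the subgroup. -/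
theorem mem_of_valuation [ConnectedSpace S] (hconn : RedSub.HasConnectedFibres H) {lam₁ : Module.Dual ℤ D.M}
    (hsym : ∀ a ∈ symPart D.P R', lam₁ (D.P.root a) = 0) (hrem : ∀ a ∈ remPart D.P R', 0 < lam₁ (D.P.root a))
    (V : Subalgebra R L) (hV : ∀ x : L, x ∈ V ∨ x⁻¹ ∈ V) {g : Pt R A V}
    (hg : mapPt V.val g ∈ (subPts h Md).mem L) : g ∈ (subPts h Md).mem V := by
  obtain ⟨lam, hreg, hpos⟩ := exists_regular_pos D lam₁ hrem
  obtain ⟨b, hb, k, ⟨k₀, hk₀, rfl⟩, hgb⟩ :=
    mem_iwasawa D h t ht hR' Md V hV hsym hrem ⟨fun c _ => hreg c, hpos⟩ (mem_closure_gen D h t ht hR' Md hconn hg)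
  have h1 : mapPt V.val (g * k₀⁻¹) = b := by rw [map_mul, map_inv, hgb, mul_inv_cancel_right]
  have h2 := borel_mem_val D h t ht hR' Md V hV (g := g * k₀⁻¹) (h1.symm ▸ hb) hreg
  have h3 := mul_mem h2 hk₀
  rwa [inv_mul_cancel_right] at h3

end Groth.Agent.RedSub30.Valuation

namespace Groth.Agent.RedSub30

open BigCell29 RootPoly

variable {S : Scheme.{u}} {G H : Over S} [GrpObj G] [GrpObj H] (D : Red.SplitRed G) (h : H ⟶ G)
  [IsMonHom h] [IsImmersion h.left] [QuasiCompact h.left] [Smooth H.hom] (t : D.T ⟶ H) (ht : t ≫ h = D.i)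
  {R' : Set D.idx} (hR' : ∀ a : D.idx, (∃ v : Red.Ga S ⟶ H, v ≫ h = D.u a) ↔ a ∈ R')

include t ht hR' in
/-- A subgroup of type (R) whose roots without opposites are positive for a form killing the others is closed. -/
theorem isClosedImmersion_typeR [ConnectedSpace S] (hconn : RedSub.HasConnectedFibres H)
    {lam₁ : Module.Dual ℤ D.M}
    (hsym : ∀ a ∈ symPart D.P R', lam₁ (D.P.root a) = 0) (hrem : ∀ a ∈ remPart D.P R', 0 < lam₁ (D.P.root a)) :
    IsClosedImmersion h.left := by
  haveI : IsAffineHom G.hom := D.reductive.1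
  suffices hc : IsClosed (Set.range h.left) from IsClosedImmersion.of_isPreimmersion h.left hc
  suffices hm : IsClosedMap h.left.base by
    rw [← Set.image_univ]; exact hm _ isClosed_univ
  rw [isClosedMap_iff_specializingMap]
  intro x y hxy
  suffices hy : y ∈ Set.range h.left.base by
    obtain ⟨x', rfl⟩ := hy
    exact ⟨x', h.left.isEmbedding.toIsInducing.specializes_iff.mp hxy, rfl⟩
  -- an affine neighbourhood of the image
  let i := S.affineCover.idx (G.hom.base y)
  obtain ⟨R, f, _, A, _, _, Md, hr⟩ := exists_local_model G i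
  have hyf : G.hom.base y ∈ Set.range f.base := by rw [hr]; exact S.affineCover.covers _
  have hxf : G.hom.base (h.left.base x) ∈ Set.range f.base :=
    (hxy.map G.hom.continuous).mem_open f.isOpenEmbedding.isOpen_range hyf
  -- the generic point
  let k := H.left.residueField x
  let L := AlgebraicClosure k
  let jpt : Spec (CommRingCat.of L) ⟶ H.left :=
    Spec.map (CommRingCat.ofHom (algebraMap k L)) ≫ H.left.fromSpecResidueField x
  have hjpx : ∀ p, jpt.base p = x := fun p => by
    rw [Scheme.Hom.comp_apply]; exact Scheme.fromSpecResidueField_apply x _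
  have hrange : Set.range (jpt ≫ H.hom).base ⊆ Set.range f.base := by
    rintro _ ⟨p, rfl⟩
    rw [Scheme.Hom.comp_apply, hjpx, ← Over.w h, Scheme.Hom.comp_apply]
    exact hxf
  obtain ⟨α, hα⟩ := Spec.map_surjective (IsOpenImmersion.lift f (jpt ≫ H.hom) hrange)
  letI : Algebra (R : Type u) L := α.hom.toAlgebra
  let j : tObj (R := (R : Type u)) f L ⟶ H := Over.homMk jpt (by
    show jpt ≫ H.hom = Spec.map α ≫ f
    rw [hα, IsOpenImmersion.lift_fac])
  obtain ⟨g, hg⟩ := Md.pt_bijective.surjective (j ≫ h)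
  have hleft : ∀ {B : Type u} [CommRing B] [Algebra (R : Type u) B] (g' : Pt (R : Type u) A B) (p),
      (Md.pt g').left.base p = Md.toG.base (PrimeSpectrum.comap g'.ofConv.toRingHom p) := fun g' p => by
    rw [Md.pt_left, Scheme.Hom.comp_apply]; rfl
  haveI : IsOpenImmersion Md.toG :=
    MorphismProperty.of_isPullback (P := @IsOpenImmersion) Md.isPullback.flip inferInstance
  obtain ⟨qy, hqy⟩ : y ∈ Set.range Md.toG.base := by
    have hy' : y ∈ Set.range (pullback.fst G.hom f).base := by rw [Scheme.Pullback.range_fst]; exact hyf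
    obtain ⟨q, hq⟩ := hy'
    refine ⟨(inv Md.hom.left).base q, ?_⟩
    show ((inv Md.hom.left ≫ Md.hom.left ≫ pullback.fst G.hom f : (Red.bc f G).left ⟶ G.left)).base q = y
    rw [IsIso.inv_hom_id_assoc]
    exact hq
  set qx := PrimeSpectrum.comap g.ofConv.toRingHom (IsLocalRing.closedPoint L)
  have hqx : Md.toG.base qx = h.left.base x := by
    rw [← hleft g, hg, Over.comp_left, Scheme.Hom.comp_apply]
    exact congrArg _ (hjpx _)
  have hle : qx.asIdeal ≤ qy.asIdeal := (PrimeSpectrum.le_iff_specializes qx qy).mpr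
    (Md.toG.isOpenEmbedding.toIsInducing.specializes_iff.mp (by rw [hqx, hqy]; exact hxy))
  -- the valuation ring
  let gl : Localization.AtPrime qy.asIdeal →+* L :=
    IsLocalization.lift (M := qy.asIdeal.primeCompl) (g := g.ofConv.toRingHom) fun a => by
      refine isUnit_iff_ne_zero.mpr fun h0 => a.2 (hle ?_)
      show g.ofConv.toRingHom a ∈ (IsLocalRing.closedPoint L).asIdeal
      rw [h0]; exact zero_mem _
  obtain ⟨V₀, hV₀, hloc⟩ := IsLocalRing.exists_factor_valuationRing gl
  have hgl : ∀ a : A, gl (algebraMap A _ a) = g.ofConv a := fun a => IsLocalization.lift_eq _ a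
  have hAV : ∀ a : A, g.ofConv a ∈ V₀ := fun a => hgl a ▸ hV₀ _
  let V : Subalgebra (R : Type u) L :=
    { V₀.toSubring with
      algebraMap_mem' := fun r => by
        rw [← g.ofConv.commutes]; exact hAV _ }
  let g₀ : Pt (R : Type u) A V := toConv (g.ofConv.codRestrict V hAV)
  have hmap : mapPt V.val g₀ = g := pt_ext fun a => rfl
  obtain ⟨z, hz⟩ := Valuation.mem_of_valuation D h t ht hR' Md hconn hsym hrem V (fun a => V₀.mem_or_inv_mem a)
    (g := g₀) (hmap.symm ▸ ⟨j, hg.symm⟩)
  haveI : IsLocalRing V := inferInstanceAs (IsLocalRing V₀)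
  refine ⟨z.left.base (IsLocalRing.closedPoint V), ?_⟩
  have hz' := congrArg (fun k : tObj (R := (R : Type u)) f V ⟶ G => k.left.base (IsLocalRing.closedPoint V)) hz
  simp only [Over.comp_left, Scheme.Hom.comp_apply] at hz'
  rw [hz', hleft, ← hqy]
  congr 1
  refine PrimeSpectrum.ext (Ideal.ext fun a => ?_)
  show g₀.ofConv a ∈ IsLocalRing.maximalIdeal V ↔ a ∈ qy.asIdeal
  have key : ((gl.codRestrict V₀.toSubring hV₀) (algebraMap A _ a) : V₀.toSubring) =
      ⟨g.ofConv a, hAV a⟩ := Subtype.ext (hgl a)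
  haveI := hloc
  rw [← IsLocalization.AtPrime.to_map_mem_maximal_iff (Localization.AtPrime qy.asIdeal) qy.asIdeal a]
  rw [IsLocalRing.mem_maximalIdeal, IsLocalRing.mem_maximalIdeal, mem_nonunits_iff, mem_nonunits_iff, not_iff_not]
  constructor
  · intro hu
    refine IsUnit.of_map (gl.codRestrict V₀.toSubring hV₀) _ ?_
    rw [key]; exact hu
  · intro hu
    have := hu.map (gl.codRestrict V₀.toSubring hV₀)
    rw [key] at this; exact this

end Groth.Agent.RedSub30
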