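import Groth.Agent.RedSub30.LeviRadical

/-!
# Normal subgroups without tori project trivially on every geometric fibre
-/

set_option autoImplicit false
set_option maxHeartbeats 1000000
set_option synthInstance.maxHeartbeats 100000

universe u

open CategoryTheory CategoryTheory.Limits MonoidalCategory CartesianMonoidalCategory AlgebraicGeometry
open scoped MonObj

noncomputable section

namespace Groth.Agent.RedSub30.Levi

open BigCell29 RootPoly GrpSchLib CellChar

theorem geomPt_closedPoint {S : Scheme.{u}} (s : S) (z : Spec (CommRingCat.of (AlgebraicClosure (S.residueField s)))) :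
    (Red.geomPt s).base z = s :=
  Scheme.fromSpecResidueField_apply s _

variable {S : Scheme.{u}} {G H' H₁ : Over S} [GrpObj G] [GrpObj H'] [GrpObj H₁] (D : Red.SplitRed G) {R' : Set D.idx}
  (h' : H' ⟶ G) [IsMonHom h'] [IsImmersion h'.left] [QuasiCompact h'.left] [Smooth H'.hom]
  (t' : D.T ⟶ H') (ht' : t' ≫ h' = D.i)
  {U' : Over S} [GrpObj U'] (u' : U' ⟶ H') [IsMonHom u'] [IsClosedImmersion u'.left] [Smooth U'.hom] (s : S)

omit [Smooth H'.hom] in
/-- The geometric fibre of a closed subgroup is a closed subgroup of the ambient group. -/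
theorem isClosedImmersion_fibre [IsAffineHom G.hom] [LocallyOfFiniteType G.hom] :
    IsClosedImmersion ((Over.pullback (Red.geomPt s)).map (u' ≫ h')).left ∧ IsAffine (Red.geomFibre s U').left := by
  let K := AlgebraicClosure (S.residueField s)
  haveI hi : IsImmersion (u' ≫ h').left := by rw [Over.comp_left]; infer_instance
  haveI hq : QuasiCompact (u' ≫ h').left := by rw [Over.comp_left]; infer_instance
  let i := (Over.pullback (Red.geomPt s)).map (u' ≫ h')
  haveI : IsImmersion i.left :=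
    MorphismProperty.of_isPullback (P := @IsImmersion) (isPullback_map (Red.geomPt s) (u' ≫ h')).flip hi
  haveI : QuasiCompact i.left :=
    MorphismProperty.of_isPullback (P := @QuasiCompact) (isPullback_map (Red.geomPt s) (u' ≫ h')).flip hq
  haveI : Smooth (Red.geomFibre s U').hom := MorphismProperty.pullback_snd _ _ ‹_›
  haveI : LocallyOfFiniteType (Red.geomFibre s G).hom := MorphismProperty.pullback_snd _ _ ‹_›
  haveI := isClosedImmersion_of_immersion (k := K) (A := Red.geomFibre s U') (B := Red.geomFibre s G) i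
  haveI : IsAffineHom (Red.geomFibre s G).hom := MorphismProperty.pullback_snd _ _ ‹_›
  haveI : IsAffineHom (Red.geomFibre s U').hom := by rw [← Over.w i]; infer_instance
  exact ⟨inferInstanceAs (IsClosedImmersion i.left), isAffine_of_isAffineHom (Red.geomFibre s U').hom⟩

include t' ht' in
/-- A group without tori contains no coroot. -/
theorem false_of_coroot (hno : Red.HasNoSubtorus (AlgebraicClosure (S.residueField s)) (Red.geomFibre s U'))
    (a : D.idx)
    (h : ∀ v : Γ((tObj (Red.geomPt s) (AlgebraicClosure (S.residueField s))).left, ⊤)ˣ,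
      ∃ w : tObj (Red.geomPt s) (AlgebraicClosure (S.residueField s)) ⟶ U',
        w ≫ u' ≫ h' = Rank2Red38.I D _ (Rank2Red38.av D _ a v)) : False := by
  classical
  haveI := mono_incl h'
  haveI : IsAffineHom G.hom := D.reductive.1
  haveI : LocallyOfFiniteType G.hom := by
    have := D.reductive.2.1
    infer_instance
  let K := AlgebraicClosure (S.residueField s)
  let X := tObj (Red.geomPt s) K
  let F := Over.pullback (Red.geomPt s)
  haveI := (isClosedImmersion_fibre h' u' s).2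
  haveI : IsMonHom (t' : D.T ⟶ H') := by
    haveI : IsMonHom (t' ≫ h') := by rw [ht']; exact D.maximalTorus.1
    constructor
    · rw [← cancel_mono h', Category.assoc, IsMonHom.one_hom (t' ≫ h'), IsMonHom.one_hom h']
    · rw [← cancel_mono h', Category.assoc, IsMonHom.mul_hom (t' ≫ h'), Category.assoc, IsMonHom.mul_hom h',
        ← Category.assoc, tensorHom_comp_tensorHom]
  let q : Red.Gm S ⟶ H' := Rank2Red38.corootHom D a ≫ t'
  haveI : Smooth (Red.Gm S).hom := smooth_DS S ℤ
  haveI : Smooth (Red.geomFibre s (Red.Gm S)).hom := MorphismProperty.pullback_snd _ _ ‹_›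
  haveI : IsClosedImmersion (F.map u').left := BigCell29.isClosedImmersion_map (Red.geomPt s) u'
  haveI : Mono u' := Over.mono_of_mono_left _
  have hpt : ∀ g : X ⟶ Red.Gm S, g ≫ q ≫ h' = Rank2Red38.I D X (Rank2Red38.av D X a (GmPts.unitOfPt g)) := by
    intro g
    show g ≫ (Rank2Red38.corootHom D a ≫ t') ≫ h' = (GmPts.ptOfUnit (GmPts.unitOfPt g) ≫ Rank2Red38.corootHom D a) ≫ D.i
    rw [GmPts.ptOfUnit_unitOfPt]
    simp only [Category.assoc, ht']
  obtain ⟨c, hc⟩ := exists_fac_of_rat_pts (F.map q) (F.map u') fun x => by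
    obtain ⟨w, hw⟩ := h (GmPts.unitOfPt (fibPt s x))
    obtain ⟨z, rfl⟩ := (fibPt_bijective s U').surjective w
    refine ⟨z, (fibPt_bijective s H').injective ?_⟩
    rw [fibPt_map, fibPt_map, ← cancel_mono h', Category.assoc, Category.assoc, hw]
    exact (hpt _).symm
  haveI : (F).PreservesMonomorphisms :=
    Functor.preservesMonomorphisms_of_adjunction (Over.mapPullbackAdj (Red.geomPt s))
  haveI : Mono (F.map u') := inferInstance
  haveI : IsMonHom c := by
    haveI : IsMonHom (c ≫ F.map u') := by rw [hc]; infer_instance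
    constructor
    · rw [← cancel_mono (F.map u'), Category.assoc, IsMonHom.one_hom (c ≫ F.map u'), IsMonHom.one_hom (F.map u')]
    · rw [← cancel_mono (F.map u'), Category.assoc, IsMonHom.mul_hom (c ≫ F.map u'), Category.assoc,
        IsMonHom.mul_hom (F.map u'), ← Category.assoc, tensorHom_comp_tensorHom]
  haveI : Smooth (Red.geomFibre s U').hom := MorphismProperty.pullback_snd _ _ ‹_›
  haveI : IsAffineHom (Red.geomFibre s U').hom := inferInstance
  have hT : Red.IsTorus (Red.Gm S) := by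
    obtain ⟨e⟩ := MaxTorusLib.nonempty_DS_congr (U := S)
      (((LinearEquiv.funUnique (Fin 1) ℤ ℤ).toAddEquiv : (Fin 1 → ℤ) ≃+ ℤ))
    first
      | exact MaxTorusLib.isTorus_of_iso e (MaxTorusLib.isTorus_DS S 1)
      | exact MaxTorusLib.isTorus_of_iso e.symm (MaxTorusLib.isTorus_DS S 1)
  obtain ⟨Q, _, j, p, hj, -, hcl, -, -, hpj, hQ⟩ :=
    MaxTorusLib.exists_image_torus (RedSub30.TorusAbsorb.isTorus_bc (Red.geomPt s) hT) c
  haveI := hj
  haveI := hcl
  haveI : Mono j := Over.mono_of_mono_left _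
  haveI : IsIso Q.hom := hno Q j hQ
  have hone : p = 1 := Over.OverMorphism.ext ((cancel_mono Q.hom).mp (by rw [Over.w, Over.w]))
  have hq1 : F.map q = 1 := by rw [← hc, ← hpj, hone, MonObj.one_comp, MonObj.one_comp]
  -- a square different from one
  haveI : Nontrivial Γ(X.left, ⊤) := (tVal (Red.geomPt s) K).symm.injective.nontrivial
  obtain ⟨ζ, hζ⟩ := Symm.exists_avoid (K := K) ({2} : Finset ℤ)
  let w : Γ(X.left, ⊤)ˣ := Units.map (tVal (Red.geomPt s) K).symm.toRingHom.toMonoidHom ζ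
  obtain ⟨x, hx⟩ := (fibPt_bijective s (Red.Gm S)).surjective (GmPts.ptOfUnit w)
  have h1 : fibPt s (x ≫ F.map q) = GmPts.ptOfUnit w ≫ q := by rw [fibPt_map, hx]
  have h2 : fibPt s (x ≫ F.map q) = 1 := by
    rw [hq1, MonObj.comp_one]
    exact (MonoidHom.mk' (fibPt s (Y := H')) (fibPt_mul s H')).map_one
  have h3 : Rank2Red38.I D X (Rank2Red38.av D X a (GmPts.unitOfPt (GmPts.ptOfUnit w))) = 1 := by
    rw [← hpt, ← Category.assoc, ← h1, h2, MonObj.one_comp]
  haveI : Mono D.i := D.maximalTorus.2.1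
  have h4 : Rank2Red38.av D X a (GmPts.unitOfPt (GmPts.ptOfUnit w)) = 1 := by
    rw [← cancel_mono D.i]
    exact h3.trans (MonObj.one_comp (D.i)).symm
  have h5 := congrArg (Rank2Red38.rootVal D X a) h4
  rw [Rank2Red38.rootVal_av, map_one, D.P.pairing_same, GmPts.unitOfPt_ptOfUnit] at h5
  have h6 : Units.map (tVal (Red.geomPt s) K).symm.toRingHom.toMonoidHom (ζ ^ (2 : ℤ)) = 1 := by
    rw [map_zpow]; exact h5
  refine hζ 2 (Finset.mem_singleton_self _) (by norm_num) ?_
  exact Units.ext ((tVal (Red.geomPt s) K).symm.injective ((congrArg Units.val h6).trans (map_one _).symm))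

variable (h₁ : H₁ ⟶ G) [IsMonHom h₁] [IsImmersion h₁.left] [QuasiCompact h₁.left] [Smooth H₁.hom]
  (t₁ : D.T ⟶ H₁) (ht₁ : t₁ ≫ h₁ = D.i)
  (hR₁ : ∀ a : D.idx, (∃ v : Red.Ga S ⟶ H₁, v ≫ h₁ = D.u a) ↔ a ∈ symPart D.P R')
  (f₁ : H₁ ⟶ H') (hf₁ : f₁ ≫ h' = h₁) (π : H' ⟶ H₁) [IsMonHom π] (hfπ : f₁ ≫ π = 𝟙 H₁)

include t' ht' t₁ ht₁ hR₁ hf₁ hfπ in
/-- A normal subgroup without tori which contains its projections projects trivially. -/
theorem fibre_proj_eq_one [ConnectedSpace S] (hnorm : AlgGrp.IsNormalHom u')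
    (hconn' : ConnectedSpace (Red.geomFibre s U').left)
    (hno : Red.HasNoSubtorus (AlgebraicClosure (S.residueField s)) (Red.geomFibre s U'))
    (r : U' ⟶ U') (hr : r ≫ u' = (u' ≫ π) ≫ f₁) :
    (Over.pullback (Red.geomPt s)).map (u' ≫ π) = 1 := by
  classical
  haveI := mono_incl h'
  haveI := mono_incl h₁
  haveI := isMonHom_sub h' h₁ f₁ hf₁
  haveI : IsAffineHom G.hom := D.reductive.1
  haveI : LocallyOfFiniteType G.hom := by
    have := D.reductive.2.1
    infer_instance
  haveI := Fintype.ofFinite D.idx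
  let K := AlgebraicClosure (S.residueField s)
  let f := Red.geomPt s
  let X := tObj f K
  let F := Over.pullback f
  haveI := (isClosedImmersion_fibre h' u' s).2
  haveI : IsMonHom (t₁ : D.T ⟶ H₁) := by
    haveI : IsMonHom (t₁ ≫ h₁) := by rw [ht₁]; exact D.maximalTorus.1
    constructor
    · rw [← cancel_mono h₁, Category.assoc, IsMonHom.one_hom (t₁ ≫ h₁), IsMonHom.one_hom h₁]
    · rw [← cancel_mono h₁, Category.assoc, IsMonHom.mul_hom (t₁ ≫ h₁), Category.assoc, IsMonHom.mul_hom h₁,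
        ← Category.assoc, tensorHom_comp_tensorHom]
  -- a cell of the subgroup of the symmetric part
  obtain ⟨lam, hreg, -⟩ := exists_regular_pos D (Ψ := (∅ : Set D.idx)) 0 (fun a ha => absurd ha (Set.notMem_empty a))
  have henum : ∀ Ψ : Set D.idx, ∃ (k : ℕ) (c : Fin k → D.idx), RedSub.Enumerates Ψ c := fun Ψ => by
    let c : Fin (Fintype.card Ψ) → D.idx := fun k => ((Fintype.equivFin Ψ).symm k).1
    refine ⟨_, c, fun p q hpq => (Fintype.equivFin Ψ).symm.injective (Subtype.ext hpq),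
      Set.ext fun a => ⟨?_, fun ha => ⟨Fintype.equivFin Ψ ⟨a, ha⟩, by simp [c]⟩⟩⟩
    rintro ⟨k, rfl⟩
    exact ((Fintype.equivFin Ψ).symm k).2
  obtain ⟨p, eneg, hneg⟩ := henum (symPart D.P R' ∩ {i | 0 < (-lam) (D.P.root i)})
  obtain ⟨q, epos, hpos⟩ := henum (symPart D.P R' ∩ {i | 0 < lam (D.P.root i)})
  have hnm : ∀ j, eneg j ∈ symPart D.P R' ∧ 0 < (-lam) (D.P.root (eneg j)) :=
    fun j => (Set.ext_iff.mp hneg.2 _).mp (Set.mem_range_self j)
  have hpm : ∀ j, epos j ∈ symPart D.P R' ∧ 0 < lam (D.P.root (epos j)) :=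
    fun j => (Set.ext_iff.mp hpos.2 _).mp (Set.mem_range_self j)
  obtain ⟨c₁, hc₁⟩ := exists_cell_factor D h₁ t₁ ht₁ hR₁ (fun j => (hnm j).1) (fun j => (hpm j).1)
  haveI := isOpenImmersion_cell D h₁ t₁ ht₁ hR₁ hreg hneg hpos c₁ hc₁
  -- the groups of points
  let Hs : Subgroup (X ⟶ G) := (RankOne.postHom h₁ X).range
  let Uh : Subgroup (X ⟶ G) := (RankOne.postHom (u' ≫ h') X).range
  let N : Subgroup (X ⟶ G) := Hs ⊓ Uh
  have hI : ∀ τ : X ⟶ D.T, Rank2Red38.I D X τ ∈ Hs := fun τ => ⟨τ ≫ t₁, by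
    show (τ ≫ t₁) ≫ h₁ = τ ≫ D.i
    rw [Category.assoc, ht₁]⟩
  have hU : ∀ a ∈ symPart D.P R', ∀ x, Rank2Red38.U D X a x ∈ Hs := fun a ha x => by
    obtain ⟨va, hva⟩ := (hR₁ a).mpr ha
    refine ⟨(GaPts.ptOfFn x : X ⟶ Red.Ga S) ≫ va, ?_⟩
    show (_ ≫ va) ≫ h₁ = _
    rw [Category.assoc, hva]
    rfl
  have hNn : ∀ g ∈ Hs, ∀ n ∈ N, g * n * g⁻¹ ∈ N := by
    rintro g ⟨k, rfl⟩ n ⟨hn, w, rfl⟩
    refine ⟨Hs.mul_mem (Hs.mul_mem ⟨k, rfl⟩ hn) (Hs.inv_mem ⟨k, rfl⟩), ?_⟩
    obtain ⟨w', hw'⟩ := hnorm _ (k ≫ f₁) w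
    refine ⟨w', ?_⟩
    show w' ≫ u' ≫ h' = (k ≫ h₁) * (w ≫ u' ≫ h') * (k ≫ h₁)⁻¹
    rw [← Category.assoc w', ← hw', MonObj.mul_comp, MonObj.mul_comp, GrpObj.inv_comp, Category.assoc, hf₁,
      Category.assoc]
  -- the projection lands in the torus on the cell
  let φ : Red.geomFibre s U' ⟶ Red.geomFibre s H₁ := F.map (u' ≫ π)
  let cK := F.map c₁
  let tK := F.map t₁
  haveI : IsClosedImmersion t₁.left := by
    haveI := D.maximalTorus.2.1
    haveI := D.maximalTorus.1
    haveI : IsClosedImmersion D.i.left := TorusClosed.isClosedImmersion_of_mono D.i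
      (GrpSchLib.RankOne.isMultTypeFT_of_isTorus D.maximalTorus.2.2.1)
    haveI : IsClosedImmersion (t₁.left ≫ h₁.left) := by rw [← Over.comp_left, ht₁]; infer_instance
    exact IsClosedImmersion.of_comp t₁.left h₁.left
  haveI : IsClosedImmersion tK.left := BigCell29.isClosedImmersion_map f t₁
  haveI : IsOpenImmersion cK.left :=
    MorphismProperty.of_isPullback (P := @IsOpenImmersion) (isPullback_map f c₁).flip ‹_›
  haveI : Smooth (Red.geomFibre s U').hom := MorphismProperty.pullback_snd _ _ ‹_›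
  let B : Over (Spec (CommRingCat.of K)) := Over.mk (pullback.fst φ.left cK.left ≫ (Red.geomFibre s U').hom)
  let iB : B ⟶ Red.geomFibre s U' := Over.homMk (pullback.fst _ _) rfl
  let iC : B ⟶ F.obj (cellObj D p q) := Over.homMk (pullback.snd _ _) (by
    show _ = pullback.fst φ.left cK.left ≫ (Red.geomFibre s U').hom
    rw [← Over.w φ, pullback.condition_assoc, Over.w cK])
  have hB : iB ≫ φ = iC ≫ cK := Over.OverMorphism.ext pullback.condition
  haveI : IsOpenImmersion iB.left := MorphismProperty.pullback_fst _ _ ‹_›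
  haveI : Smooth B.hom := by rw [← Over.w iB]; infer_instance
  obtain ⟨fB, hfB⟩ := exists_fac_of_rat_pts (iB ≫ φ) tK fun b => by
    let P := fibPt s (b ≫ iB)
    let W := fibPt s (b ≫ iC)
    have hPW : P ≫ u' ≫ π = W ≫ c₁ := by
      rw [← fibPt_map, ← fibPt_map, Category.assoc, Category.assoc]
      exact congrArg (fun k => fibPt s (b ≫ k)) hB
    let y := wordPt D X eneg (coord (W ≫ fst _ _))
    let τ := W ≫ snd _ _ ≫ fst _ _
    let x := wordPt D X epos (coord (W ≫ snd _ _ ≫ snd _ _))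
    have hW : W ≫ c₁ ≫ h₁ = y * (Rank2Red38.I D X τ * x) := by
      rw [hc₁, RedSub.cellMap, MonObj.comp_mul, MonObj.comp_mul, ← Category.assoc W, comp_prodMap,
        show W ≫ snd _ _ ≫ snd _ _ ≫ RedSub.prodMap (Red.Ga S) q (fun k => D.u (epos k)) =
          (W ≫ snd _ _ ≫ snd _ _) ≫ RedSub.prodMap (Red.Ga S) q (fun k => D.u (epos k)) by simp only [Category.assoc],
        comp_prodMap]
      congr 2
    have hN : y * (Rank2Red38.I D X τ * x) ∈ N := by
      rw [← hW]
      refine ⟨⟨W ≫ c₁, by show (_ ≫ c₁) ≫ h₁ = _; rw [Category.assoc]⟩, P ≫ r, ?_⟩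
      show (P ≫ r) ≫ u' ≫ h' = W ≫ c₁ ≫ h₁
      rw [Category.assoc, reassoc_of% hr, hf₁, ← Category.assoc W c₁, ← hPW]
      simp only [Category.assoc]
    have hinp : ∀ {k : ℕ} (d : Fin k → D.idx), Function.Injective d → ∀ z : Fin k → Γ(X.left, ⊤),
        InProd D X (List.ofFn d) (wordPt D X d z) := fun d hd z =>
      ⟨Function.extend d z 0, by rw [rootProd_ofFn]; simp only [hd.extend_apply]⟩
    have hyH : y ∈ Hs := list_prod_mem fun a ha => by
      obtain ⟨j, rfl⟩ := List.mem_ofFn.mp ha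
      exact hU _ (hnm j).1 _
    have hxH : x ∈ Hs := list_prod_mem fun a ha => by
      obtain ⟨j, rfl⟩ := List.mem_ofFn.mp ha
      exact hU _ (hpm j).1 _
    have htriv : y = 1 ∧ x = 1 := by
      by_contra hne
      obtain ⟨a, ρ, haH, ha1, haN⟩ := Symm.exists_root_mem f Hs N inf_le_left hNn hI
        (lam := lam.toIntLinearMap) (fun c => hreg c) (lp := List.ofFn epos) (ln := List.ofFn eneg)
        (List.nodup_ofFn.mpr hpos.1) (fun c hc => by obtain ⟨j, rfl⟩ := List.mem_ofFn.mp hc; exact (hpm j).2)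
        (List.nodup_ofFn.mpr hneg.1) (fun c hc => by obtain ⟨j, rfl⟩ := List.mem_ofFn.mp hc; exact (hnm j).2)
        τ hyH hxH (hinp eneg hneg.1 _) (hinp epos hpos.1 _) (not_and_or.mp hne) hN
      have haR : a ∈ symPart D.P R' := by
        by_contra haR
        refine none_of_notMem D h₁ t₁ ht₁ hR₁ haR s ⟨K, inferInstance, X.hom, ?_, ?_⟩
        · exact geomPt_closedPoint s _
        · obtain ⟨z, hz⟩ := haH
          refine ⟨(GaPts.ptOfFn ρ : X ⟶ Red.Ga S), z, fun e1 => ha1 ?_, hz⟩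
          show (GaPts.ptOfFn ρ : X ⟶ Red.Ga S) ≫ D.u a = 1
          haveI : IsMonHom (D.u a) := (D.rootHom a).1
          exact (congrArg (· ≫ D.u a) e1).trans (MonObj.one_comp _)
      have hneg' : ∀ x', Rank2Red38.U D X (Rank2Red38.neg' D a) x' ∈ Hs := fun x' => hU _ (by
        rw [eq_opp (P := D.P) (a := a) (c := Rank2Red38.neg' D a) (Symm.root_neg a)]
        exact symPart_opp haR) x'
      refine false_of_coroot D h' t' ht' u' s hno a fun w => ?_
      obtain ⟨z, hz⟩ := (Symm.exists_coroot_mem f Hs N inf_le_left hNn hI ha1 haN hneg' w).2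
      exact ⟨z, hz⟩
    obtain ⟨z, hz⟩ := (fibPt_bijective s D.T).surjective τ
    refine ⟨z, (fibPt_bijective s H₁).injective ?_⟩
    rw [fibPt_map, hz, ← Category.assoc, fibPt_map]
    refine Eq.trans ?_ hPW.symm
    rw [← cancel_mono h₁, Category.assoc, ht₁, Category.assoc W c₁ h₁, hW, htriv.1, htriv.2, one_mul, mul_one]
    rfl
  -- density
  let P := pullback.fst φ.left tK.left
  haveI : IsClosedImmersion P := MorphismProperty.pullback_fst _ _ ‹_›
  haveI : IrreducibleSpace (Red.geomFibre s U').left := Groth.Agent.S0348.result K _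
  have hne : (Set.range iB.left).Nonempty := by
    obtain ⟨o, ho⟩ := exists_one_cellMap D eneg epos
    obtain ⟨z, hz⟩ := (fibPt_bijective s (cellObj D p q)).surjective (toUnit X ≫ o)
    have e : (1 : _ ⟶ Red.geomFibre s U') ≫ φ = z ≫ cK := by
      rw [MonObj.one_comp]
      refine (fibPt_bijective s H₁).injective ?_
      rw [fibPt_map, hz, Category.assoc, ← cancel_mono h₁, Category.assoc, Category.assoc, hc₁, ho]
      refine Eq.trans ?_ (MonObj.comp_one (toUnit X)).symm
      rw [show fibPt s (1 : _ ⟶ Red.geomFibre s H₁) = 1 from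
        (MonoidHom.mk' (fibPt s (Y := H₁)) (fibPt_mul s H₁)).map_one, MonObj.one_comp]
    let b := pullback.lift (1 : _ ⟶ Red.geomFibre s U').left z.left (congrArg CommaMorphism.left e)
    exact ⟨_, b.base (IsLocalRing.closedPoint K), rfl⟩
  have hdense : Dense (Set.range iB.left) := iB.left.isOpenEmbedding.isOpen_range.dense hne
  have hsub : Set.range iB.left ⊆ Set.range P := by
    let l : B.left ⟶ pullback φ.left tK.left :=
      pullback.lift iB.left fB.left (congrArg CommaMorphism.left hfB).symm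
    rintro _ ⟨b, rfl⟩
    exact ⟨l.base b, by rw [← Scheme.Hom.comp_apply]; exact congrArg (fun k : B.left ⟶ (Red.geomFibre s U').left => k.base b) (pullback.lift_fst _ _ _)⟩
  haveI : Surjective P := ⟨Set.range_eq_univ.mp (Set.univ_subset_iff.mp (hdense.closure_eq ▸
    closure_minimal hsub P.isClosedEmbedding.isClosed_range))⟩
  haveI : IsReduced (Red.geomFibre s U').left := GrpSchLib.isReduced_of_smooth_field (Red.geomFibre s U').hom
  haveI : IsIso P := isIso_of_isClosedImmersion_of_surjective P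
  let φT : Red.geomFibre s U' ⟶ Red.geomFibre s D.T := Over.homMk (inv P ≫ pullback.snd _ _) (by
    show (inv P ≫ _) ≫ (Red.geomFibre s D.T).hom = _
    rw [← Over.w tK, Category.assoc, ← pullback.condition_assoc, IsIso.inv_hom_id_assoc]
    exact Over.w φ)
  have hφT : φT ≫ tK = φ := Over.OverMorphism.ext (by
    show (inv P ≫ _) ≫ tK.left = φ.left
    rw [Category.assoc, ← pullback.condition, IsIso.inv_hom_id_assoc])
  haveI : Mono tK := Over.mono_of_mono_left _
  haveI : IsMonHom φT := by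
    haveI : IsMonHom (φT ≫ tK) := by rw [hφT]; infer_instance
    constructor
    · rw [← cancel_mono tK, Category.assoc, IsMonHom.one_hom (φT ≫ tK), IsMonHom.one_hom tK]
    · rw [← cancel_mono tK, Category.assoc, IsMonHom.mul_hom (φT ≫ tK), Category.assoc, IsMonHom.mul_hom tK,
        ← Category.assoc, tensorHom_comp_tensorHom]
  obtain ⟨e₁⟩ := GrpSchLib.MultTypeBC.bc_iso f D.split
  obtain ⟨e₂⟩ := GrpSchLib.MultTypeBC.bc_DS f D.M
  let e := e₁ ≪≫ e₂
  haveI : IsMonHom e.hom.hom.hom := e.hom.hom.isMonHom_hom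
  haveI := hconn'
  haveI : IsIso e.hom.hom.hom := ⟨e.inv.hom.hom, congrArg (fun k => k.hom.hom) e.hom_inv_id,
    congrArg (fun k => k.hom.hom) e.inv_hom_id⟩
  have h1 := eq_one_of_noSubtorus hno (φT ≫ e.hom.hom.hom)
  have h0 : (1 : Red.geomFibre s U' ⟶ Red.geomFibre s D.T) ≫ e.hom.hom.hom = 1 := MonObj.one_comp _
  have h2 : φT = 1 := (cancel_mono e.hom.hom.hom).mp (h1.trans h0.symm)
  show φ = 1
  rw [← hφT, h2, MonObj.one_comp]

end Groth.Agent.RedSub30.Levi
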