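import Groth.Agent.RedSub30.ClosedRoots

/-!
# The symmetric and the remaining part of a closed set of roots
-/

set_option autoImplicit false

namespace Groth.Agent.RedSub30

open RootPairing

variable {ι M N : Type*} [AddCommGroup M] [AddCommGroup N]

/-- The roots of a set whose opposites are not in it. -/
abbrev remPart (P : RootPairing ι ℤ M N) (R : Set ι) : Set ι := {a | a ∈ R ∧ P.reflectionPerm a a ∉ R}

/-- The roots of a set whose opposites are in it. -/
abbrev symPart (P : RootPairing ι ℤ M N) (R : Set ι) : Set ι := {a | a ∈ R ∧ P.reflectionPerm a a ∈ R}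

variable [Finite ι] {P : RootPairing ι ℤ M N} {R : Set ι}

omit [Finite ι] in
theorem root_opp (a : ι) : P.root (P.reflectionPerm a a) = -P.root a := by
  rw [root_reflectionPerm, reflection_apply_self]

omit [Finite ι] in
theorem eq_opp {a c : ι} (h : P.root c = -P.root a) : c = P.reflectionPerm a a :=
  P.root.injective (h.trans (root_opp a).symm)

omit [Finite ι] in
theorem opp_opp (a : ι) : P.reflectionPerm (P.reflectionPerm a a) (P.reflectionPerm a a) = a :=
  (eq_opp (by rw [root_opp, neg_neg])).symm

omit [Finite ι] in
theorem symPart_opp {a : ι} (ha : a ∈ symPart P R) : P.reflectionPerm a a ∈ symPart P R :=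
  ⟨ha.2, by rw [opp_opp]; exact ha.1⟩

omit [Finite ι] in
theorem mem_or {a : ι} (ha : a ∈ R) : a ∈ symPart P R ∨ a ∈ remPart P R := by
  by_cases h : P.reflectionPerm a a ∈ R
  · exact Or.inl ⟨ha, h⟩
  · exact Or.inr ⟨ha, h⟩

omit [Finite ι] in
/-- Adding a root of a closed set to one of the remaining part stays in the remaining part. -/
theorem IsClosedSet.mem_rem (hR : IsClosedSet P R) {a b c : ι} (ha : a ∈ remPart P R) (hb : b ∈ R)
    (h : P.root a + P.root b = P.root c) : c ∈ remPart P R := by
  refine ⟨hR a b c ha.1 hb h, fun hc => ha.2 (hR b _ _ hb hc ?_)⟩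
  rw [root_opp, root_opp, ← h]
  abel

omit [Finite ι] in
theorem IsClosedSet.rem_isClosedSet (hR : IsClosedSet P R) : IsClosedSet P (remPart P R) :=
  fun _ _ _ ha hb h => hR.mem_rem ha hb.1 h

omit [Finite ι] in
theorem rem_no_opp (a c : ι) (ha : a ∈ remPart P R) (h : P.root c = -P.root a) : c ∉ remPart P R :=
  fun hc => ha.2 (eq_opp h ▸ hc.1)

/-- Strings through the remaining part stay in it. -/
theorem reflection_mem_of_add {Ψ : Set ι} {b : ι} (hadd : ∀ a c, a ∈ Ψ → P.root a + P.root b = P.root c → c ∈ Ψ)
    (hne : ∀ a ∈ Ψ, P.root a ≠ -P.root b) {a : ι} (ha : a ∈ Ψ) (h : P.pairing a b < 0) :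
    P.reflectionPerm b a ∈ Ψ := by
  induction hk : (-P.pairing a b).toNat using Nat.strong_induction_on generalizing a with
  | _ k ih =>
    obtain ⟨c, hc⟩ := P.root_add_root_mem_of_pairingIn_neg (i := a) (j := b) (by rwa [pairingIn_eq]) (hne a ha)
    have hcΨ : c ∈ Ψ := hadd a c ha hc.symm
    have hcb : P.pairing c b = P.pairing a b + 2 := by
      rw [← root_coroot'_eq_pairing, hc, map_add, root_coroot'_eq_pairing, root_coroot'_eq_pairing, pairing_same]
    have hs : P.root (P.reflectionPerm b a) = P.root a - P.pairing a b • P.root b := by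
      rw [root_reflectionPerm, reflection_apply_root]
    rcases lt_trichotomy (P.pairing c b) 0 with hlt | heq | hgt
    · refine hadd _ _ (ih _ (by omega) hcΨ hlt rfl) ?_
      rw [root_reflectionPerm, reflection_apply_root, hs, hc, hcb]
      simp only [add_smul, two_smul, two_zsmul]
      abel
    · have e : P.pairing a b = -2 := by omega
      refine hadd c _ hcΨ ?_
      rw [hs, hc, e]
      simp only [neg_smul, two_smul, two_zsmul]
      abel
    · have e : P.pairing a b = -1 := by omega
      suffices P.reflectionPerm b a = c by rwa [this]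
      apply P.root.injective
      rw [hs, hc, e]
      simp

/-- The reflections of the symmetric part preserve the remaining part. -/
theorem IsClosedSet.reflection_mem_rem (hR : IsClosedSet P R) {a b : ι} (ha : a ∈ remPart P R)
    (hb : b ∈ symPart P R) : P.reflectionPerm b a ∈ remPart P R := by
  have hne : ∀ b ∈ symPart P R, ∀ a ∈ remPart P R, P.root a ≠ -P.root b := fun b hb a ha h => by
    exact ha.2 (eq_opp (a := a) (c := b) (by rw [h, neg_neg]) ▸ hb.1)
  rcases lt_trichotomy (P.pairing a b) 0 with h | h | h
  · exact reflection_mem_of_add (fun x c hx hxc => hR.mem_rem hx hb.1 hxc) (hne b hb) ha h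
  · rwa [P.root.injective (show P.root (P.reflectionPerm b a) = P.root a by
      rw [root_reflectionPerm, reflection_apply_root, h, zero_smul, sub_zero])]
  · have hb' := symPart_opp hb
    have hp : P.pairing a (P.reflectionPerm b b) = -P.pairing a b := P.pairing_reflectionPerm_self_right a b
    have e : P.reflectionPerm b a = P.reflectionPerm (P.reflectionPerm b b) a := P.root.injective (by
      rw [root_reflectionPerm, reflection_apply_root, root_reflectionPerm, reflection_apply_root, root_opp, hp,
        neg_smul, smul_neg, neg_neg])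
    rw [e]
    exact reflection_mem_of_add (fun x c hx hxc => hR.mem_rem hx hb'.1 hxc) (hne _ hb') ha (by omega)

/-- A form killing the symmetric part and positive on the remaining part. -/
theorem IsClosedSet.exists_pos_rem (hR : IsClosedSet P R) : ∃ lam : M →ₗ[ℤ] ℤ,
    (∀ a ∈ symPart P R, lam (P.root a) = 0) ∧ ∀ a ∈ remPart P R, 0 < lam (P.root a) := by
  classical
  haveI := Fintype.ofFinite ι
  let v : M := ∑ a with a ∈ remPart P R, P.root a
  refine ⟨P.RootForm v, fun b hb => ?_, fun a ha => hR.rem_isClosedSet.rootForm_sum_pos rem_no_opp ha⟩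
  have hsum : P.coroot' b v = 0 := by
    simp only [v, map_sum, root_coroot'_eq_pairing]
    let s := Finset.univ.filter fun a => a ∈ remPart P R
    have hp : ∀ a, P.pairing (P.reflectionPerm b a) b = -P.pairing a b := fun a => by
      rw [← root_coroot'_eq_pairing, root_reflectionPerm, reflection_apply_root, map_sub, map_zsmul,
        root_coroot'_eq_pairing, root_coroot'_eq_pairing, pairing_same]
      simp; ring
    have h1 : ∑ a ∈ s, P.pairing a b = ∑ a ∈ s, -P.pairing a b := by
      refine Finset.sum_bij' (fun a _ => P.reflectionPerm b a) (fun a _ => P.reflectionPerm b a) ?_ ?_ ?_ ?_ ?_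
      · intro a ha
        simp only [s, Finset.mem_filter, Finset.mem_univ, true_and] at ha ⊢
        exact hR.reflection_mem_rem ha hb
      · intro a ha
        simp only [s, Finset.mem_filter, Finset.mem_univ, true_and] at ha ⊢
        exact hR.reflection_mem_rem ha hb
      · exact fun a _ => P.reflectionPerm_self b a
      · exact fun a _ => P.reflectionPerm_self b a
      · exact fun a _ => by rw [hp, neg_neg]
    rw [Finset.sum_neg_distrib] at h1
    show ∑ a ∈ s, P.pairing a b = 0
    omega
  have key := congrArg (P.toLinearMap v) (P.rootForm_self_smul_coroot b)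
  rw [map_zsmul, map_nsmul, toLinearMap_apply_apply_Polarization, smul_eq_mul, nsmul_eq_mul] at key
  have key' : P.RootForm (P.root b) (P.root b) * P.coroot' b v = 2 * P.RootForm (P.root b) v := key
  have hsym : P.RootForm v (P.root b) = P.RootForm (P.root b) v := by
    rw [rootForm_apply_apply, rootForm_apply_apply]
    simp [mul_comm]
  rw [hsym]
  rw [hsum, mul_zero] at key'
  omega

end Groth.Agent.RedSub30
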