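import Groth.Agent.Obs28.Radical
import Groth.Agent.Rank2Red38.DSVal
import Groth.Agent.GrpSchLib.UnramifiedFibre
import Groth.Agent.EtFound.SectionUnr
import Groth.Agent.GrpSchLib.MultTypeBC
import Groth.Agent.S5427

/-!
# Homomorphisms from groups without subtori to split tori, and schemes with trivial fibres
-/

set_option autoImplicit false
set_option synthInstance.maxHeartbeats 200000

universe u

open CategoryTheory CategoryTheory.Limits MonoidalCategory CartesianMonoidalCategory MonObj AlgebraicGeometry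

namespace Groth.Agent.RedSub30


/-- A smooth connected affine group without subtori has no non-trivial map to a diagonalisable group. -/
theorem eq_one_of_noSubtorus {k : Type u} [Field k] [IsAlgClosed k] {H : Over (Spec (CommRingCat.of k))} [GrpObj H]
    [IsAffine H.left] [Smooth H.hom] [ConnectedSpace H.left] (hH : Red.HasNoSubtorus k H) {M : Type}
    [AddCommGroup M] (y : H ⟶ Red.DS (Spec (CommRingCat.of k)) M) [IsMonHom y] : y = 1 := by
  haveI := Obs28.isReduced_grp H
  refine Rank2Red38.ds_ext fun m => ?_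
  haveI : IsMonHom (Red.chi (Spec (CommRingCat.of k)) m) := Groth.Agent.S5427.isMonHom_DSmap _ _
  have h0 : (1 : H ⟶ Red.DS (Spec (CommRingCat.of k)) M) ≫ Red.chi (Spec (CommRingCat.of k)) m = 1 :=
    MonObj.one_comp _
  rw [← Rank2Red38.gmFn_chi, ← Rank2Red38.gmFn_chi, h0, GmPts.gmFn_one]
  refine Obs28.ext_pts fun g => ?_
  have h1 := Obs28.char_eq_one hH (𝟙 H) (y ≫ Red.chi _ m) g
  rw [Category.comp_id] at h1
  rw [map_one]
  exact h1

/-- A homomorphism to a split torus from a group whose geometric fibre has no subtorus vanishes on that fibre. -/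
theorem geomFibre_map_eq_one {S : Scheme.{u}} {U T : Over S} [GrpObj U] [GrpObj T] {M : Type} [AddCommGroup M]
    (eT : Grp.mk T ≅ Grp.mk (Red.DS S M)) (ψ : U ⟶ T) [IsMonHom ψ] [IsAffineHom U.hom] [Smooth U.hom] (s : S)
    (hconn : ConnectedSpace (Red.geomFibre s U).left)
    (hno : Red.HasNoSubtorus (AlgebraicClosure (S.residueField s)) (Red.geomFibre s U)) :
    (Over.pullback (Red.geomPt s)).map ψ = 1 := by
  obtain ⟨e₁⟩ := GrpSchLib.MultTypeBC.bc_iso (Red.geomPt s) eT
  obtain ⟨e₂⟩ := GrpSchLib.MultTypeBC.bc_DS (Red.geomPt s) M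
  let e := e₁ ≪≫ e₂
  haveI : IsMonHom e.hom.hom.hom := e.hom.hom.isMonHom_hom
  haveI := hconn
  haveI : Smooth (Red.geomFibre s U).hom := MorphismProperty.pullback_snd _ _ ‹_›
  haveI : IsAffineHom (Red.geomFibre s U).hom := MorphismProperty.pullback_snd _ _ ‹_›
  haveI : IsAffine (Red.geomFibre s U).left := isAffine_of_isAffineHom (Red.geomFibre s U).hom
  have h1 := eq_one_of_noSubtorus hno ((Over.pullback (Red.geomPt s)).map ψ ≫ e.hom.hom.hom)
  haveI : IsIso e.hom.hom.hom := ⟨e.inv.hom.hom, congrArg (fun k => k.hom.hom) e.hom_inv_id,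
    congrArg (fun k => k.hom.hom) e.inv_hom_id⟩
  have h0 : (1 : Red.geomFibre s U ⟶ Red.geomFibre s T) ≫ e.hom.hom.hom = 1 := MonObj.one_comp _
  exact (cancel_mono e.hom.hom.hom).mp (h1.trans h0.symm)

/-- A scheme with a section whose fibres are spectra of the residue fields is the base. -/
theorem isIso_of_fibres {X S : Scheme.{u}} (p : X ⟶ S) [LocallyOfFiniteType p] (e : S ⟶ X) (he : e ≫ p = 𝟙 S)
    (h : ∀ s : S, IsIso (p.fiberToSpecResidueField s)) : IsIso p := by
  haveI : FormallyUnramified p := GrpSchLib.formallyUnramified_of_fibres p fun s => by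
    haveI := h s
    infer_instance
  haveI := EtFound.isOpenImmersion_section p e he
  haveI : Surjective e := ⟨fun z => by
    refine ⟨p.base z, ?_⟩
    let s := p.base z
    haveI := h s
    haveI : Subsingleton (p.fiber s) :=
      (asIso (p.fiberToSpecResidueField s)).hom.homeomorph.injective.subsingleton
    obtain ⟨a, ha⟩ : z ∈ Set.range (p.fiberι s).base := by
      rw [Scheme.Hom.range_fiberι]; rfl
    obtain ⟨b, hb⟩ : e.base s ∈ Set.range (p.fiberι s).base := by
      rw [Scheme.Hom.range_fiberι, Set.mem_preimage, ← Scheme.Hom.comp_apply, he]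
      rfl
    show e.base s = z
    rw [← ha, ← hb, Subsingleton.elim a b]⟩
  haveI : IsIso e := (isIso_iff_isOpenImmersion_and_surjective e).mpr ⟨inferInstance, inferInstance⟩
  haveI : IsIso (e ≫ p) := by rw [he]; infer_instance
  exact IsIso.of_isIso_comp_left e p

end Groth.Agent.RedSub30
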