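import Groth.Agent.RedSub30.TypeRBorel
import Groth.Agent.RedSub30.TypeRTrivial

/-!
# The unipotent radical of a subgroup of type (R) with positive root set
-/

set_option autoImplicit false
set_option synthInstance.maxHeartbeats 100000

universe u

open CategoryTheory CategoryTheory.Limits MonoidalCategory CartesianMonoidalCategory AlgebraicGeometry WithConv
open scoped MonObj AddMonoidAlgebra

namespace Groth.Agent.RedSub30

open BigCell29 GrpSchLib.AffineHopf

/-- A closed subscheme containing a schematically dense part of an affine test object contains all of it. -/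
theorem exists_factor_of_injective {Z Y : Scheme.{u}} (c : Z ⟶ Y) [IsClosedImmersion c] {P Q : CommRingCat.{u}}
    (φ : P ⟶ Q) (hφ : Function.Injective φ.hom) (y : Spec P ⟶ Y) (z : Spec Q ⟶ Z) (w : Spec.map φ ≫ y = z ≫ c) :
    ∃ l : Spec P ⟶ Z, l ≫ c = y := by
  let c' := pullback.fst y c
  haveI : IsClosedImmersion c' := MorphismProperty.pullback_fst _ _ inferInstance
  let l0 : Spec Q ⟶ pullback y c := pullback.lift (Spec.map φ) z w
  have h1 : Function.Injective (Spec.map φ).appTop := by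
    intro a b hab
    have e : ∀ x : Γ(Spec P, ⊤), (Scheme.ΓSpecIso Q).hom ((Spec.map φ).appTop x) = φ ((Scheme.ΓSpecIso P).hom x) :=
      fun x => congrArg (fun q : Γ(Spec P, ⊤) ⟶ Q => q x) (Scheme.ΓSpecIso_naturality φ)
    exact (Scheme.ΓSpecIso P).commRingCatIsoToRingEquiv.injective (hφ ((e a).symm.trans
      ((congrArg _ hab).trans (e b))))
  have h2 : Function.Injective c'.appTop := by
    intro a b hab
    refine h1 ?_
    rw [show Spec.map φ = l0 ≫ c' from (pullback.lift_fst _ _ _).symm, Scheme.Hom.comp_appTop]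
    exact congrArg l0.appTop hab
  haveI : IsIso c' := IsClosedImmersion.isIso_of_injective_of_isAffine h2
  refine ⟨inv c' ≫ pullback.snd y c, ?_⟩
  rw [Category.assoc, ← pullback.condition, IsIso.inv_hom_id_assoc]

variable {S : Scheme.{u}} {G H : Over S} [GrpObj G] [GrpObj H] (D : Red.SplitRed G) (h : H ⟶ G)
  [IsMonHom h] [IsImmersion h.left] [QuasiCompact h.left] [Smooth H.hom] (t : D.T ⟶ H) (ht : t ≫ h = D.i)
  {R' : Set D.idx} (hR' : ∀ a : D.idx, (∃ v : Red.Ga S ⟶ H, v ≫ h = D.u a) ↔ a ∈ R')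
  (lam : D.M →+ ℤ) [ConnectedSpace S] {m : ℕ} {e : Fin m → D.idx} (he : RedSub.Enumerates R' e)
  (hpos : ∀ a ∈ R', 0 < lam (D.P.root a))
  (v : RedSub.pow (Red.Ga S) m ⟶ H) (hv : v ≫ h = RedSub.prodMap (Red.Ga S) m (fun k => D.u (e k)))
  (hM : IsIso ((t ⊗ₘ v) ≫ μ[H]))

include t ht v hv hM

omit hR' he hpos [ConnectedSpace S] [QuasiCompact h.left] [Smooth H.hom] in
/-- The torus and root coordinates of a point of the subgroup. -/
theorem exists_borelPt {R : Type u} [CommRing R] {f : Spec (CommRingCat.of R) ⟶ S} [IsOpenImmersion f]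
    {A : Type u} [CommRing A] [HopfAlgebra R A] (Md : Model f G A) {B : Type u} [CommRing B] [Algebra R B]
    (w : tObj f B ⟶ H) : ∃ (χ : Multiplicative D.M →* B) (x : Fin m → B),
      Md.pt ((Md.frame D).T.tor χ) = (w ≫ inv ((t ⊗ₘ v) ≫ μ[H]) ≫ fst _ _) ≫ D.i ∧
      Md.pt ((Md.frame D).T.tor χ * (Md.frame D).prodPt e x) = w ≫ h ∧
      powPt f x = w ≫ inv ((t ⊗ₘ v) ≫ μ[H]) ≫ snd _ _ := by
  set F := Md.frame D
  let w' := w ≫ inv ((t ⊗ₘ v) ≫ μ[H])
  obtain ⟨χ, hχ⟩ := (chPt_bijective f).surjective ((w' ≫ fst _ _) ≫ D.split.hom.hom.hom)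
  have hχ' : Md.pt (F.T.tor χ) = (w' ≫ fst _ _) ≫ D.i := by
    rw [Md.pt_tor, torG, hχ, Category.assoc (w' ≫ _), ← Category.assoc D.split.hom.hom.hom,
      show D.split.hom.hom.hom ≫ D.split.inv.hom.hom = 𝟙 D.T from
        congrArg (fun k => k.hom.hom) D.split.hom_inv_id, Category.id_comp]
  obtain ⟨x, hx⟩ := (powPt_bijective m).surjective (w' ≫ snd _ _)
  refine ⟨χ, x, by simpa [w'] using hχ', ?_, by simpa [w'] using hx⟩
  rw [Md.pt_mul, hχ', ← Md.powPt_prodMap, hx]
  show (w' ≫ fst _ _) ≫ D.i * (w' ≫ snd _ _) ≫ RedSub.prodMap (Red.Ga S) m (fun k => D.u (e k)) = w ≫ h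
  rw [Category.assoc w', Category.assoc w', ← MonObj.comp_mul]
  show w' ≫ RedSub.borelMap D e = w ≫ h
  rw [← mul_comp_eq D h t ht v hv]
  show (w ≫ inv ((t ⊗ₘ v) ≫ μ[H])) ≫ ((t ⊗ₘ v) ≫ μ[H]) ≫ h = w ≫ h
  rw [Category.assoc w, IsIso.inv_hom_id_assoc]

include hR' he hpos

/-- The products are normal in the subgroup. -/
theorem exists_conj {X : Over S} (g : X ⟶ H) (n : X ⟶ RedSub.pow (Red.Ga S) m) :
    ∃ n' : X ⟶ RedSub.pow (Red.Ga S) m, g * (n ≫ v) * g⁻¹ = n' ≫ v := by
  haveI : Mono h := ⟨fun a b hab => Over.OverMorphism.ext ((cancel_mono h.left).mp (congrArg CommaMorphism.left hab))⟩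
  obtain ⟨n', hn'⟩ := exists_prod_factor D h t ht hR' lam he hpos ((g * (n ≫ v) * g⁻¹) ≫ h)
    fun R _ f _ B _ _ A _ _ Md j => by
    set F := Md.frame D
    have hm : ∀ l, e l ∈ R' := fun l => he.2 ▸ Set.mem_range_self l
    obtain ⟨χ, x, -, hg, -⟩ := exists_borelPt D h t ht v hv hM Md (j ≫ g)
    obtain ⟨y, hy⟩ := (powPt_bijective m).surjective (j ≫ n)
    have hP : ∀ z : Fin m → B, F.prodPt e z ∈ (subPts h Md).mem B ∧ (F.cochar lam).InU (F.prodPt e z) := fun z =>
      ⟨prodPt_mem (W := subPts h Md) _ (fun l => full_of_mem D h hR' Md (hm l)) z,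
        F.prodPt_inU lam _ (fun l => hpos _ (hm l)) z⟩
    have htor : F.T.tor χ ∈ (subPts h Md).mem B := tor_mem D h t ht Md B χ
    refine ⟨F.T.tor χ * (F.prodPt e x * F.prodPt e y * (F.prodPt e x)⁻¹) * (F.T.tor χ)⁻¹, ?_,
      (mul_mem (mul_mem htor (mul_mem (mul_mem (hP x).1 (hP y).1) (inv_mem (hP x).1))) (inv_mem htor) :
        _ ∈ (subPts h Md).mem B),
      Coact.InU.conj _ (F.cochar_inZ_tor lam χ)
        (Coact.InU.mul _ (Coact.InU.mul _ (hP x).2 (hP y).2) (Coact.InU.inv _ (hP x).2))⟩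
    have hnv : Md.pt (F.prodPt e y) = (j ≫ n ≫ v) ≫ h := by
      rw [← Md.powPt_prodMap, hy, Category.assoc, Category.assoc, Category.assoc, hv]
    rw [show F.T.tor χ * (F.prodPt e x * F.prodPt e y * (F.prodPt e x)⁻¹) * (F.T.tor χ)⁻¹ =
      (F.T.tor χ * F.prodPt e x) * F.prodPt e y * (F.T.tor χ * F.prodPt e x)⁻¹ by group, Md.pt_mul, Md.pt_mul,
      Md.pt_inv, hg, hnv]
    simp only [MonObj.comp_mul, MonObj.mul_comp, GrpObj.comp_inv, GrpObj.inv_comp, Category.assoc]
  exact ⟨n', (cancel_mono h).mp (by rw [Category.assoc, hv, hn'])⟩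

omit hR' he hpos hM [ConnectedSpace S] [QuasiCompact h.left] [Smooth H.hom] in
theorem isMonHom_torus : IsMonHom t := by
  haveI : Mono h := ⟨fun a b hab => Over.OverMorphism.ext ((cancel_mono h.left).mp (congrArg CommaMorphism.left hab))⟩
  haveI : IsMonHom (t ≫ h) := by rw [ht]; infer_instance
  constructor
  · rw [← cancel_mono h, Category.assoc, IsMonHom.one_hom (t ≫ h), IsMonHom.one_hom h]
  · rw [← cancel_mono h, Category.assoc, IsMonHom.mul_hom (t ≫ h), Category.assoc, IsMonHom.mul_hom h,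
      ← Category.assoc, tensorHom_comp_tensorHom]

variable [GrpObj (RedSub.pow (Red.Ga S) m)] [IsMonHom (RedSub.prodMap (Red.Ga S) m (fun k => D.u (e k)))]

omit hR' he hpos hM [ConnectedSpace S] [QuasiCompact h.left] [Smooth H.hom] in
theorem isMonHom_unip : IsMonHom v := by
  haveI : Mono h := ⟨fun a b hab => Over.OverMorphism.ext ((cancel_mono h.left).mp (congrArg CommaMorphism.left hab))⟩
  haveI : IsMonHom (v ≫ h) := by rw [hv]; infer_instance
  constructor
  · rw [← cancel_mono h, Category.assoc, IsMonHom.one_hom (v ≫ h), IsMonHom.one_hom h]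
  · rw [← cancel_mono h, Category.assoc, IsMonHom.mul_hom (v ≫ h), Category.assoc, IsMonHom.mul_hom h,
      ← Category.assoc, tensorHom_comp_tensorHom]

/-- The projection to the torus is a homomorphism. -/
theorem proj_mul {X : Over S} (g₁ g₂ : X ⟶ H) :
    (g₁ * g₂) ≫ inv ((t ⊗ₘ v) ≫ μ[H]) ≫ fst _ _ =
      (g₁ ≫ inv ((t ⊗ₘ v) ≫ μ[H]) ≫ fst _ _) * (g₂ ≫ inv ((t ⊗ₘ v) ≫ μ[H]) ≫ fst _ _) := by
  haveI := isMonHom_torus D h t ht v hv
  haveI := isMonHom_unip D h t ht v hv
  have hval : ∀ p : X ⟶ D.T ⊗ RedSub.pow (Red.Ga S) m,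
      p ≫ ((t ⊗ₘ v) ≫ μ[H]) = ((p ≫ fst _ _) ≫ t) * ((p ≫ snd _ _) ≫ v) := fun p => by
    rw [CategoryTheory.Hom.mul_def, ← Category.assoc p]
    congr 1
    ext <;> simp
  set M := (t ⊗ₘ v) ≫ μ[H]
  set p₁ := g₁ ≫ inv M
  set p₂ := g₂ ≫ inv M
  have e₁ : g₁ = ((p₁ ≫ fst _ _) ≫ t) * ((p₁ ≫ snd _ _) ≫ v) := by rw [← hval]; simp [p₁]
  have e₂ : g₂ = ((p₂ ≫ fst _ _) ≫ t) * ((p₂ ≫ snd _ _) ≫ v) := by rw [← hval]; simp [p₂]
  obtain ⟨n', hn'⟩ := exists_conj D h t ht hR' lam he hpos v hv hM ((p₂ ≫ fst _ _)⁻¹ ≫ t) (p₁ ≫ snd _ _)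
  let p : X ⟶ D.T ⊗ RedSub.pow (Red.Ga S) m :=
    lift ((p₁ ≫ fst _ _) * (p₂ ≫ fst _ _)) (n' * (p₂ ≫ snd _ _))
  have e : p ≫ M = g₁ * g₂ := by
    rw [hval, lift_fst, lift_snd, MonObj.mul_comp, MonObj.mul_comp, ← hn', e₁, e₂, GrpObj.inv_comp]
    group
  rw [← e]
  show (p ≫ M) ≫ inv M ≫ fst _ _ = _
  rw [Category.assoc, IsIso.hom_inv_id_assoc, lift_fst]
  simp only [p₁, p₂, Category.assoc]
  rfl

theorem isMonHom_proj : IsMonHom (inv ((t ⊗ₘ v) ≫ μ[H]) ≫ fst D.T (RedSub.pow (Red.Ga S) m)) := by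
  set π := inv ((t ⊗ₘ v) ≫ μ[H]) ≫ fst D.T (RedSub.pow (Red.Ga S) m)
  have key := proj_mul D h t ht hR' lam he hpos v hv hM (1 : 𝟙_ (Over S) ⟶ H) 1
  rw [one_mul] at key
  refine ⟨?_, ?_⟩
  · rw [MonObj.one_eq_one, MonObj.one_eq_one]
    exact (mul_eq_left.mp key.symm)
  · have key2 := proj_mul D h t ht hR' lam he hpos v hv hM (fst H H) (snd H H)
    rw [show fst H H * snd H H = μ[H] by
      rw [CategoryTheory.Hom.mul_def, lift_fst_snd, Category.id_comp]] at key2
    refine key2.trans ?_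
    rw [CategoryTheory.Hom.mul_def]
    congr 1

variable {U' : Over S} [GrpObj U'] (u' : U' ⟶ H) [IsMonHom u'] [IsClosedImmersion u'.left] [Smooth U'.hom]
  (hnorm : AlgGrp.IsNormalHom u')
include hnorm

/-- A normal closed subgroup contains the torus parts of its points. -/
theorem exists_torus_part : ∃ r : U' ⟶ U', r ≫ u' = (u' ≫ inv ((t ⊗ₘ v) ≫ μ[H]) ≫ fst _ _) ≫ t := by
  classical
  haveI : Mono h := ⟨fun a b hab => Over.OverMorphism.ext ((cancel_mono h.left).mp (congrArg CommaMorphism.left hab))⟩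
  haveI : IsImmersion (u' ≫ h).left := by rw [Over.comp_left]; infer_instance
  obtain ⟨r, hr⟩ := exists_factor_of_pts (u' ≫ h) (((u' ≫ inv ((t ⊗ₘ v) ≫ μ[H]) ≫ fst _ _) ≫ t) ≫ h)
    fun R _ f _ B _ _ j => by
    haveI : IsAffineHom G.hom := D.reductive.1
    obtain ⟨A, _, _, ⟨Md⟩⟩ := exists_model f G
    set F := Md.frame D
    obtain ⟨χ, x, hχ, hx, -⟩ := exists_borelPt D h t ht v hv hM Md (j ≫ u')
    have hm : ∀ l, e l ∈ R' := fun l => he.2 ▸ Set.mem_range_self l
    -- the family interpolating between the point and its torus part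
    let n : Fin m → ℤ := fun l => lam (D.P.root (e l))
    let z : Fin m → nonneg R B := fun l => ⟨AddMonoidAlgebra.single (n l) (x l), fun k hk => by
      have : (0 : ℤ) < n l := hpos _ (hm l)
      rw [AddMonoidAlgebra.coeff_single, Finsupp.single_apply, if_neg (by omega)]⟩
    let gX : Pt R A (nonneg R B) :=
      F.T.tor ((cst0 R B).toRingHom.toMonoidHom.comp χ) * F.prodPt e z
    obtain ⟨yX, hyX⟩ : InSub h Md gX := (mul_mem
      (tor_mem D h t ht Md _ _ : F.T.tor ((cst0 R B).toRingHom.toMonoidHom.comp χ) ∈ (subPts h Md).mem _)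
      (prodPt_mem (W := subPts h Md) _ (fun l => full_of_mem D h hR' Md (hm l)) z) :
        gX ∈ (subPts h Md).mem (nonneg R B))
    let c : B →ₐ[R] B[ℤ] := AddMonoidAlgebra.singleZeroAlgHom
    let ν : Multiplicative D.M →* B[ℤ] := (AddMonoidAlgebra.of B ℤ).comp lam.toMultiplicative
    obtain ⟨tν, htν⟩ : InSub h Md (F.T.tor ν) := tor_mem D h t ht Md _ ν
    obtain ⟨w, hw⟩ := hnorm _ tν (tMap f c ≫ j)
    have hval : mapPt (nonneg R B).val gX = F.T.tor ν * mapPt c (F.T.tor χ * F.prodPt e x) * (F.T.tor ν)⁻¹ := by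
      rw [map_mul, map_mul, F.T.mapPt_tor, F.T.mapPt_tor, F.mapPt_prodPt, F.mapPt_prodPt,
        show (nonneg R B).val.toRingHom.toMonoidHom.comp ((cst0 R B).toRingHom.toMonoidHom.comp χ) =
          c.toRingHom.toMonoidHom.comp χ from MonoidHom.ext fun a => rfl]
      have e1 : F.prodPt e ((nonneg R B).val ∘ z) = F.T.tor ν * F.prodPt e (c ∘ x) * (F.T.tor ν)⁻¹ := by
        rw [conj_prodPt]
        refine congrArg (F.prodPt e) (funext fun l => ?_)
        show AddMonoidAlgebra.single (n l) (x l) =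
          AddMonoidAlgebra.single (lam (D.P.root (e l))) (1 : B) * AddMonoidAlgebra.single 0 (x l)
        rw [AddMonoidAlgebra.single_mul_single, add_zero, one_mul]
      rw [e1, ← mul_assoc, ← mul_assoc, ← mul_assoc (F.T.tor ν), ← map_mul F.T.tor, ← map_mul F.T.tor,
        mul_comm (c.toRingHom.toMonoidHom.comp χ) ν]
    have hwX : tMap f (nonneg R B).val ≫ yX = w ≫ u' := by
      rw [← cancel_mono h, ← hw, Category.assoc, hyX, ← Md.pt_map, hval, Md.pt_mul, Md.pt_mul, Md.pt_inv, ← htν,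
        Md.pt_map, hx, MonObj.mul_comp, MonObj.mul_comp, GrpObj.inv_comp, Category.assoc, Category.assoc,
        Category.assoc]
    obtain ⟨l, hl⟩ := exists_factor_of_injective u'.left (CommRingCat.ofHom (nonneg R B).val.toRingHom)
      Subtype.val_injective yX.left w.left (congrArg CommaMorphism.left hwX)
    let lX : tObj f (nonneg R B) ⟶ U' := Over.homMk l (by rw [← Over.w u', reassoc_of% hl, Over.w yX])
    have hlX : lX ≫ u' = yX := Over.OverMorphism.ext hl
    refine ⟨tMap f (ev0 R B) ≫ lX, ?_⟩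
    rw [Category.assoc, reassoc_of% hlX, hyX, ← Md.pt_map, map_mul, F.T.mapPt_tor, F.mapPt_prodPt,
      show (ev0 R B).toRingHom.toMonoidHom.comp ((cst0 R B).toRingHom.toMonoidHom.comp χ) = χ from
        MonoidHom.ext fun a => ev0_cst0 (R := R) (χ a),
      show ev0 R B ∘ z = 0 from funext fun l => by
        have : (0 : ℤ) < n l := hpos _ (hm l)
        show (AddMonoidAlgebra.single (n l) (x l)).coeff 0 = 0
        rw [AddMonoidAlgebra.coeff_single, Finsupp.single_apply, if_neg (by omega)],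
      prodPt_zero, mul_one, hχ]
    simp only [Category.assoc, ht]
  exact ⟨r, (cancel_mono h).mp (by rw [Category.assoc, hr])⟩

/-- A normal smooth subgroup with connected fibres without subtori maps trivially to the torus. -/
theorem proj_eq_one (hfib : ∀ s : S, ConnectedSpace (Red.geomFibre s U').left ∧
    Red.HasNoSubtorus (AlgebraicClosure (S.residueField s)) (Red.geomFibre s U')) :
    u' ≫ inv ((t ⊗ₘ v) ≫ μ[H]) ≫ fst D.T (RedSub.pow (Red.Ga S) m) = 1 := by
  haveI := isMonHom_torus D h t ht v hv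
  haveI := isMonHom_proj D h t ht hR' lam he hpos v hv hM
  set π := inv ((t ⊗ₘ v) ≫ μ[H]) ≫ fst D.T (RedSub.pow (Red.Ga S) m)
  obtain ⟨r, hr⟩ := exists_torus_part D h t ht hR' lam he hpos v hv hM u' hnorm
  obtain ⟨w, hw⟩ := exists_prod_factor D h t ht hR' lam he hpos (1 : D.T ⟶ G) fun R _ f _ B _ _ A _ _ Md j =>
    ⟨1, by rw [MonObj.comp_one]; exact Md.pt_one, one_mem ((subPts h Md).mem B), Coact.inU_one _⟩
  have htπ : t ≫ π = 𝟙 D.T := by
    have e1 : t = lift (𝟙 D.T) w ≫ ((t ⊗ₘ v) ≫ μ[H]) := by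
      haveI : Mono h := ⟨fun a b hab =>
        Over.OverMorphism.ext ((cancel_mono h.left).mp (congrArg CommaMorphism.left hab))⟩
      rw [← cancel_mono h, Category.assoc, mul_comp_eq D h t ht v hv, ht, RedSub.borelMap, MonObj.comp_mul,
        lift_fst_assoc, lift_snd_assoc, Category.id_comp, hw, mul_one]
    show t ≫ inv ((t ⊗ₘ v) ≫ μ[H]) ≫ fst _ _ = 𝟙 D.T
    refine (congrArg (· ≫ inv ((t ⊗ₘ v) ≫ μ[H]) ≫ fst _ _) e1).trans ?_
    rw [Category.assoc, IsIso.hom_inv_id_assoc, lift_fst]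
  haveI : IsAffineHom D.T.hom := by
    haveI : IsIso D.split.hom.hom.hom := ((Grp.forget _).mapIso D.split).isIso_hom
    haveI : IsIso D.split.hom.hom.hom.left := inferInstanceAs (IsIso ((Over.forget _).map D.split.hom.hom.hom))
    rw [← Over.w D.split.hom.hom.hom]
    haveI := isAffineHom_DS (S := S) D.M
    infer_instance
  haveI : IsAffineHom H.hom := by
    haveI := isAffineHom_pow (S := S) m
    haveI := isAffineHom_tensor D.T (RedSub.pow (Red.Ga S) m)
    haveI : IsIso (inv ((t ⊗ₘ v) ≫ μ[H])).left :=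
      inferInstanceAs (IsIso ((Over.forget _).map (inv ((t ⊗ₘ v) ≫ μ[H]))))
    rw [← Over.w (inv ((t ⊗ₘ v) ≫ μ[H]))]
    infer_instance
  haveI : IsAffineHom U'.hom := by rw [← Over.w u']; infer_instance
  haveI : Mono u' := ⟨fun a b hab => Over.OverMorphism.ext ((cancel_mono u'.left).mp (congrArg CommaMorphism.left hab))⟩
  -- the scheme of points of the subgroup in the torus
  let K : Over S := Over.mk (pullback.fst u'.left t.left ≫ U'.hom)
  let k₁ : K ⟶ U' := Over.homMk (pullback.fst _ _) rfl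
  let k₂ : K ⟶ D.T := Over.homMk (pullback.snd _ _) (by
    show _ = pullback.fst _ _ ≫ U'.hom
    rw [← Over.w u', pullback.condition_assoc, Over.w t])
  have hk : k₁ ≫ u' = k₂ ≫ t := Over.OverMorphism.ext pullback.condition
  have hk₂ : k₁ ≫ u' ≫ π = k₂ := by rw [reassoc_of% hk, htπ, Category.comp_id]
  have hkinj : ∀ {X : Over S} (a b : X ⟶ K), a ≫ k₁ = b ≫ k₁ → a = b := fun a b hab => by
    refine Over.OverMorphism.ext (pullback.hom_ext (congrArg CommaMorphism.left hab) ?_)
    have := congrArg (fun q => q ≫ u' ≫ π) hab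
    simp only [Category.assoc, hk₂] at this
    exact congrArg CommaMorphism.left this
  haveI : LocallyOfFiniteType D.T.hom := by
    haveI : IsIso D.split.hom.hom.hom := ((Grp.forget _).mapIso D.split).isIso_hom
    haveI : IsIso D.split.hom.hom.hom.left := inferInstanceAs (IsIso ((Over.forget _).map D.split.hom.hom.hom))
    rw [← Over.w D.split.hom.hom.hom]
    haveI := locallyOfFinitePresentation_DS (S := S) D.M
    infer_instance
  haveI : LocallyOfFiniteType t.left := by
    haveI : LocallyOfFiniteType (t.left ≫ H.hom) := by rw [Over.w t]; infer_instance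
    exact locallyOfFiniteType_of_comp t.left H.hom
  haveI : LocallyOfFiniteType K.hom := by
    haveI : LocallyOfFiniteType (pullback.fst u'.left t.left) := MorphismProperty.pullback_fst _ _ inferInstance
    haveI : LocallyOfFiniteType U'.hom := inferInstance
    show LocallyOfFiniteType (pullback.fst u'.left t.left ≫ U'.hom)
    infer_instance
  let e0 : 𝟙_ (Over S) ⟶ K := Over.homMk (pullback.lift (1 : 𝟙_ (Over S) ⟶ U').left (1 : 𝟙_ (Over S) ⟶ D.T).left
    (by rw [← Over.comp_left, ← Over.comp_left, MonObj.one_comp, MonObj.one_comp])) (by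
      show pullback.lift _ _ _ ≫ pullback.fst _ _ ≫ U'.hom = _
      rw [pullback.lift_fst_assoc]
      exact Over.w (1 : 𝟙_ (Over S) ⟶ U'))
  have he0 : e0 ≫ k₁ = 1 := Over.OverMorphism.ext (pullback.lift_fst _ _ _)
  -- two points of `K` over a field agree
  have hfield : ∀ (s : S) (P : Over S) (q : P.left ⟶ Spec (CommRingCat.of (AlgebraicClosure (S.residueField s)))),
      q ≫ Red.geomPt s = P.hom → ∀ a : P ⟶ K, a ≫ k₁ = 1 := by
    intro s P q hq a
    have htriv := geomFibre_map_eq_one D.split (u' ≫ π) s (hfib s).1 (hfib s).2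
    have hU : (a ≫ k₁) ≫ u' ≫ π = 1 := by
      let a₁ : P.left ⟶ pullback U'.hom (Red.geomPt s) :=
        pullback.lift (a ≫ k₁).left q (by rw [Over.w (a ≫ k₁), hq])
      have e1 : ∀ g : U' ⟶ D.T, a₁ ≫ ((Over.pullback (Red.geomPt s)).map g).left ≫ pullback.fst D.T.hom _ =
          ((a ≫ k₁) ≫ g).left := by
        intro g
        rw [Over.comp_left]
        erw [pullback.lift_fst]
        erw [pullback.lift_fst_assoc]
      refine Over.OverMorphism.ext ?_
      rw [← e1 (u' ≫ π), htriv, ← Functor.map_one (Over.pullback (Red.geomPt s)), e1, MonObj.comp_one]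
    have h2 : a ≫ k₂ = 1 := by rw [← hk₂, ← Category.assoc, hU]
    rw [← cancel_mono u', Category.assoc, hk, ← Category.assoc, h2, MonObj.one_comp, MonObj.one_comp]
  have hiso : IsIso K.hom := by
    refine isIso_of_fibres K.hom e0.left (Over.w e0) fun s => ?_
    haveI : Mono (K.hom.fiberToSpecResidueField s) := by
      refine ⟨fun {Z} a b hab => ?_⟩
      let ext : Spec (CommRingCat.of (AlgebraicClosure (S.residueField s))) ⟶ Spec (S.residueField s) :=
        Spec.map (CommRingCat.ofHom (algebraMap (S.residueField s) (AlgebraicClosure (S.residueField s))))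
      let c := a ≫ K.hom.fiberToSpecResidueField s
      let p := pullback.fst c ext
      haveI : Surjective ext := ⟨fun z => ⟨IsLocalRing.closedPoint _, Subsingleton.elim _ _⟩⟩
      haveI : Flat ext := by
        rw [HasRingHomProperty.Spec_iff (P := @Flat)]
        exact RingHom.flat_algebraMap_iff.mpr inferInstance
      haveI : Flat p := MorphismProperty.pullback_fst _ _ inferInstance
      haveI : Surjective p := MorphismProperty.pullback_fst _ _ inferInstance
      haveI := Flat.epi_of_flat_of_surjective p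
      refine pullback.hom_ext ((cancel_epi p).mp ?_) hab
      let P : Over S := Over.mk ((p ≫ c) ≫ S.fromSpecResidueField s)
      have hq : pullback.snd c ext ≫ Red.geomPt s = P.hom := by
        show pullback.snd c ext ≫ ext ≫ _ = (p ≫ c) ≫ _
        rw [← Category.assoc, ← pullback.condition]
      let a' : P ⟶ K := Over.homMk (p ≫ a ≫ K.hom.fiberι s) (by
        show _ = (p ≫ c) ≫ _
        simp only [c, Category.assoc]
        exact congrArg (p ≫ a ≫ ·) pullback.condition)
      let b' : P ⟶ K := Over.homMk (p ≫ b ≫ K.hom.fiberι s) (by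
        show _ = (p ≫ c) ≫ _
        simp only [c, Category.assoc]
        rw [reassoc_of% hab]
        exact congrArg (p ≫ b ≫ ·) pullback.condition)
      exact congrArg CommaMorphism.left
        (hkinj a' b' ((hfield s P _ hq a').trans (hfield s P _ hq b').symm))
    let σ : Spec (S.residueField s) ⟶ K.hom.fiber s :=
      pullback.lift (S.fromSpecResidueField s ≫ e0.left) (𝟙 _) (by
        rw [Category.assoc, Over.w e0]; exact (Category.comp_id _).trans (Category.id_comp _).symm)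
    exact ⟨σ, (cancel_mono (K.hom.fiberToSpecResidueField s)).mp (by
      rw [Category.assoc, show σ ≫ K.hom.fiberToSpecResidueField s = 𝟙 _ from pullback.lift_snd _ _ _,
        Category.comp_id, Category.id_comp]), pullback.lift_snd _ _ _⟩
  haveI := hiso
  let x : U' ⟶ K := Over.homMk (pullback.lift r.left (u' ≫ π).left (congrArg CommaMorphism.left hr)) (by
    show pullback.lift _ _ _ ≫ pullback.fst _ _ ≫ U'.hom = _
    rw [pullback.lift_fst_assoc]
    exact Over.w r)
  have hx : x = toUnit U' ≫ e0 := Over.OverMorphism.ext ((cancel_mono K.hom).mp (by rw [Over.w, Over.w]))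
  have := congrArg (fun q => q ≫ k₁ ≫ u' ≫ π) hx
  simp only [hk₂, Category.assoc] at this
  refine (Over.OverMorphism.ext (pullback.lift_snd _ _ _) : x ≫ k₂ = u' ≫ π).symm.trans (this.trans ?_)
  rw [← hk₂, reassoc_of% he0, ← Category.assoc, MonObj.comp_one, MonObj.one_comp]

end Groth.Agent.RedSub30
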