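import Groth.Agent.RedSub30.LeviValuation
import Groth.Agent.RedSub30.LeviRoots
import Groth.Agent.RedSub30.TypeRRadical

/-!
# The valuative property of subgroups of type (R) whose root set has a polarised remaining part
-/

set_option autoImplicit false
set_option maxHeartbeats 1000000
set_option synthInstance.maxHeartbeats 100000

universe u

open CategoryTheory CategoryTheory.Limits MonoidalCategory CartesianMonoidalCategory AlgebraicGeometry WithConv
open scoped MonObj AddMonoidAlgebra

noncomputable section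

namespace Groth.Agent.RedSub30.Valuation

open BigCell29 RootPoly

variable {S : Scheme.{u}} {G H : Over S} [GrpObj G] [GrpObj H] (D : Red.SplitRed G) (h : H ⟶ G)
  [IsMonHom h] [IsImmersion h.left] [QuasiCompact h.left] [Smooth H.hom] (t : D.T ⟶ H) (ht : t ≫ h = D.i)
  {R' : Set D.idx} (hR' : ∀ a : D.idx, (∃ v : Red.Ga S ⟶ H, v ≫ h = D.u a) ↔ a ∈ R')
  {R : Type u} [CommRing R] {f : Spec (CommRingCat.of R) ⟶ S} [IsOpenImmersion f] {A : Type u} [CommRing A]
  [HopfAlgebra R A] (Md : Model f G A) {L : Type u} [Field L] [Algebra R L] (V : Subalgebra R L)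

/-- The forms used: non-zero on the roots of the subgroup and positive on those without opposite. -/
structure Admissible (R' : Set D.idx) (lam : D.M →+ ℤ) : Prop where
  ne : ∀ c ∈ R', lam (D.P.root c) ≠ 0
  pos : ∀ c ∈ remPart D.P R', 0 < lam (D.P.root c)

/-- The products of the Borel part with the points over the valuation ring. -/
def iwasawa (lam : D.M →+ ℤ) : Set (Pt R A L) :=
  {g | ∃ b ∈ borelPts D h Md lam, ∃ k ∈ valPts h Md V, g = b * k}

theorem exists_enum (Ψ : Set D.idx) : ∃ (k : ℕ) (c : Fin k → D.idx), RedSub.Enumerates Ψ c := by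
  classical
  haveI := Fintype.ofFinite D.idx
  let c : Fin (Fintype.card Ψ) → D.idx := fun k => ((Fintype.equivFin Ψ).symm k).1
  refine ⟨_, c, fun p q hpq => (Fintype.equivFin Ψ).symm.injective (Subtype.ext hpq),
    Set.ext fun a => ⟨?_, fun ha => ⟨Fintype.equivFin Ψ ⟨a, ha⟩, by simp [c]⟩⟩⟩
  rintro ⟨k, rfl⟩
  exact ((Fintype.equivFin Ψ).symm k).2

include t ht hR' in
/-- Unipotent coordinates of the Borel part. -/
theorem exists_borel_coords [ConnectedSpace S] {lam : D.M →+ ℤ} {k : ℕ} {e : Fin k → D.idx}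
    (he : RedSub.Enumerates (R' ∩ {i | 0 < lam (D.P.root i)}) e) {g : Pt R A L} (hg : g ∈ borelPts D h Md lam) :
    ∃ χ x, g = (Md.frame D).T.tor χ * (Md.frame D).prodPt e x := by
  obtain ⟨χ, u, rfl, hu, hU⟩ := unip_mem D h t ht Md hg
  obtain ⟨_, _, hs⟩ := exists_rootSplit D h t ht hR' Md lam he
  obtain ⟨x, rfl⟩ := hs.exists_coords (tStable_subPts D h t ht Md) hu hU
  exact ⟨χ, x, rfl⟩

include t ht hR' in
theorem prodPt_mem_borel {lam : D.M →+ ℤ} {k : ℕ} {e : Fin k → D.idx}
    (he : ∀ j, e j ∈ R' ∧ 0 < lam (D.P.root (e j))) (x : Fin k → L) :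
    (Md.frame D).prodPt e x ∈ borelPts D h Md lam := by
  rw [Frame.prodPt]
  refine list_prod_mem fun w hw => ?_
  obtain ⟨j, rfl⟩ := List.mem_ofFn.mp hw
  exact rt_mem_borel D h t ht hR' Md (he j).1 (he j).2 _

variable (hV : ∀ x : L, x ∈ V ∨ x⁻¹ ∈ V)

include t ht hR' hV in
/-- A root element of the opposite of a positive root is absorbed. -/
theorem rt_mem_iwasawa {lam : D.M →+ ℤ} {a : D.idx} (ha : a ∈ R') (hna : RedRk29.negIdx D a ∈ R')
    (hpos : 0 < lam (D.P.root a)) (x : L) :
    (Md.frame D).rt (RedRk29.negIdx D a) x ∈ iwasawa D h Md V lam := by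
  by_cases hx : x ∈ V
  · exact ⟨1, one_mem _, _, rt_mem_val D h hR' Md V hna hx, (one_mul _).symm⟩
  obtain ⟨d, d', hd, hd', hdd, hrel⟩ := exists_rankOne D Md V a
  obtain ⟨hne, hi, hxi⟩ := one_add_mul V hV hd hd' hdd hx
  obtain ⟨χ, hχ⟩ := hrel x hne
  refine ⟨_, mul_mem (rt_mem_borel D h t ht hR' Md ha hpos (1 + d * x)⁻¹) (tor_mem_borel D h t ht Md lam χ), _,
    mul_mem (rt_mem_val D h hR' Md V hna hxi) (rt_mem_val D h hR' Md V ha (neg_mem (one_mem V))), ?_⟩
  rw [hχ, mul_assoc ((Md.frame D).rt a _ * (Md.frame D).T.tor χ)]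

include t ht hR' in
/-- Forms with the same positive roots give the same products. -/
theorem iwasawa_mono [ConnectedSpace S] {lam lam' : D.M →+ ℤ}
    (hsub : ∀ c ∈ R', 0 < lam' (D.P.root c) → 0 < lam (D.P.root c)) :
    iwasawa D h Md V lam' ⊆ iwasawa D h Md V lam := by
  rintro g ⟨b, hb, k, hk, rfl⟩
  obtain ⟨n, e, he⟩ := exists_enum D (R' ∩ {i | 0 < lam' (D.P.root i)})
  obtain ⟨χ, x, rfl⟩ := exists_borel_coords D h t ht hR' Md he hb
  have hm : ∀ j, e j ∈ R' ∧ 0 < lam' (D.P.root (e j)) := fun j => (Set.ext_iff.mp he.2 _).mp (Set.mem_range_self j)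
  exact ⟨_, mul_mem (tor_mem_borel D h t ht Md lam χ)
    (prodPt_mem_borel D h t ht hR' Md (fun j => ⟨(hm j).1, hsub _ (hm j).1 (hm j).2⟩) x), k, hk, rfl⟩

include t ht hR' hV in
/-- Crossing one wall. -/
theorem iwasawa_flip [ConnectedSpace S] {lam lam' : D.M →+ ℤ} {a : D.idx} (ha : a ∈ R')
    (hna : RedRk29.negIdx D a ∈ R') (hpos : 0 < lam (D.P.root a))
    (hpos' : 0 < lam' (D.P.root (RedRk29.negIdx D a)))
    (hsub : ∀ c ∈ R', c ≠ RedRk29.negIdx D a → 0 < lam' (D.P.root c) → 0 < lam (D.P.root c)) :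
    iwasawa D h Md V lam' ⊆ iwasawa D h Md V lam := by
  classical
  rintro g ⟨b, hb, k, hk, rfl⟩
  obtain ⟨n, e, he⟩ := exists_enum D ((R' ∩ {i | 0 < lam' (D.P.root i)}) \ {RedRk29.negIdx D a})
  have hm : ∀ j, (e j ∈ R' ∧ 0 < lam' (D.P.root (e j))) ∧ e j ≠ RedRk29.negIdx D a :=
    fun j => (Set.ext_iff.mp he.2 _).mp (Set.mem_range_self j)
  let e' := Fin.append e (fun _ : Fin 1 => RedRk29.negIdx D a)
  have he' : RedSub.Enumerates (R' ∩ {i | 0 < lam' (D.P.root i)}) e' := by
    refine ⟨fun u v huv => ?_, Set.ext fun c => ⟨?_, fun hc => ?_⟩⟩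
    · induction u using Fin.addCases <;> induction v using Fin.addCases <;>
        simp only [e', Fin.append_left, Fin.append_right] at huv
      · exact congrArg _ (he.1 huv)
      · exact absurd huv (hm _).2
      · exact absurd huv.symm (hm _).2
      · exact congrArg _ (Subsingleton.elim _ _)
    · rintro ⟨j, rfl⟩
      induction j using Fin.addCases with
      | left i => simpa [e'] using (hm i).1
      | right i =>
        simp only [e', Fin.append_right]
        exact ⟨hna, hpos'⟩
    · by_cases hca : c = RedRk29.negIdx D a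
      · exact ⟨Fin.natAdd n 0, by simp [e', hca]⟩
      · obtain ⟨i, hi⟩ := (Set.ext_iff.mp he.2 c).mpr ⟨hc, hca⟩
        exact ⟨Fin.castAdd 1 i, by simp [e', hi]⟩
  obtain ⟨χ, x, rfl⟩ := exists_borel_coords D h t ht hR' Md he' hb
  rw [show x = Fin.append (fun i => x (Fin.castAdd 1 i)) (fun i => x (Fin.natAdd n i)) from
    (Fin.append_castAdd_natAdd (f := x)).symm, prodPt_append]
  have h1 : (Md.frame D).prodPt (fun _ : Fin 1 => RedRk29.negIdx D a) (fun i => x (Fin.natAdd n i)) =
      (Md.frame D).rt (RedRk29.negIdx D a) (x (Fin.natAdd n 0)) := by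
    rw [Frame.prodPt, List.ofFn_succ, List.ofFn_zero, List.prod_singleton]
  obtain ⟨b', hb', k', hk', e1⟩ := rt_mem_iwasawa D h t ht hR' Md V hV ha hna hpos (x (Fin.natAdd n 0))
  refine ⟨_, mul_mem (mul_mem (tor_mem_borel D h t ht Md lam χ)
    (prodPt_mem_borel D h t ht hR' Md (fun j => ⟨(hm j).1.1, hsub _ (hm j).1.1 (hm j).2 (hm j).1.2⟩)
      (fun i => x (Fin.castAdd 1 i)))) hb', _, mul_mem hk' hk, ?_⟩
  rw [h1, e1]
  simp only [mul_assoc]

include t ht hR' hV in
/-- The products do not depend on the form. -/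
theorem iwasawa_le [ConnectedSpace S] {lam lam' : D.M →+ ℤ} (hlam : Admissible D R' lam)
    (hlam' : Admissible D R' lam') : iwasawa D h Md V lam' ⊆ iwasawa D h Md V lam := by
  classical
  haveI := Fintype.ofFinite D.idx
  haveI := RedRk29.isReduced D
  induction hn : (Finset.univ.filter fun c => c ∈ R' ∧ 0 < lam (D.P.root c) ∧ lam' (D.P.root c) < 0).card
    using Nat.strong_induction_on generalizing lam with
  | _ n ih =>
    have hopp : ∀ c, D.P.root (RedRk29.negIdx D c) = -D.P.root c := fun c => root_opp (P := D.P) c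
    by_cases hS : ∀ c ∈ R', 0 < lam (D.P.root c) → 0 < lam' (D.P.root c)
    · refine iwasawa_mono D h t ht hR' Md V fun c hc hc' => ?_
      rcases lt_or_gt_of_ne (hlam.ne c hc) with h0 | h0
      · rcases mem_or (P := D.P) hc with h1 | h1
        · have := hS _ h1.2 (by rw [show D.P.root (D.P.reflectionPerm c c) = -D.P.root c from root_opp c, map_neg]; omega)
          rw [show D.P.root (D.P.reflectionPerm c c) = -D.P.root c from root_opp c, map_neg] at this
          omega
        · exact hlam.pos c h1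
      · exact h0
    push_neg at hS
    obtain ⟨s, hs, hs1, hs2⟩ := hS
    replace hs2 : lam' (D.P.root s) < 0 := lt_of_le_of_ne hs2 (hlam'.ne s hs)
    let w : D.idx × D.idx → D.M := fun p =>
      lam' (D.P.root p.2) • D.P.root p.1 - lam' (D.P.root p.1) • D.P.root p.2
    obtain ⟨lam₀, hne₀, hpos₀⟩ := RedRk29.exists_perturb lam
      ((Set.finite_range D.P.root).union (Set.finite_range w))
    have hsign : ∀ c ∈ R', (0 < lam (D.P.root c) ↔ 0 < lam₀ (D.P.root c)) := fun c hc => by
      refine ⟨hpos₀ _ (Or.inl ⟨c, rfl⟩), fun h1 => ?_⟩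
      by_contra h2
      have h3 := hpos₀ _ (Or.inl ⟨RedRk29.negIdx D c, rfl⟩)
        (by rw [hopp, map_neg]; have := hlam.ne c hc; omega)
      rw [hopp, map_neg] at h3
      omega
    -- the first wall
    obtain ⟨a, haS, hmin⟩ := Finset.exists_min_image
      (Finset.univ.filter fun c => c ∈ R' ∧ 0 < lam₀ (D.P.root c))
      (fun c => (lam' (D.P.root c) : ℚ) / lam₀ (D.P.root c)) ⟨s, by simp [hs, (hsign s hs).mp hs1]⟩
    rw [Finset.mem_filter] at haS
    obtain ⟨-, haR, hapos⟩ := haS
    have haneg : lam' (D.P.root a) < 0 := by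
      have h1 := hmin s (Finset.mem_filter.mpr ⟨Finset.mem_univ _, hs, (hsign s hs).mp hs1⟩)
      rw [div_le_div_iff₀ (by exact_mod_cast hapos) (by exact_mod_cast (hsign s hs).mp hs1)] at h1
      norm_cast at h1
      have := (hsign s hs).mp hs1
      nlinarith
    have ha1 : a ∈ symPart D.P R' := (mem_or (P := D.P) haR).resolve_right fun h1 => by
      have := hlam'.pos a h1; omega
    let mu : D.M →+ ℤ := (-lam' (D.P.root a)) • lam₀ + lam₀ (D.P.root a) • lam'
    have hmu : ∀ c, mu (D.P.root c) =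
        -lam' (D.P.root a) * lam₀ (D.P.root c) + lam₀ (D.P.root a) * lam' (D.P.root c) := fun c => by simp [mu]
    have hmupos : ∀ c ∈ R', 0 < lam₀ (D.P.root c) → c ≠ a → 0 < mu (D.P.root c) := fun c hc hc0 hca => by
      have h1 := hmin c (Finset.mem_filter.mpr ⟨Finset.mem_univ _, hc, hc0⟩)
      rw [div_le_div_iff₀ (by exact_mod_cast hapos) (by exact_mod_cast hc0)] at h1
      norm_cast at h1
      refine lt_of_le_of_ne (by rw [hmu]; nlinarith) fun h2 => ?_
      have hw : w (c, a) ≠ 0 := fun h3 => by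
        have hdep : ¬ LinearIndependent ℤ ![D.P.root c, D.P.root a] := by
          rw [LinearIndependent.pair_iff]
          intro hh
          have := (hh (lam' (D.P.root a)) (-lam' (D.P.root c)) (by rw [neg_smul, ← sub_eq_add_neg]; exact h3)).1
          omega
        rcases RootPairing.IsReduced.eq_or_eq_neg (P := D.P) c a hdep with h4 | h4
        · exact hca (D.P.root.injective h4)
        · rw [h4, map_neg] at hc0; omega
      refine hne₀ _ (Or.inr ⟨(c, a), rfl⟩) hw ?_
      rw [hmu] at h2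
      simp only [w, map_sub, map_zsmul, smul_eq_mul]
      linarith
    let N : ℤ := 1 + ∑ c, |lam' (D.P.root c)|
    have hN : ∀ c, |lam' (D.P.root c)| < N := fun c => by
      have := Finset.single_le_sum (f := fun c => |lam' (D.P.root c)|) (fun i _ => abs_nonneg _) (Finset.mem_univ c)
      simp only [N]; omega
    let lam₁ : D.M →+ ℤ := N • mu + lam'
    have hl₁ : ∀ c, lam₁ (D.P.root c) = N * mu (D.P.root c) + lam' (D.P.root c) := fun c => by simp [lam₁]
    have hother : ∀ c ∈ R', 0 < lam (D.P.root c) → c ≠ a → 0 < lam₁ (D.P.root c) := fun c hc hc0 hca => by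
      have h1 := hmupos c hc ((hsign c hc).mp hc0) hca
      have := abs_lt.mp (hN c)
      rw [hl₁]
      nlinarith
    have hla : lam₁ (D.P.root a) < 0 := by
      rw [hl₁, hmu]
      have : -lam' (D.P.root a) * lam₀ (D.P.root a) + lam₀ (D.P.root a) * lam' (D.P.root a) = 0 := by ring
      rw [this]; omega
    have hsub : ∀ c ∈ R', c ≠ RedRk29.negIdx D a → 0 < lam₁ (D.P.root c) → 0 < lam (D.P.root c) := fun c hc hcn h1 => by
      rcases mem_or (P := D.P) hc with h2 | h2
      · by_contra h3
        have h4 := hlam.ne c hc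
        by_cases h5 : RedRk29.negIdx D c = a
        · exact hcn (by rw [← h5]; exact (opp_opp (P := D.P) c).symm)
        · have h6 := hother _ h2.2 (by rw [show D.P.root (D.P.reflectionPerm c c) = -D.P.root c from root_opp c, map_neg]; omega) h5
          rw [show D.P.root (D.P.reflectionPerm c c) = -D.P.root c from root_opp c, map_neg] at h6
          omega
      · exact hlam.pos c h2
    have hadm : Admissible D R' lam₁ := by
      refine ⟨fun c hc h0 => ?_, fun c hc => hother c hc.1 (hlam.pos c hc) fun e => by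
        exact hc.2 (e ▸ ha1.2)⟩
      by_cases hca : c = a
      · subst hca; omega
      rcases lt_or_gt_of_ne (hlam.ne c hc) with h1 | h1
      · rcases mem_or (P := D.P) hc with h2 | h2
        · by_cases h5 : RedRk29.negIdx D c = a
          · have : D.P.root a = -D.P.root c := by rw [← h5, hopp]
            rw [this, map_neg] at hla; omega
          · have h6 := hother _ h2.2 (by rw [show D.P.root (D.P.reflectionPerm c c) = -D.P.root c from root_opp c, map_neg]; omega) h5
            rw [show D.P.root (D.P.reflectionPerm c c) = -D.P.root c from root_opp c, map_neg] at h6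
            omega
        · have := hlam.pos c h2; omega
      · have := hother c hc h1 hca; omega
    have hapos' : 0 < lam (D.P.root a) := (hsign a haR).mpr hapos
    refine Set.Subset.trans (ih _ ?_ hadm rfl) (iwasawa_flip D h t ht hR' Md V hV haR ha1.2 hapos'
      (by rw [hopp, map_neg]; omega) hsub)
    rw [← hn]
    refine Finset.card_lt_card ⟨fun c hc => ?_, fun hc => ?_⟩
    · simp only [Finset.mem_filter, Finset.mem_univ, true_and] at hc ⊢
      obtain ⟨hcR, hc1, hc2⟩ := hc
      refine ⟨hcR, hsub c hcR (fun e => ?_) hc1, hc2⟩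
      rw [e, hopp, map_neg] at hc2; omega
    · have := hc (Finset.mem_filter.mpr ⟨Finset.mem_univ a, haR, hapos', haneg⟩)
      simp only [Finset.mem_filter] at this
      omega

include t ht hR' hV in
/-- The points of the subgroup over the field decompose. -/
theorem mem_iwasawa [ConnectedSpace S] {lam₁ : Module.Dual ℤ D.M}
    (hsym : ∀ a ∈ symPart D.P R', lam₁ (D.P.root a) = 0) (hrem : ∀ a ∈ remPart D.P R', 0 < lam₁ (D.P.root a))
    {lam : D.M →+ ℤ} (hlam : Admissible D R' lam) {g : Pt R A L}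
    (hg : g ∈ Subgroup.closure (Set.range (Md.frame D).T.tor ∪ ⋃ c ∈ R', Set.range ((Md.frame D).rt c) : Set (Pt R A L))) :
    g ∈ iwasawa D h Md V lam := by
  classical
  haveI := Fintype.ofFinite D.idx
  have hstab : ∀ b, (∃ lam', Admissible D R' lam' ∧ b ∈ borelPts D h Md lam') →
      ∀ y ∈ iwasawa D h Md V lam, b * y ∈ iwasawa D h Md V lam := by
    rintro b ⟨lam', hlam', hb⟩ y hy
    obtain ⟨b', hb', k, hk, rfl⟩ := iwasawa_le D h t ht hR' Md V hV hlam' hlam hy
    exact iwasawa_le D h t ht hR' Md V hV hlam hlam' ⟨b * b', mul_mem hb hb', k, hk, (mul_assoc _ _ _).symm⟩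
  have hgen : ∀ x ∈ (Set.range (Md.frame D).T.tor ∪ ⋃ c ∈ R', Set.range ((Md.frame D).rt c) : Set (Pt R A L)),
      ∃ lam', Admissible D R' lam' ∧ x ∈ borelPts D h Md lam' := by
    rintro x (⟨χ, rfl⟩ | hx)
    · exact ⟨lam, hlam, tor_mem_borel D h t ht Md lam χ⟩
    obtain ⟨c, hc, r, rfl⟩ := Set.mem_iUnion₂.mp hx
    obtain ⟨ν, hν⟩ := Rank2Red38.exists_generic (D := D)
    let K : ℤ := 1 + ∑ d, |ν (D.P.root d)|
    have hK : ∀ d, |ν (D.P.root d)| < K := fun d => by
      have := Finset.single_le_sum (f := fun d => |ν (D.P.root d)|) (fun i _ => abs_nonneg _) (Finset.mem_univ d)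
      simp only [K]; omega
    let ε : ℤ := if 0 < ν (D.P.root c) then 1 else -1
    let lam' : D.M →+ ℤ := K • lam₁.toAddMonoidHom + ε • ν.toAddMonoidHom
    have hval : ∀ d, lam' (D.P.root d) = K * lam₁ (D.P.root d) + ε * ν (D.P.root d) := fun d => by simp [lam']
    have hε : ε = 1 ∨ ε = -1 := by simp only [ε]; split_ifs <;> simp
    have hrem' : ∀ d ∈ remPart D.P R', 0 < lam' (D.P.root d) := fun d hd => by
      have := hrem d hd
      have := abs_lt.mp (hK d)
      rw [hval]; rcases hε with e | e <;> rw [e] <;> nlinarith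
    refine ⟨lam', ⟨fun d hd => ?_, hrem'⟩, rt_mem_borel D h t ht hR' Md hc ?_ r⟩
    · rcases mem_or (P := D.P) hd with h1 | h1
      · rw [hval, hsym d h1, mul_zero, zero_add]
        rcases hε with e | e <;> rw [e] <;> simp [hν d]
      · exact (hrem' d h1).ne'
    · rcases mem_or (P := D.P) hc with h1 | h1
      · rw [hval, hsym c h1, mul_zero, zero_add]
        have := hν c
        simp only [ε]; split_ifs <;> omega
      · exact hrem' c h1
  suffices key : ∀ y ∈ iwasawa D h Md V lam, g * y ∈ iwasawa D h Md V lam by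
    simpa using key 1 ⟨1, one_mem _, 1, one_mem _, (one_mul _).symm⟩
  induction hg using Subgroup.closure_induction'' with
  | mem x hx => exact hstab x (hgen x hx)
  | inv_mem x hx =>
    obtain ⟨lam', hlam', hb⟩ := hgen x hx
    exact hstab x⁻¹ ⟨lam', hlam', inv_mem hb⟩
  | one => simp
  | mul a b _ _ ha hb => intro y hy; rw [mul_assoc]; exact ha _ (hb y hy)

include t ht hR' hV in
/-- An element of the Borel part which is a point over the valuation ring is a point of the subgroup there. -/
theorem borel_mem_val [ConnectedSpace S] {lam : D.M →+ ℤ} {g : Pt R A V}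
    (hg : mapPt V.val g ∈ borelPts D h Md lam) (hreg : ∀ c, lam (D.P.root c) ≠ 0) :
    g ∈ (subPts h Md).mem V := by
  classical
  haveI : IsAffineHom G.hom := D.reductive.1
  set F := Md.frame D
  obtain ⟨χ, u, hgu, hu, hU⟩ := unip_mem D h t ht Md hg
  have hinj : Function.Injective V.val := Subtype.val_injective
  have hzP := Coact.InZ.inP _ (F.cochar_inZ_tor lam χ)
  have hP : (F.cochar lam).InP (mapPt V.val g) := hgu ▸ Coact.InP.mul _ hzP hU.1
  have hgP : (F.cochar lam).InP g := fun a n hn => hinj (by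
    rw [map_zero]; exact hP a n hn)
  set z₀ := (F.cochar lam).lim g hgP
  have hz₀ : mapPt V.val z₀ = F.T.tor χ := by
    have e1 : mapPt V.val z₀ = (F.cochar lam).lim (mapPt V.val g) hP := pt_ext fun a => rfl
    have e2 : (F.cochar lam).lim (mapPt V.val g) hP =
        (F.cochar lam).lim (F.T.tor χ * u) (Coact.InP.mul _ hzP hU.1) := by simp only [hgu]; rfl
    obtain ⟨h0, hlim⟩ := (F.cochar lam).inU_iff.mp hU
    rw [e1, e2, (F.cochar lam).lim_mul hzP h0, (F.cochar lam).lim_of_inZ (F.cochar_inZ_tor lam χ), hlim, mul_one]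
  -- the torus part is a point of the torus over the valuation ring
  obtain ⟨ν, hν⟩ : ∃ ν, F.T.tor ν = z₀ := by
    haveI := D.maximalTorus.1
    haveI := D.maximalTorus.2.1
    haveI : IsClosedImmersion D.i.left := TorusClosed.isClosedImmersion_of_mono D.i
      (GrpSchLib.RankOne.isMultTypeFT_of_isTorus D.maximalTorus.2.2.1)
    have hsq : tMap f V.val ≫ Md.pt z₀ = (chPt f χ ≫ D.split.inv.hom.hom) ≫ D.i := by
      rw [← Md.pt_map, hz₀, Md.pt_tor, torG, Category.assoc]
    obtain ⟨l, hl⟩ := exists_factor_of_injective D.i.left (CommRingCat.ofHom V.val.toRingHom) hinj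
      (Md.pt z₀).left (chPt f χ ≫ D.split.inv.hom.hom).left (congrArg CommaMorphism.left hsq)
    let τ : tObj f V ⟶ D.T := Over.homMk l (by rw [← Over.w D.i, reassoc_of% hl, Over.w (Md.pt z₀)])
    obtain ⟨ν, hν⟩ := (chPt_bijective f).surjective (τ ≫ D.split.hom.hom.hom)
    refine ⟨ν, Md.pt_bijective.injective ?_⟩
    have e2 : D.split.hom.hom.hom ≫ D.split.inv.hom.hom = 𝟙 _ := congrArg (fun k => k.hom.hom) D.split.hom_inv_id
    rw [Md.pt_tor, torG, hν, Category.assoc, reassoc_of% e2]
    exact Over.OverMorphism.ext hl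
  have htor : z₀ ∈ (subPts h Md).mem V := hν ▸ (tor_mem D h t ht Md V ν)
  -- the unipotent part
  set u₀ := z₀⁻¹ * g with hu₀
  have hu₀' : mapPt V.val u₀ = u := by rw [hu₀, map_mul, map_inv, hz₀, hgu, inv_mul_cancel_left]
  have hU₀ : (F.cochar lam).InU u₀ := ⟨fun a n hn => hinj (by
      rw [map_zero]; exact (hu₀' ▸ hU).1 a n hn), fun a => hinj (by
      have := (hu₀' ▸ hU : (F.cochar lam).InU (mapPt V.val u₀)).2 a
      rw [mapPt_apply] at this
      rw [this, ← map_one (mapPt (A := A) V.val), mapPt_apply])⟩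
  obtain ⟨k, e, he⟩ := exists_enum D (R' ∩ {i | 0 < lam (D.P.root i)})
  obtain ⟨k', e', hs⟩ := exists_rootSplit D h t ht hR' Md lam he
  obtain ⟨x, hx⟩ := hs.exists_coords (tStable_subPts D h t ht Md) hu hU
  obtain ⟨z, hz, -⟩ := F.exists_coords hs.append_pos hs.inj hs.append_range hU₀
  have key : Fin.append x (0 : Fin k' → L) = V.val ∘ z := by
    refine (F.exists_coords hs.append_pos hs.inj hs.append_range hU).unique ?_ ?_
    · show F.prodPt (Fin.append e e') (Fin.append x 0) = u
      rw [prodPt_append, prodPt_zero, mul_one, hx]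
    · show F.prodPt (Fin.append e e') (V.val ∘ z) = u
      rw [← F.mapPt_prodPt, hz, hu₀']
  have h0 : (fun j => z (Fin.natAdd k j)) = 0 := funext fun j => hinj (by
    have := congrFun key (Fin.natAdd k j)
    rw [Fin.append_right] at this
    rw [Pi.zero_apply, map_zero]
    exact this.symm)
  have hmem : u₀ ∈ (subPts h Md).mem V := by
    rw [← hz, ← Fin.append_castAdd_natAdd (f := z), prodPt_append, h0, prodPt_zero, mul_one]
    exact prodPt_mem (W := subPts h Md) _ (fun l => full_of_mem D h hR' Md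
      ((Set.ext_iff.mp he.2 _).mp (Set.mem_range_self l)).1) _
  have : g = z₀ * u₀ := by rw [hu₀, mul_inv_cancel_left]
  rw [this]
  exact mul_mem htor hmem

end Groth.Agent.RedSub30.Valuation
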