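import Groth.Agent.RedSub30.LeviFibre
import Groth.Agent.RedSub30.ProdTorus

/-!
# The unipotent radical in the decomposition of a subgroup of type (R) with closed root set
-/

set_option autoImplicit false
set_option maxHeartbeats 1000000
set_option synthInstance.maxHeartbeats 100000

universe u

open CategoryTheory CategoryTheory.Limits MonoidalCategory CartesianMonoidalCategory AlgebraicGeometry WithConv
open scoped MonObj AddMonoidAlgebra

namespace Groth.Agent.RedSub30.Levi

open BigCell29 RootPoly GrpSchLib.AffineHopf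

variable {S : Scheme.{u}} {G H' H₁ : Over S} [GrpObj G] [GrpObj H'] [GrpObj H₁] (D : Red.SplitRed G) {R' : Set D.idx}
  (h' : H' ⟶ G) [IsMonHom h'] [IsImmersion h'.left] [QuasiCompact h'.left] [Smooth H'.hom]
  (t' : D.T ⟶ H') (ht' : t' ≫ h' = D.i)
  (hR' : ∀ a : D.idx, (∃ v : Red.Ga S ⟶ H', v ≫ h' = D.u a) ↔ a ∈ R')
  (h₁ : H₁ ⟶ G) [IsMonHom h₁] [IsImmersion h₁.left] [QuasiCompact h₁.left] [Smooth H₁.hom]
  (t₁ : D.T ⟶ H₁) (ht₁ : t₁ ≫ h₁ = D.i)
  (hR₁ : ∀ a : D.idx, (∃ v : Red.Ga S ⟶ H₁, v ≫ h₁ = D.u a) ↔ a ∈ symPart D.P R')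
  {lam : Module.Dual ℤ D.M} (hsym : ∀ a ∈ symPart D.P R', lam (D.P.root a) = 0)
  (hrem : ∀ a ∈ remPart D.P R', 0 < lam (D.P.root a))
  {m : ℕ} {e : Fin m → D.idx} (he : RedSub.Enumerates (remPart D.P R') e)
  [GrpObj (RedSub.pow (Red.Ga S) m)] [IsMonHom (RedSub.prodMap (Red.Ga S) m (fun k => D.u (e k)))]

include t₁ ht₁ hR₁ hsym hrem he in
/-- No product of the remaining root groups normalises the subgroup of the symmetric part. -/
theorem eq_one_of_normalises [ConnectedSpace S] (hR : IsClosedSet D.P R') {X : Over S}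
    (n : X ⟶ RedSub.pow (Red.Ga S) m)
    (hn : ∀ (X' : Over S) (y : X' ⟶ X) (z : X' ⟶ H₁), ∃ z' : X' ⟶ H₁,
      (y ≫ n ≫ RedSub.prodMap (Red.Ga S) m (fun k => D.u (e k))) * (z ≫ h₁) *
        (y ≫ n ≫ RedSub.prodMap (Red.Ga S) m (fun k => D.u (e k)))⁻¹ = z' ≫ h₁) :
    n ≫ RedSub.prodMap (Red.Ga S) m (fun k => D.u (e k)) = 1 := by
  classical
  haveI := (isPosClosed_rem D hrem he hR).mono_prodMap
  refine ext_tObj fun R _ f _ B _ _ j => ?_
  haveI : IsAffineHom G.hom := D.reductive.1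
  obtain ⟨A, _, _, ⟨Md⟩⟩ := exists_model f G
  obtain ⟨x, hx⟩ := (powPt_bijective m).surjective (j ≫ n)
  set F := Md.frame D
  let c : B →ₐ[R] B[ℤ] := AddMonoidAlgebra.singleZeroAlgHom
  let ν : Multiplicative D.M →* B[ℤ] := (AddMonoidAlgebra.of B ℤ).comp lam.toAddMonoidHom.toMultiplicative
  let y' : Fin m → B[ℤ] := fun l => AddMonoidAlgebra.single (lam (D.P.root (e l))) (x l)
  have e1 : F.prodPt e y' = F.T.tor ν * F.prodPt e (c ∘ x) * (F.T.tor ν)⁻¹ := by
    rw [conj_prodPt]
    refine congrArg (F.prodPt e) (funext fun l => ?_)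
    show AddMonoidAlgebra.single (lam (D.P.root (e l))) (x l) =
      AddMonoidAlgebra.single (lam (D.P.root (e l))) (1 : B) * AddMonoidAlgebra.single 0 (x l)
    rw [AddMonoidAlgebra.single_mul_single, add_zero, one_mul]
  obtain ⟨τ, hτ⟩ : InSub h₁ Md (F.T.tor ν) := tor_mem D h₁ t₁ ht₁ Md _ ν
  obtain ⟨z', hz'⟩ := hn _ (tMap f c ≫ j) τ
  have hcx : (tMap f c ≫ j) ≫ n = powPt f (c ∘ x) := by
    rw [Category.assoc, ← hx, powPt_map]
  rw [← Category.assoc (tMap f c ≫ j) n, hcx, Md.powPt_prodMap, hτ] at hz'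
  let k : tObj f B[ℤ] ⟶ RedSub.pow (Red.Ga S) m := powPt f (c ∘ x) * (powPt f y')⁻¹
  have hk : k ≫ RedSub.prodMap (Red.Ga S) m (fun i => D.u (e i)) = (z' * τ⁻¹) ≫ h₁ := by
    rw [MonObj.mul_comp, GrpObj.inv_comp, Md.powPt_prodMap, Md.powPt_prodMap, e1, MonObj.mul_comp, GrpObj.inv_comp,
      ← hz', hτ, ← Md.pt_inv, ← Md.pt_inv, ← Md.pt_inv, ← Md.pt_mul, ← Md.pt_mul, ← Md.pt_mul, ← Md.pt_mul]
    congr 1
    group
    rfl
  have h0 := disjoint D h₁ t₁ ht₁ hR₁ hsym hrem he _ k hk.symm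
  have h1 : k = 1 := (cancel_mono (RedSub.prodMap (Red.Ga S) m (fun i => D.u (e i)))).mp
    (h0.trans (MonObj.one_comp _).symm)
  have h2 : c ∘ x = y' := (powPt_bijective m).injective (mul_inv_eq_one.mp h1)
  have hx0 : x = 0 := funext fun l => by
    have := congrArg (fun p : B[ℤ] => p.coeff 0) (congrFun h2 l)
    have hne : lam (D.P.root (e l)) ≠ 0 := (hrem _ (mem_rem D he l)).ne'
    replace this : (AddMonoidAlgebra.single (0 : ℤ) (x l)).coeff 0 =
      (AddMonoidAlgebra.single (lam (D.P.root (e l))) (x l)).coeff 0 := this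
    rw [AddMonoidAlgebra.coeff_single, AddMonoidAlgebra.coeff_single, Finsupp.single_eq_same,
      Finsupp.single_apply, if_neg hne] at this
    exact this
  rw [MonObj.comp_one, ← Category.assoc, ← hx, Md.powPt_prodMap, hx0, prodPt_zero]
  exact Md.pt_one

variable (v : RedSub.pow (Red.Ga S) m ⟶ H') (hv : v ≫ h' = RedSub.prodMap (Red.Ga S) m (fun k => D.u (e k)))
  (f₁ : H₁ ⟶ H') (hf₁ : f₁ ≫ h' = h₁) [IsIso ((f₁ ⊗ₘ v) ≫ μ[H'])]
  {U' : Over S} [GrpObj U'] (u' : U' ⟶ H') [IsMonHom u'] [IsClosedImmersion u'.left] [Smooth U'.hom]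

include t' ht' hR' t₁ ht₁ hR₁ hsym hrem he hv hf₁ in
/-- A normal smooth subgroup with connected fibres without subtori lies in the remaining products. -/
theorem exists_factor_rem [ConnectedSpace S] (hR : IsClosedSet D.P R') (hconn : RedSub.HasConnectedFibres H')
    (hconn₁ : RedSub.HasConnectedFibres H₁) (hnorm : AlgGrp.IsNormalHom u')
    (hfib : ∀ s : S, ConnectedSpace (Red.geomFibre s U').left ∧
      Red.HasNoSubtorus (AlgebraicClosure (S.residueField s)) (Red.geomFibre s U')) :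
    ∃ g : U' ⟶ RedSub.pow (Red.Ga S) m, g ≫ v = u' := by
  haveI := isMonHom_sub h' h₁ f₁ hf₁
  haveI := mono_incl h'
  haveI := isMonHom_proj D h' t' ht' hR' h₁ hrem he v hv f₁ hf₁ hR hconn
  have hfπ := incl_proj D h' h₁ v hv f₁ hf₁
  obtain ⟨r, hr⟩ := exists_sym_part D h' t' ht' hR' h₁ t₁ ht₁ hR₁ hsym hrem he v hv f₁ hf₁ u' hnorm hconn₁
  set M := (f₁ ⊗ₘ v) ≫ μ[H'] with hMdef
  set π := inv M ≫ fst H₁ (RedSub.pow (Red.Ga S) m) with hπdef
  haveI : Mono u' := Over.mono_of_mono_left _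
  -- the scheme of points of the subgroup in the subgroup of the symmetric part
  let K : Over S := Over.mk (pullback.fst u'.left f₁.left ≫ U'.hom)
  let k₁ : K ⟶ U' := Over.homMk (pullback.fst _ _) rfl
  let k₂ : K ⟶ H₁ := Over.homMk (pullback.snd _ _) (by
    show _ = pullback.fst _ _ ≫ U'.hom
    rw [← Over.w u', pullback.condition_assoc, Over.w f₁])
  have hk : k₁ ≫ u' = k₂ ≫ f₁ := Over.OverMorphism.ext pullback.condition
  have hk₂ : k₁ ≫ u' ≫ π = k₂ := by rw [reassoc_of% hk, hfπ, Category.comp_id]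
  have hkinj : ∀ {X : Over S} (a b : X ⟶ K), a ≫ k₁ = b ≫ k₁ → a = b := fun a b hab => by
    refine Over.OverMorphism.ext (pullback.hom_ext (congrArg CommaMorphism.left hab) ?_)
    have := congrArg (fun q => q ≫ u' ≫ π) hab
    simp only [Category.assoc, hk₂] at this
    exact congrArg CommaMorphism.left this
  haveI : LocallyOfFiniteType H₁.hom := inferInstance
  haveI : LocallyOfFiniteType f₁.left := by
    haveI : LocallyOfFiniteType (f₁.left ≫ H'.hom) := by rw [Over.w f₁]; infer_instance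
    exact locallyOfFiniteType_of_comp f₁.left H'.hom
  haveI : LocallyOfFiniteType K.hom := by
    haveI : LocallyOfFiniteType (pullback.fst u'.left f₁.left) := MorphismProperty.pullback_fst _ _ inferInstance
    haveI : LocallyOfFiniteType U'.hom := inferInstance
    show LocallyOfFiniteType (pullback.fst u'.left f₁.left ≫ U'.hom)
    infer_instance
  let e0 : 𝟙_ (Over S) ⟶ K := Over.homMk (pullback.lift (1 : 𝟙_ (Over S) ⟶ U').left (1 : 𝟙_ (Over S) ⟶ H₁).left
    (by rw [← Over.comp_left, ← Over.comp_left, MonObj.one_comp, MonObj.one_comp])) (by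
      show pullback.lift _ _ _ ≫ pullback.fst _ _ ≫ U'.hom = _
      rw [pullback.lift_fst_assoc]
      exact Over.w (1 : 𝟙_ (Over S) ⟶ U'))
  have he0 : e0 ≫ k₁ = 1 := Over.OverMorphism.ext (pullback.lift_fst _ _ _)
  -- two points of `K` over a field agree
  have hfield : ∀ (s : S) (P : Over S) (q : P.left ⟶ Spec (CommRingCat.of (AlgebraicClosure (S.residueField s)))),
      q ≫ Red.geomPt s = P.hom → ∀ a : P ⟶ K, a ≫ k₁ = 1 := by
    intro s P q hq a
    have htriv := fibre_proj_eq_one D h' t' ht' u' s h₁ t₁ ht₁ hR₁ f₁ hf₁ π hfπ hnorm (hfib s).1 (hfib s).2 r hr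
    have hU : (a ≫ k₁) ≫ u' ≫ π = 1 := by
      let a₁ : P.left ⟶ pullback U'.hom (Red.geomPt s) :=
        pullback.lift (a ≫ k₁).left q (by rw [Over.w (a ≫ k₁), hq])
      have e1 : ∀ g : U' ⟶ H₁, a₁ ≫ ((Over.pullback (Red.geomPt s)).map g).left ≫ pullback.fst H₁.hom _ =
          ((a ≫ k₁) ≫ g).left := by
        intro g
        rw [Over.comp_left]
        erw [pullback.lift_fst]
        erw [pullback.lift_fst_assoc]
      refine Over.OverMorphism.ext ?_
      rw [← e1 (u' ≫ π), htriv, ← Functor.map_one (Over.pullback (Red.geomPt s)), e1, MonObj.comp_one]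
    have h2 : a ≫ k₂ = 1 := by rw [← hk₂, ← Category.assoc, hU]
    rw [← cancel_mono u', Category.assoc, hk, ← Category.assoc, h2, MonObj.one_comp, MonObj.one_comp]
  have hiso : IsIso K.hom := by
    refine isIso_of_fibres K.hom e0.left (Over.w e0) fun s => ?_
    haveI : Mono (K.hom.fiberToSpecResidueField s) := by
      refine ⟨fun {Z} a b hab => ?_⟩
      let ext : Spec (CommRingCat.of (AlgebraicClosure (S.residueField s))) ⟶ Spec (S.residueField s) :=
        Spec.map (CommRingCat.ofHom (algebraMap (S.residueField s) (AlgebraicClosure (S.residueField s))))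
      let c := a ≫ K.hom.fiberToSpecResidueField s
      let p := pullback.fst c ext
      haveI : Surjective ext := ⟨fun z => ⟨IsLocalRing.closedPoint _, Subsingleton.elim _ _⟩⟩
      haveI : Flat ext := by
        rw [HasRingHomProperty.Spec_iff (P := @Flat)]
        exact RingHom.flat_algebraMap_iff.mpr inferInstance
      haveI : Flat p := MorphismProperty.pullback_fst _ _ inferInstance
      haveI : Surjective p := MorphismProperty.pullback_fst _ _ inferInstance
      haveI := Flat.epi_of_flat_of_surjective p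
      refine pullback.hom_ext ((cancel_epi p).mp ?_) hab
      let P : Over S := Over.mk ((p ≫ c) ≫ S.fromSpecResidueField s)
      have hq : pullback.snd c ext ≫ Red.geomPt s = P.hom := by
        show pullback.snd c ext ≫ ext ≫ _ = (p ≫ c) ≫ _
        rw [← Category.assoc, ← pullback.condition]
      let a' : P ⟶ K := Over.homMk (p ≫ a ≫ K.hom.fiberι s) (by
        show _ = (p ≫ c) ≫ _
        simp only [c, Category.assoc]
        exact congrArg (p ≫ a ≫ ·) pullback.condition)
      let b' : P ⟶ K := Over.homMk (p ≫ b ≫ K.hom.fiberι s) (by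
        show _ = (p ≫ c) ≫ _
        simp only [c, Category.assoc]
        rw [reassoc_of% hab]
        exact congrArg (p ≫ b ≫ ·) pullback.condition)
      exact congrArg CommaMorphism.left
        (hkinj a' b' ((hfield s P _ hq a').trans (hfield s P _ hq b').symm))
    let σ : Spec (S.residueField s) ⟶ K.hom.fiber s :=
      pullback.lift (S.fromSpecResidueField s ≫ e0.left) (𝟙 _) (by
        rw [Category.assoc, Over.w e0]; exact (Category.comp_id _).trans (Category.id_comp _).symm)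
    exact ⟨σ, (cancel_mono (K.hom.fiberToSpecResidueField s)).mp (by
      rw [Category.assoc, show σ ≫ K.hom.fiberToSpecResidueField s = 𝟙 _ from pullback.lift_snd _ _ _,
        Category.comp_id, Category.id_comp]), pullback.lift_snd _ _ _⟩
  haveI := hiso
  let x : U' ⟶ K := Over.homMk (pullback.lift r.left (u' ≫ π).left (congrArg CommaMorphism.left hr)) (by
    show pullback.lift _ _ _ ≫ pullback.fst _ _ ≫ U'.hom = _
    rw [pullback.lift_fst_assoc]
    exact Over.w r)
  have hx : x = toUnit U' ≫ e0 := Over.OverMorphism.ext ((cancel_mono K.hom).mp (by rw [Over.w, Over.w]))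
  have hψ : u' ≫ π = 1 := by
    have := congrArg (fun q => q ≫ k₁ ≫ u' ≫ π) hx
    simp only [hk₂, Category.assoc] at this
    refine (Over.OverMorphism.ext (pullback.lift_snd _ _ _) : x ≫ k₂ = u' ≫ π).symm.trans (this.trans ?_)
    rw [← hk₂, reassoc_of% he0, ← Category.assoc, MonObj.comp_one, MonObj.one_comp]
  refine ⟨(u' ≫ inv M) ≫ snd _ _, ?_⟩
  have e1 := decomp_val v f₁ (u' ≫ inv M)
  rw [show (u' ≫ inv M) ≫ ((f₁ ⊗ₘ v) ≫ μ[H']) = u' by rw [← hMdef, Category.assoc, IsIso.inv_hom_id, Category.comp_id],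
    show (u' ≫ inv M) ≫ fst _ _ = 1 from (Category.assoc _ _ _).trans hψ, MonObj.one_comp, one_mul] at e1
  exact e1.symm

end Groth.Agent.RedSub30.Levi
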