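import Groth.Agent.RedSub30.LeviRoots
import Groth.Agent.RedSub30.LeviCentral
import Groth.Agent.RedSub30.Quot
import Groth.Agent.RedRk29.Geom

/-!
# The product decomposition of a subgroup of type (R) with closed root set
-/

set_option autoImplicit false
set_option synthInstance.maxHeartbeats 100000

universe u

open CategoryTheory CategoryTheory.Limits MonoidalCategory CartesianMonoidalCategory AlgebraicGeometry WithConv
open scoped MonObj AddMonoidAlgebra

namespace Groth.Agent.RedSub30.Levi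

open BigCell29 RootPoly

variable {S : Scheme.{u}} {G H' H₁ : Over S} [GrpObj G] [GrpObj H'] [GrpObj H₁] (D : Red.SplitRed G) {R' : Set D.idx}
  (h' : H' ⟶ G) [IsMonHom h'] [IsImmersion h'.left] [QuasiCompact h'.left] [Smooth H'.hom]
  (t' : D.T ⟶ H') (ht' : t' ≫ h' = D.i)
  (hR' : ∀ a : D.idx, (∃ v : Red.Ga S ⟶ H', v ≫ h' = D.u a) ↔ a ∈ R')
  (h₁ : H₁ ⟶ G) [IsMonHom h₁] [IsImmersion h₁.left] [QuasiCompact h₁.left] [Smooth H₁.hom]
  (t₁ : D.T ⟶ H₁) (ht₁ : t₁ ≫ h₁ = D.i)
  (hR₁ : ∀ a : D.idx, (∃ v : Red.Ga S ⟶ H₁, v ≫ h₁ = D.u a) ↔ a ∈ symPart D.P R')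
  {lam : Module.Dual ℤ D.M} (hsym : ∀ a ∈ symPart D.P R', lam (D.P.root a) = 0)
  (hrem : ∀ a ∈ remPart D.P R', 0 < lam (D.P.root a))
  {m : ℕ} {e : Fin m → D.idx} (he : RedSub.Enumerates (remPart D.P R') e)

include he in
theorem mem_rem (l : Fin m) : e l ∈ remPart D.P R' := he.2 ▸ Set.mem_range_self l

include t' ht' hR' he in
/-- The products of the remaining root groups factor through the subgroup. -/
theorem exists_rem : ∃ v : RedSub.pow (Red.Ga S) m ⟶ H',
    v ≫ h' = RedSub.prodMap (Red.Ga S) m (fun k => D.u (e k)) := by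
  refine exists_factor_of_pts h' _ fun R _ f _ B _ _ j => ?_
  haveI : IsAffineHom G.hom := D.reductive.1
  obtain ⟨A, _, _, ⟨Md⟩⟩ := exists_model f G
  obtain ⟨x, hx⟩ := (powPt_bijective m).surjective j
  obtain ⟨z, hz⟩ : InSub h' Md ((Md.frame D).prodPt e x) :=
    prodPt_mem (W := subPts h' Md) _ (fun l => full_of_mem D h' hR' Md (mem_rem D he l).1) x
  exact ⟨z, by rw [hz, ← Md.powPt_prodMap, hx]⟩

include hrem he in
theorem isPosClosed_rem (hR : IsClosedSet D.P R') : IsPosClosed D lam (List.ofFn e) :=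
  IsPosClosed.of_enumerates hR.rem_isClosedSet hrem he

include t₁ ht₁ hR₁ hsym hrem he in
/-- The remaining products meet the subgroup of the symmetric part trivially. -/
theorem disjoint [ConnectedSpace S] {X : Over S} (z : X ⟶ H₁) (n : X ⟶ RedSub.pow (Red.Ga S) m)
    (h : z ≫ h₁ = n ≫ RedSub.prodMap (Red.Ga S) m (fun k => D.u (e k))) :
    n ≫ RedSub.prodMap (Red.Ga S) m (fun k => D.u (e k)) = 1 := by
  refine ext_tObj fun R _ f _ B _ _ j => ?_
  haveI : IsAffineHom G.hom := D.reductive.1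
  obtain ⟨A, _, _, ⟨Md⟩⟩ := exists_model f G
  obtain ⟨x, hx⟩ := (powPt_bijective m).surjective (j ≫ n)
  set F := Md.frame D
  have hg : Md.pt (F.prodPt e x) = j ≫ n ≫ RedSub.prodMap (Red.Ga S) m (fun k => D.u (e k)) := by
    rw [← Md.powPt_prodMap, hx, Category.assoc]
  have hmem : F.prodPt e x ∈ (subPts h₁ Md).mem B := ⟨j ≫ z, by rw [Category.assoc, h, hg]⟩
  have hU : (F.cochar lam.toAddMonoidHom).InU (F.prodPt e x) :=
    F.prodPt_inU lam.toAddMonoidHom _ (fun l => hrem _ (mem_rem D he l)) x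
  have he0 : RedSub.Enumerates (symPart D.P R' ∩ {i | 0 < lam.toAddMonoidHom (D.P.root i)})
      (Fin.elim0 : Fin 0 → D.idx) :=
    ⟨fun p => p.elim0, Set.ext fun a => ⟨fun ⟨k, _⟩ => k.elim0, fun ⟨h1, h2⟩ => by
      simp [hsym a h1] at h2⟩⟩
  obtain ⟨_, _, hsplit⟩ := exists_rootSplit D h₁ t₁ ht₁ hR₁ Md lam.toAddMonoidHom he0
  obtain ⟨y, hy⟩ := hsplit.exists_coords (tStable_subPts D h₁ t₁ ht₁ Md) hmem hU
  rw [← hg, MonObj.comp_one, ← hy, show y = 0 from funext fun k => k.elim0, prodPt_zero]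
  exact Md.pt_one

variable [GrpObj (RedSub.pow (Red.Ga S) m)] [IsMonHom (RedSub.prodMap (Red.Ga S) m (fun k => D.u (e k)))]
  (v : RedSub.pow (Red.Ga S) m ⟶ H') (hv : v ≫ h' = RedSub.prodMap (Red.Ga S) m (fun k => D.u (e k)))
  (f₁ : H₁ ⟶ H') (hf₁ : f₁ ≫ h' = h₁)

omit [QuasiCompact h'.left] [Smooth H'.hom] in
theorem mono_incl : Mono h' :=
  ⟨fun a b hab => Over.OverMorphism.ext ((cancel_mono h'.left).mp (congrArg CommaMorphism.left hab))⟩

include hv in
omit [QuasiCompact h'.left] [Smooth H'.hom] in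
theorem isMonHom_rem : IsMonHom v := by
  haveI := mono_incl h'
  haveI : IsMonHom (v ≫ h') := by rw [hv]; infer_instance
  constructor
  · rw [← cancel_mono h', Category.assoc, IsMonHom.one_hom (v ≫ h'), IsMonHom.one_hom h']
  · rw [← cancel_mono h', Category.assoc, IsMonHom.mul_hom (v ≫ h'), Category.assoc, IsMonHom.mul_hom h',
      ← Category.assoc, tensorHom_comp_tensorHom]

include hf₁ in
omit [QuasiCompact h'.left] [Smooth H'.hom] [QuasiCompact h₁.left] [Smooth H₁.hom] [IsImmersion h₁.left] in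
theorem isMonHom_sub : IsMonHom f₁ := by
  haveI := mono_incl h'
  haveI : IsMonHom (f₁ ≫ h') := by rw [hf₁]; infer_instance
  constructor
  · rw [← cancel_mono h', Category.assoc, IsMonHom.one_hom (f₁ ≫ h'), IsMonHom.one_hom h']
  · rw [← cancel_mono h', Category.assoc, IsMonHom.mul_hom (f₁ ≫ h'), Category.assoc, IsMonHom.mul_hom h',
      ← Category.assoc, tensorHom_comp_tensorHom]

include hv in
omit [QuasiCompact h'.left] [Smooth H'.hom] [IsImmersion h'.left] in
theorem isClosedImmersion_rem (hl : IsPosClosed D lam (List.ofFn e)) [IsSeparated h'.left] :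
    IsClosedImmersion v.left := by
  haveI : IsClosedImmersion (v.left ≫ h'.left) := by
    rw [← Over.comp_left, hv]; exact hl.isClosedImmersion_prodMap
  exact IsClosedImmersion.of_comp v.left h'.left

omit [QuasiCompact h₁.left] [Smooth H₁.hom] [IsImmersion h₁.left] [IsMonHom h₁] in
/-- A point of the product decomposition. -/
theorem decomp_val {X : Over S} (p : X ⟶ H₁ ⊗ RedSub.pow (Red.Ga S) m) :
    p ≫ ((f₁ ⊗ₘ v) ≫ μ[H']) = ((p ≫ fst _ _) ≫ f₁) * ((p ≫ snd _ _) ≫ v) := by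
  rw [CategoryTheory.Hom.mul_def, ← Category.assoc p]
  congr 1
  ext <;> simp

include t' ht' hR' hrem he in
/-- The subgroup normalises the remaining products. -/
theorem exists_conj [ConnectedSpace S] (hR : IsClosedSet D.P R') (hconn : RedSub.HasConnectedFibres H')
    {X : Over S} (y : X ⟶ H') (n : X ⟶ RedSub.pow (Red.Ga S) m) :
    ∃ n' : X ⟶ RedSub.pow (Red.Ga S) m,
      n' ≫ RedSub.prodMap (Red.Ga S) m (fun k => D.u (e k)) =
        (y ≫ h') * (n ≫ RedSub.prodMap (Red.Ga S) m (fun k => D.u (e k))) * (y ≫ h')⁻¹ := by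
  classical
  haveI := Groth.Agent.RedRk29.isReduced D
  haveI := Fintype.ofFinite D.idx
  have hl := isPosClosed_rem D hrem he hR
  have hm : ∀ c, c ∈ List.ofFn e ↔ c ∈ remPart D.P R' := mem_ofFn_of_enumerates he
  refine exists_conj_of_roots D h' t' ht' hR' hconn hl (fun b hb X s k hk => ?_) y n
  by_cases hbR : b ∈ remPart D.P R'
  · exact hl.mul (hl.mul (hl.U_mem ((hm b).mpr hbR) s) hk) (hl.inv (hl.U_mem ((hm b).mpr hbR) s))
  have hdouble : ∀ d : D.idx, D.P.root b + D.P.root b ≠ D.P.root d := fun d hd => by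
    have h1 := congrArg (D.P.coroot' b) hd
    rw [map_add, D.P.root_coroot'_eq_pairing, D.P.pairing_same, D.P.root_coroot'_eq_pairing] at h1
    have hdep : ¬ LinearIndependent ℤ ![D.P.root b, D.P.root d] := by
      rw [LinearIndependent.pair_iff]
      exact fun hh => absurd (hh 2 (-1) (by rw [← hd]; module)).1 (by norm_num)
    rcases RootPairing.IsReduced.eq_or_eq_neg (P := D.P) b d hdep with h2 | h2
    · rw [← D.P.root.injective h2, D.P.pairing_same] at h1; omega
    · have h3 : D.P.root d = -D.P.root b := by rw [h2, neg_neg]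
      have h4 := congrArg (D.P.coroot' b) h3
      rw [map_neg, D.P.root_coroot'_eq_pairing, D.P.root_coroot'_eq_pairing, D.P.pairing_same] at h4
      omega
  have hcl₂ : IsClosedSet D.P (insert b (remPart D.P R')) := fun a c d ha hc hd => by
    rcases ha with rfl | ha <;> rcases hc with rfl | hc
    · exact absurd hd (hdouble d)
    · exact Or.inr (hR.mem_rem hc hb (by rw [add_comm]; exact hd))
    · exact Or.inr (hR.mem_rem ha hb hd)
    · exact Or.inr (hR.mem_rem ha hc.1 hd)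
  have hneg₂ : ∀ a c, a ∈ insert b (remPart D.P R') → D.P.root c = -D.P.root a → c ∉ insert b (remPart D.P R') := by
    intro a c ha hac hc
    rcases ha with rfl | ha <;> rcases hc with rfl | hc
    · have h4 := congrArg (D.P.coroot' c) hac
      rw [map_neg, D.P.root_coroot'_eq_pairing, D.P.pairing_same] at h4
      omega
    · exact hc.2 (eq_opp (P := D.P) (a := c) (c := a) (by rw [hac, neg_neg]) ▸ hb)
    · exact ha.2 (eq_opp (P := D.P) hac ▸ hb)
    · exact rem_no_opp a c ha hac hc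
  obtain ⟨mu, hmu⟩ := hcl₂.exists_pos hneg₂
  have hl₁ : IsPosClosed D mu (List.ofFn e) :=
    IsPosClosed.of_enumerates hR.rem_isClosedSet (fun a ha => hmu a (Or.inr ha)) he
  have hset : {c | c ∈ b :: List.ofFn e} = insert b (remPart D.P R') := Set.ext fun c => by
    rw [Set.mem_ofPred_eq, List.mem_cons, hm, Set.mem_insert_iff]
  have hl₂ : IsPosClosed D mu (b :: List.ofFn e) :=
    ⟨List.nodup_cons.mpr ⟨fun hb' => hbR ((hm b).mp hb'), hl.nodup⟩, fun c hc => hmu c (hset ▸ hc), hset ▸ hcl₂⟩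
  exact hl₁.conj_root hl₂ X s hk

include t₁ ht₁ hR₁ hsym hrem he hv hf₁ in
/-- The multiplication map of the decomposition is a monomorphism. -/
theorem mono_decomp [ConnectedSpace S] (hR : IsClosedSet D.P R') : Mono ((f₁ ⊗ₘ v) ≫ μ[H']) := by
  haveI := (isPosClosed_rem D hrem he hR).mono_prodMap
  haveI : Mono h₁ := mono_incl h₁
  refine ⟨fun {X} p q hpq => ?_⟩
  rw [decomp_val v f₁ p, decomp_val v f₁ q] at hpq
  have h := congrArg (· ≫ h') hpq
  simp only [MonObj.mul_comp, Category.assoc, hf₁, hv] at h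
  set a := p ≫ fst _ _
  set b := p ≫ snd _ _
  set a' := q ≫ fst _ _
  set b' := q ≫ snd _ _
  simp only [← Category.assoc] at h
  have e1 : (a'⁻¹ * a) ≫ h₁ = (b' * b⁻¹) ≫ RedSub.prodMap (Red.Ga S) m (fun k => D.u (e k)) := by
    rw [MonObj.mul_comp, MonObj.mul_comp, GrpObj.inv_comp, GrpObj.inv_comp]
    exact eq_mul_inv_iff_mul_eq.mpr (by rw [mul_assoc]; exact inv_mul_eq_iff_eq_mul.mpr h)
  have e2 := disjoint D h₁ t₁ ht₁ hR₁ hsym hrem he _ _ e1
  have eb : b' = b := by
    rw [← mul_inv_eq_one, ← cancel_mono (RedSub.prodMap (Red.Ga S) m (fun k => D.u (e k))), e2, MonObj.one_comp]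
  have ea : a' = a := by
    rw [← inv_mul_eq_one, ← cancel_mono h₁, e1, e2, MonObj.one_comp]
  exact CartesianMonoidalCategory.hom_ext _ _ ea.symm eb.symm

include t' ht' hR' t₁ ht₁ hR₁ hsym hrem he hv hf₁ in
/-- The subgroup is the semidirect product of the two parts. -/
theorem isIso_decomp [ConnectedSpace S] (hR : IsClosedSet D.P R') (hconn : RedSub.HasConnectedFibres H') :
    IsIso ((f₁ ⊗ₘ v) ≫ μ[H']) := by
  classical
  haveI := mono_decomp D h' h₁ t₁ ht₁ hR₁ hsym hrem he v hv f₁ hf₁ hR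
  haveI := isMonHom_sub h' h₁ f₁ hf₁
  haveI := isMonHom_rem D h' v hv
  haveI := mono_incl h'
  set M := (f₁ ⊗ₘ v) ≫ μ[H']
  suffices hsurj : ∀ {X : Over S} (g : X ⟶ H'), ∃ p, p ≫ M = g by
    obtain ⟨s, hs⟩ := hsurj (𝟙 H')
    exact ⟨s, (cancel_mono M).mp (by rw [Category.assoc, hs, Category.comp_id, Category.id_comp]), hs⟩
  intro X y
  haveI := Fintype.ofFinite D.idx
  obtain ⟨nu, hreg, hnu⟩ := exists_regular_pos D lam hrem
  have henum : ∀ Ψ : Set D.idx, ∃ (k : ℕ) (c : Fin k → D.idx), RedSub.Enumerates Ψ c := fun Ψ => by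
    let c : Fin (Fintype.card Ψ) → D.idx := fun k => ((Fintype.equivFin Ψ).symm k).1
    refine ⟨_, c, fun p q hpq => (Fintype.equivFin Ψ).symm.injective (Subtype.ext hpq),
      Set.ext fun a => ⟨?_, fun ha => ⟨Fintype.equivFin Ψ ⟨a, ha⟩, by simp [c]⟩⟩⟩
    rintro ⟨k, rfl⟩
    exact ((Fintype.equivFin Ψ).symm k).2
  obtain ⟨n₀, eneg, hneg⟩ := henum (R' ∩ {i | 0 < (-nu) (D.P.root i)})
  obtain ⟨q, e1, he1⟩ := henum (symPart D.P R' ∩ {i | 0 < nu (D.P.root i)})
  let epos := Fin.append e1 e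
  have hpos : RedSub.Enumerates (R' ∩ {i | 0 < nu (D.P.root i)}) epos := by
    refine ⟨fun a b hab => ?_, Set.ext fun c => ⟨?_, fun ⟨hc, hc'⟩ => ?_⟩⟩
    · have hd : ∀ i j, e1 i ≠ e j := fun i j hij =>
        ((mem_rem D he j).2) (hij ▸ ((he1.2 ▸ Set.mem_range_self i : e1 i ∈ symPart D.P R' ∩ _)).1).2
      induction a using Fin.addCases <;> induction b using Fin.addCases <;>
        simp only [epos, Fin.append_left, Fin.append_right] at hab
      · exact congrArg _ (he1.1 hab)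
      · exact absurd hab (hd _ _)
      · exact absurd hab.symm (hd _ _)
      · exact congrArg _ (he.1 hab)
    · rintro ⟨k, rfl⟩
      induction k using Fin.addCases with
      | left i =>
        simp only [epos, Fin.append_left]
        have := (he1.2 ▸ Set.mem_range_self i : e1 i ∈ symPart D.P R' ∩ _)
        exact ⟨this.1.1, this.2⟩
      | right i =>
        simp only [epos, Fin.append_right]
        exact ⟨(mem_rem D he i).1, hnu _ (mem_rem D he i)⟩
    · rcases mem_or (P := D.P) hc with h | h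
      · obtain ⟨i, hi⟩ := (Set.ext_iff.mp he1.2 c).mpr ⟨h, hc'⟩
        exact ⟨Fin.castAdd m i, by simp [epos, hi]⟩
      · obtain ⟨i, hi⟩ := (Set.ext_iff.mp he.2 c).mpr h
        exact ⟨Fin.natAdd q i, by simp [epos, hi]⟩
  have hn1 : ∀ j, eneg j ∈ symPart D.P R' := fun j => by
    have hj := (Set.ext_iff.mp hneg.2 _).mp (Set.mem_range_self j)
    rcases mem_or (P := D.P) hj.1 with h | h
    · exact h
    · have := hnu _ h
      have := hj.2
      simp only [Set.mem_ofPred_eq, AddMonoidHom.neg_apply] at this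
      omega
  obtain ⟨c, hc⟩ := exists_cell_factor D h' t' ht' hR' (fun j => (hn1 j).1)
    (fun j => ((Set.ext_iff.mp hpos.2 _).mp (Set.mem_range_self j)).1)
  haveI := isOpenImmersion_cell D h' t' ht' hR' hreg hneg hpos c hc
  have hone : Set.range η[H'].left ⊆ Set.range c.left := by
    obtain ⟨o, ho⟩ := exists_one_cellMap D eneg epos
    have e2 : o ≫ c = η[H'] := by
      rw [← cancel_mono h', Category.assoc, hc, ho, IsMonHom.one_hom, MonObj.one_eq_one]
    rw [← e2, Over.comp_left]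
    rintro _ ⟨a, rfl⟩
    exact ⟨o.left a, rfl⟩
  haveI := surjective_mul_open c hconn hone
  haveI := flat_mul_open c
  haveI := locallyOfFinitePresentation_mul_open c
  -- points of the cell decompose
  have hcell : ∀ {Y : Over S} (w : Y ⟶ cellObj D n₀ (q + m)),
      ∃ (k : Y ⟶ H₁) (n : Y ⟶ RedSub.pow (Red.Ga S) m), w ≫ c = (k ≫ f₁) * (n ≫ v) := by
    intro Y w
    let K : Subgroup (Y ⟶ G) := (Groth.Agent.GrpSchLib.RankOne.postHom h₁ Y).range
    have hU : ∀ a ∈ symPart D.P R', ∀ s, Rank2Red38.U D Y a s ∈ K := fun a ha s => by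
      obtain ⟨va, hva⟩ := (hR₁ a).mpr ha
      refine ⟨(GrpSchLib.GaPts.ptOfFn s : Y ⟶ Red.Ga S) ≫ va, ?_⟩
      show (_ ≫ va) ≫ h₁ = _
      rw [Category.assoc, hva]
      rfl
    have hI : ∀ τ : Y ⟶ D.T, Rank2Red38.I D Y τ ∈ K := fun τ => ⟨τ ≫ t₁, by
      show (τ ≫ t₁) ≫ h₁ = τ ≫ D.i
      rw [Category.assoc, ht₁]⟩
    have hW : ∀ {k : ℕ} (d : Fin k → D.idx), (∀ j, d j ∈ symPart D.P R') → ∀ x : Fin k → Γ(Y.left, ⊤),
        wordPt D Y d x ∈ K := fun d hd x => list_prod_mem fun a ha => by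
      obtain ⟨j, rfl⟩ := List.mem_ofFn.mp ha
      exact hU _ (hd j) _
    set x := coord (w ≫ snd _ _ ≫ snd _ _)
    have hx : wordPt D Y epos x = wordPt D Y e1 (fun i => x (Fin.castAdd m i)) *
        wordPt D Y e (fun i => x (Fin.natAdd q i)) := by
      rw [← wordPt_append, Fin.append_castAdd_natAdd]
    have hw : w ≫ RedSub.cellMap D eneg epos = wordPt D Y eneg (coord (w ≫ fst _ _)) *
        (Rank2Red38.I D Y (w ≫ snd _ _ ≫ fst _ _) * wordPt D Y epos x) := by
      rw [RedSub.cellMap, MonObj.comp_mul, MonObj.comp_mul, ← Category.assoc w, comp_prodMap,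
        show w ≫ snd _ _ ≫ snd _ _ ≫ RedSub.prodMap (Red.Ga S) (q + m) (fun k => D.u (epos k)) =
          (w ≫ snd _ _ ≫ snd _ _) ≫ RedSub.prodMap (Red.Ga S) (q + m) (fun k => D.u (epos k)) by
            simp only [Category.assoc],
        comp_prodMap]
      congr 2
    obtain ⟨k, hk⟩ : wordPt D Y eneg (coord (w ≫ fst _ _)) *
        (Rank2Red38.I D Y (w ≫ snd _ _ ≫ fst _ _) * wordPt D Y e1 (fun i => x (Fin.castAdd m i))) ∈ K :=
      mul_mem (hW eneg hn1 _) (mul_mem (hI _) (hW e1 (fun i =>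
        ((he1.2 ▸ Set.mem_range_self i : e1 i ∈ symPart D.P R' ∩ _)).1) _))
    replace hk : k ≫ h₁ = _ := hk
    refine ⟨k, ofCoord fun i => x (Fin.natAdd q i), ?_⟩
    rw [← cancel_mono h', Category.assoc, hc, hw, hx, MonObj.mul_comp, Category.assoc, Category.assoc, hf₁, hv,
      comp_prodMap, coord_ofCoord, hk]
    simp only [mul_assoc]
  let P : Over S := Over.mk (pullback.fst y.left ((c ⊗ₘ c) ≫ μ[H']).left ≫ X.hom)
  let pX : P ⟶ X := Over.homMk (pullback.fst _ _) rfl
  let pC : P ⟶ cellObj D n₀ (q + m) ⊗ cellObj D n₀ (q + m) := Over.homMk (pullback.snd _ _) (by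
    show _ = pullback.fst _ _ ≫ X.hom
    rw [← Over.w ((c ⊗ₘ c) ≫ μ[H']), ← pullback.condition_assoc, Over.w y])
  have hP : pX ≫ y = pC ≫ (c ⊗ₘ c) ≫ μ[H'] := Over.OverMorphism.ext pullback.condition
  haveI : Surjective pX.left := MorphismProperty.pullback_fst _ _ inferInstance
  haveI : Flat pX.left := MorphismProperty.pullback_fst _ _ inferInstance
  haveI : LocallyOfFinitePresentation pX.left := MorphismProperty.pullback_fst _ _ inferInstance
  have hy : pX ≫ y = ((pC ≫ fst _ _) ≫ c) * ((pC ≫ snd _ _) ≫ c) := by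
    rw [hP, CategoryTheory.Hom.mul_def, ← Category.assoc pC]
    congr 1
    ext <;> simp
  obtain ⟨k₁, n₁, hw₁⟩ := hcell (pC ≫ fst _ _)
  obtain ⟨k₂, n₂, hw₂⟩ := hcell (pC ≫ snd _ _)
  obtain ⟨n', hn'⟩ := exists_conj D h' t' ht' hR' hrem he hR hconn (k₂⁻¹ ≫ f₁) n₁
  have hn : (k₂ ≫ f₁)⁻¹ * (n₁ ≫ v) * (k₂ ≫ f₁) = n' ≫ v := by
    rw [← cancel_mono h', Category.assoc n', hv, hn']
    simp only [MonObj.mul_comp, GrpObj.inv_comp, Category.assoc, hv, inv_inv]
  refine exists_factor_of_covers M (covers_of_fppf pX inferInstance inferInstance inferInstance) y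
    (lift (k₁ * k₂) (n' * n₂)) ?_
  rw [decomp_val v f₁, lift_fst, lift_snd, hy, hw₁, hw₂, MonObj.mul_comp, MonObj.mul_comp, ← hn]
  group

end Groth.Agent.RedSub30.Levi
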