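import Groth.Agent.RedSub30.CellKernel
import Groth.Agent.RootData.Weyl

/-!
# The root datum on the quotient of the character group by the lattice orthogonal to the coroots
-/

set_option autoImplicit false

universe u

open CategoryTheory MonoidalCategory CartesianMonoidalCategory AlgebraicGeometry

noncomputable section

namespace Groth.Agent.RedSub30.QuotDatum

variable {S : Scheme.{u}} {G : Over S} [GrpObj G] (D : Red.SplitRed G) (N : AddSubgroup D.M)
  (hN : ∀ m : D.M, m ∈ N ↔ ∀ a : D.idx, D.P.coroot a m = 0)

theorem toLinearMap_apply (x : D.M) (a : D.idx) : D.P.toLinearMap x (D.P.coroot a) = D.P.coroot a x := by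
  rw [D.pairing_eq]; rfl

include hN in
/-- The root lattice meets `N` trivially. -/
theorem eq_zero_of_mem {x : D.M} (hx : x ∈ D.P.rootSpan ℤ) (hxN : x ∈ N) : x = 0 :=
  RootData.eq_zero_of_rootSpan hx fun k => (toLinearMap_apply D x k).trans ((hN x).mp hxN k)

/-- The coroots on the quotient. -/
def coroot (a : D.idx) : Module.Dual ℤ (D.M ⧸ N) :=
  (QuotientAddGroup.lift N (D.P.coroot a).toAddMonoidHom fun x hx =>
    ((hN x).mp hx a : D.P.coroot a x = 0)).toIntLinearMap

theorem coroot_mk (a : D.idx) (x : D.M) : coroot D N hN a (QuotientAddGroup.mk' N x) = D.P.coroot a x := rfl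

include hN in
theorem mk_root_injective : Function.Injective fun a => QuotientAddGroup.mk' N (D.P.root a) := by
  intro a c h
  refine D.P.root.injective (sub_eq_zero.mp (eq_zero_of_mem D N hN
    (sub_mem (Submodule.subset_span ⟨a, rfl⟩) (Submodule.subset_span ⟨c, rfl⟩)) ?_))
  have h' : QuotientAddGroup.mk' N (D.P.root a - D.P.root c) = 0 := by rw [map_sub]; exact sub_eq_zero.mpr h
  exact (QuotientAddGroup.eq_zero_iff _).mp h'

/-- The root datum on `M/N`. -/
def datum [Module.Free ℤ (D.M ⧸ N)] [Module.Finite ℤ (D.M ⧸ N)] :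
    RootPairing D.idx ℤ (D.M ⧸ N) (Module.Dual ℤ (D.M ⧸ N)) where
  toLinearMap := Module.Dual.eval ℤ _
  root := ⟨fun a => QuotientAddGroup.mk' N (D.P.root a), mk_root_injective D N hN⟩
  coroot := ⟨coroot D N hN, fun a c h => D.P.coroot.injective (LinearMap.ext fun x => by
    rw [← coroot_mk D N hN, h, coroot_mk])⟩
  root_coroot_two a := (toLinearMap_apply D _ a).symm.trans (D.P.root_coroot_two a)
  reflectionPerm := D.P.reflectionPerm
  reflectionPerm_root a c := by
    show QuotientAddGroup.mk' N (D.P.root c) - coroot D N hN a (QuotientAddGroup.mk' N (D.P.root c)) •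
      QuotientAddGroup.mk' N (D.P.root a) = QuotientAddGroup.mk' N _
    rw [← map_zsmul, ← map_sub, coroot_mk, ← toLinearMap_apply, D.P.reflectionPerm_root]
  reflectionPerm_coroot a c := LinearMap.ext fun q => by
    obtain ⟨x, rfl⟩ := QuotientAddGroup.mk'_surjective N q
    show coroot D N hN c _ - D.P.coroot c (D.P.root a) * coroot D N hN a _ = coroot D N hN _ _
    rw [coroot_mk, coroot_mk, coroot_mk, ← D.P.reflectionPerm_coroot, toLinearMap_apply]
    rfl

variable [Module.Free ℤ (D.M ⧸ N)] [Module.Finite ℤ (D.M ⧸ N)]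

theorem root_apply (a : D.idx) : (datum D N hN).root a = QuotientAddGroup.mk' N (D.P.root a) := rfl

theorem pairing_eq : (datum D N hN).toLinearMap = Module.Dual.eval ℤ (D.M ⧸ N) := rfl

theorem reflection_comp (a : D.idx) :
    ((datum D N hN).reflection a).toLinearMap.toAddMonoidHom.comp (QuotientAddGroup.mk' N) =
      (QuotientAddGroup.mk' N).comp (D.P.reflection a).toLinearMap.toAddMonoidHom := by
  refine AddMonoidHom.ext fun x => ?_
  show (datum D N hN).reflection a (QuotientAddGroup.mk' N x) = QuotientAddGroup.mk' N (D.P.reflection a x)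
  rw [RootPairing.reflection_apply, RootPairing.reflection_apply, map_sub, map_zsmul]
  congr 2
  exact (toLinearMap_apply D x a).symm

end Groth.Agent.RedSub30.QuotDatum
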