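import Groth.Agent.RedSub30.ClosedConj
import Groth.Agent.RedSub30.QuotDatum
import Groth.Agent.RedSub30.ProdTorus
import Groth.Agent.RedSub30.ProdLevels
import Groth.Agent.RedRk29.RankOneGlue
import Groth.Agent.RedRk29.Geom
import Groth.Agent.RedRk29.Extremal

/-!
# Normal subgroups of the points of a symmetric root subgroup over an algebraically closed field
-/

set_option autoImplicit false
set_option maxHeartbeats 1000000

universe u

open CategoryTheory CategoryTheory.Limits AlgebraicGeometry MonoidalCategory CartesianMonoidalCategory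
open scoped MonObj

noncomputable section

namespace Groth.Agent.RedSub30.Symm

open GrpSchLib Rank2Red38 RedSub30.RootPoly BigCell29

variable {S : Scheme.{u}} {G : Over S} [GrpObj G] {D : Red.SplitRed G}

theorem root_neg (a : D.idx) : D.P.root (neg' D a) = -D.P.root a := root_neg' D a

/-- The reduced combination killed by the coroot of `a` vanishes only for `±a`. -/
theorem two_smul_sub_ne [Nonempty S] (a c : D.idx) (h1 : c ≠ a) (h2 : c ≠ neg' D a) :
    (2 : ℤ) • D.P.root c - D.P.coroot a (D.P.root c) • D.P.root a ≠ 0 := by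
  haveI := RedRk29.isReduced D
  intro h
  have hdep : ¬ LinearIndependent ℤ ![D.P.root c, D.P.root a] := by
    rw [LinearIndependent.pair_iff]
    exact fun hh => absurd (hh 2 (-D.P.coroot a (D.P.root c)) (by rw [neg_smul, ← sub_eq_add_neg, h])).1 (by norm_num)
  rcases RootPairing.IsReduced.eq_or_eq_neg (P := D.P) c a hdep with h3 | h3
  · exact h1 (D.P.root.injective h3)
  · exact h2 (D.P.root.injective (by rw [h3, root_neg]))

section Field

variable {R K : Type u} [CommRing R] [Field K] [IsAlgClosed K] [Algebra R K] (f : Spec (CommRingCat.of R) ⟶ S)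

theorem exists_avoid (F : Finset ℤ) : ∃ ζ : Kˣ, ∀ n ∈ F, n ≠ 0 → ζ ^ n ≠ 1 := by
  classical
  let P : Polynomial K := ∏ n ∈ F.filter (· ≠ 0), (Polynomial.X ^ n.natAbs - 1)
  have hP : P ≠ 0 := Finset.prod_ne_zero_iff.mpr fun n hn =>
    (Polynomial.monic_X_pow_sub_C (1 : K) (Int.natAbs_ne_zero.mpr (Finset.mem_filter.mp hn).2)).ne_zero
  obtain ⟨z, hz⟩ := Infinite.exists_notMem_finset (insert (0 : K) P.roots.toFinset)
  rw [Finset.mem_insert, not_or, Multiset.mem_toFinset] at hz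
  refine ⟨Units.mk0 z hz.1, fun n hn hn0 h => hz.2 ((Polynomial.mem_roots hP).mpr ?_)⟩
  have h' : (Units.mk0 z hz.1) ^ n.natAbs = 1 := by
    rcases Int.natAbs_eq n with e | e
    · rw [e, zpow_natCast] at h; exact h
    · rw [e, zpow_neg, zpow_natCast, inv_eq_one] at h; exact h
  show P.eval z = 0
  rw [Polynomial.eval_prod]
  refine Finset.prod_eq_zero (Finset.mem_filter.mpr ⟨hn, hn0⟩) ?_
  simpa [sub_eq_zero] using congrArg Units.val h'

/-- A torus point from a cocharacter. -/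
theorem exists_torPt (mu : D.M →+ ℤ) (z : Kˣ) : ∃ t : (tObj f K) ⟶ D.T, ∀ c : D.idx,
    (rootVal D (tObj f K) c t : Γ((tObj f K).left, ⊤)) = (tVal f K).symm ((z ^ mu (D.P.root c) : Kˣ) : K) := by
  let χ : Multiplicative D.M →* K :=
    (Units.coeHom K).comp ((zpowersHom Kˣ z).comp mu.toMultiplicative)
  refine ⟨chPt f χ ≫ D.split.inv.hom.hom, fun c => ?_⟩
  rw [rootVal_apply, Category.assoc,
    show D.split.inv.hom.hom ≫ D.split.hom.hom.hom = 𝟙 _ from congrArg (fun k => k.hom.hom) D.split.inv_hom_id,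
    Category.comp_id, ← gmFn_chi, gmFn_chPt_chi]
  rfl

/-- A torus point killed by `a` and by no root but `±a`. -/
theorem exists_torPt_ker [Nonempty S] (a : D.idx) : ∃ t : (tObj f K) ⟶ D.T, rootVal D (tObj f K) a t = 1 ∧
    ∀ c, c ≠ a → c ≠ neg' D a → (rootVal D (tObj f K) c t : Γ((tObj f K).left, ⊤)) ≠ 1 := by
  classical
  let w : D.idx → D.M := fun c => (2 : ℤ) • D.P.root c - D.P.coroot a (D.P.root c) • D.P.root a
  obtain ⟨ν, hν, -⟩ := RedRk29.exists_perturb (0 : D.M →+ ℤ) (Set.finite_range w)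
  let mu : D.M →+ ℤ := (2 : ℤ) • ν - ν (D.P.root a) • (D.P.coroot a).toAddMonoidHom
  have hmu : ∀ c, mu (D.P.root c) = ν (w c) := fun c => by
    simp [mu, w, map_sub, map_zsmul, mul_comm]
  obtain ⟨ζ, hζ⟩ := exists_avoid (K := K) (Finset.univ.image fun c => mu (D.P.root c))
  obtain ⟨t, ht⟩ := exists_torPt (D := D) f mu ζ
  refine ⟨t, Units.ext ?_, fun c h1 h2 h => ?_⟩
  · rw [ht, hmu, show w a = 0 by
      show (2 : ℤ) • D.P.root a - D.P.coroot a (D.P.root a) • D.P.root a = 0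
      rw [show D.P.coroot a (D.P.root a) = 2 from
        ((QuotDatum.toLinearMap_apply D _ a).symm.trans (D.P.root_coroot_two a))]; exact sub_self _,
      map_zero, zpow_zero, Units.val_one, map_one, Units.val_one]
  · rw [ht, ← map_one (tVal f K).symm] at h
    refine hζ _ (Finset.mem_image.mpr ⟨c, Finset.mem_univ _, rfl⟩) ?_ (Units.ext ((tVal f K).symm.injective h))
    rw [hmu]
    exact hν _ ⟨c, rfl⟩ (two_smul_sub_ne a c h1 h2)

/-- A torus point killed by no root. -/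
theorem exists_torPt_gen : ∃ t : (tObj f K) ⟶ D.T, ∀ c, (rootVal D (tObj f K) c t : Γ((tObj f K).left, ⊤)) ≠ 1 := by
  classical
  obtain ⟨mu, hmu, -⟩ := RedRk29.exists_perturb (0 : D.M →+ ℤ) (Set.finite_range D.P.root)
  obtain ⟨ζ, hζ⟩ := exists_avoid (K := K) (Finset.univ.image fun c => mu (D.P.root c))
  obtain ⟨t, ht⟩ := exists_torPt (D := D) f mu ζ
  refine ⟨t, fun c h => ?_⟩
  rw [ht, ← map_one (tVal f K).symm] at h
  exact hζ _ (Finset.mem_image.mpr ⟨c, Finset.mem_univ _, rfl⟩) (hmu _ ⟨c, rfl⟩ (D.P.ne_zero c))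
    (Units.ext ((tVal f K).symm.injective h))

/-- The values of a root exhaust the units. -/
theorem exists_torPt_val (a : D.idx) (m : Γ((tObj f K).left, ⊤)) (hm : m ≠ 0) :
    ∃ t : (tObj f K) ⟶ D.T, (rootVal D (tObj f K) a t : Γ((tObj f K).left, ⊤)) = m := by
  obtain ⟨z, hz⟩ := IsAlgClosed.exists_pow_nat_eq (tVal f K m) (n := 2) (by norm_num)
  have hz0 : z ≠ 0 := fun h => hm ((map_eq_zero_iff _ (tVal f K).injective).mp (by rw [← hz, h]; norm_num))
  obtain ⟨t, ht⟩ := exists_torPt (D := D) f (D.P.coroot a).toAddMonoidHom (Units.mk0 z hz0)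
  refine ⟨t, ?_⟩
  rw [ht, show (D.P.coroot a).toAddMonoidHom (D.P.root a) = 2 from
    (QuotDatum.toLinearMap_apply D _ a).symm.trans (D.P.root_coroot_two a)]
  apply (tVal f K).injective
  rw [RingEquiv.apply_symm_apply, Units.val_zpow_eq_zpow_val, Units.val_mk0, ← hz]
  norm_num

variable (Hs N : Subgroup ((tObj f K) ⟶ G)) (hNH : N ≤ Hs) (hnorm : ∀ g ∈ Hs, ∀ n ∈ N, g * n * g⁻¹ ∈ N)
  (hI : ∀ t, I D (tObj f K) t ∈ Hs)

include hI in
theorem torus_conj_mem {x : (tObj f K) ⟶ G} (hx : x ∈ Hs) (t : (tObj f K) ⟶ D.T) : I D (tObj f K) t * x * (I D (tObj f K) t)⁻¹ ∈ Hs :=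
  mul_mem (mul_mem (hI t) hx) (inv_mem (hI t))

include hI hnorm in
/-- The basic commutator move. -/
theorem move {y x : (tObj f K) ⟶ G} (hy : y ∈ Hs) (hg : y * x ∈ N) (t : (tObj f K) ⟶ D.T) :
    (y⁻¹ * (I D (tObj f K) t * y * (I D (tObj f K) t)⁻¹)) * ((I D (tObj f K) t * x * (I D (tObj f K) t)⁻¹) * x⁻¹) ∈ N := by
  have h1 : I D (tObj f K) t * (y * x) * (I D (tObj f K) t)⁻¹ * (y * x)⁻¹ ∈ N := mul_mem (hnorm _ (hI t) _ hg) (inv_mem hg)
  have h2 := hnorm _ (inv_mem hy) _ h1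
  convert h2 using 1
  group

/-- Conjugation of a root element by the torus, as a commutator. -/
theorem comm_U (c : D.idx) (t : (tObj f K) ⟶ D.T) (p : Γ((tObj f K).left, ⊤)) :
    (I D (tObj f K) t * U D (tObj f K) c p * (I D (tObj f K) t)⁻¹) * (U D (tObj f K) c p)⁻¹ = U D (tObj f K) c (((rootVal D (tObj f K) c t : Γ((tObj f K).left, ⊤)) - 1) * p) ∧
    (U D (tObj f K) c p)⁻¹ * (I D (tObj f K) t * U D (tObj f K) c p * (I D (tObj f K) t)⁻¹) = U D (tObj f K) c (((rootVal D (tObj f K) c t : Γ((tObj f K).left, ⊤)) - 1) * p) := by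
  rw [conj_U, ← (U_oneParam D c).neg, ← U_oneParam D c, ← U_oneParam D c]
  constructor <;> congr 1 <;> ring

theorem U_inj [Nontrivial Γ((tObj f K).left, ⊤)] (N' : HasNormalForm D) {c : D.idx} {p : Γ((tObj f K).left, ⊤)}
    (h : U D (tObj f K) c p = 1) : p = 0 := by
  obtain ⟨ν, hν, -⟩ := RedRk29.exists_perturb (D.P.coroot' c).toAddMonoidHom (Set.finite_range D.P.root)
  obtain ⟨lam, hgen, hpos⟩ := RedRk29.exists_generic_pos D c
  exact N'.inj lam hgen [c] (List.nodup_singleton c) (by simpa using hpos) (tObj f K) (fun _ => p) (fun _ => 0)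
    (by simp [rootProd, h, (U_oneParam D c).zero]) c (List.mem_singleton_self c)

include hI hnorm in
/-- Leading root of a positive product. -/
theorem strip [Nonempty S] {lam : Module.Dual ℤ D.M} (hgen : IsGeneric D lam) (P : ((tObj f K) ⟶ G) → Prop)
    (hP : ∀ y, P y → y ∈ Hs)
    (hP' : ∀ y, P y → ∀ t, P (y⁻¹ * (I D (tObj f K) t * y * (I D (tObj f K) t)⁻¹))) :
    ∀ l : List D.idx, l.Nodup → (∀ c ∈ l, 0 < lam (D.P.root c)) →
      l.Pairwise (fun c d => lam (D.P.root c) ≤ lam (D.P.root d)) →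
      (∀ c ∈ l, ∀ e, lam (D.P.root c) < lam (D.P.root e) → e ∈ l) →
      ∀ y x, P y → x ∈ Hs → InProd D (tObj f K) l x → x ≠ 1 → y * x ∈ N →
      ∃ y' a p, 0 < lam (D.P.root a) ∧ P y' ∧ U D (tObj f K) a p ∈ Hs ∧ U D (tObj f K) a p ≠ 1 ∧ y' * U D (tObj f K) a p ∈ N := by
  classical
  intro l
  induction l with
  | nil => rintro - - - - y x - - ⟨z, rfl⟩ hne; exact absurd rfl hne
  | cons a l ih =>
    intro hnd hpos hsort hup y x hy hxH ⟨z, hz⟩ hne hg
    obtain ⟨hal, hnd'⟩ := List.nodup_cons.mp hnd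
    obtain ⟨hale, hsort'⟩ := List.pairwise_cons.mp hsort
    have hpos' : ∀ c ∈ l, 0 < lam (D.P.root c) := fun c hc => hpos c (List.mem_cons_of_mem _ hc)
    have hup' : ∀ c ∈ l, ∀ e, lam (D.P.root c) < lam (D.P.root e) → e ∈ l := fun c hc e he => by
      rcases List.mem_cons.mp (hup c (List.mem_cons_of_mem _ hc) e he) with rfl | h
      · exact absurd (hale c hc) (not_le.mpr he)
      · exact h
    have hx' : x = U D (tObj f K) a (z a) * rootProd D (tObj f K) l z := hz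
    by_cases hr : rootProd D (tObj f K) l z = 1
    · rw [hr, mul_one] at hx'
      subst hx'
      exact ⟨y, a, z a, hpos a List.mem_cons_self, hy, hxH, hne, hg⟩
    by_cases hu : U D (tObj f K) a (z a) = 1
    · rw [hu, one_mul] at hx'
      exact ih hnd' hpos' hsort' hup' y x hy hxH ⟨z, hx'⟩ hne hg
    obtain ⟨t, hta, ht⟩ := exists_torPt_ker (D := D) (K := K) f a
    let r := rootProd D (tObj f K) l z
    have hclosed : ∀ l' : List D.idx, (∀ c ∈ l', 0 < lam (D.P.root c)) →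
        (∀ c ∈ l', ∀ e, lam (D.P.root c) < lam (D.P.root e) → e ∈ l') → IsClosedSet D.P {c | c ∈ l'} :=
      fun l' hp hu' c d e hc hd he => hu' c hc e (by
        have := hp d hd
        rw [← he, map_add]; omega)
    have hl : IsPosClosed D lam l := ⟨hnd', hpos', hclosed l hpos' hup'⟩
    have hl2 : IsPosClosed D lam (a :: l) := ⟨hnd, hpos, hclosed _ hpos hup⟩
    have hr' : I D (tObj f K) t * r * (I D (tObj f K) t)⁻¹ * r⁻¹ ≠ 1 := by
      intro h
      rw [mul_inv_eq_one] at h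
      have e : I D (tObj f K) t * r * (I D (tObj f K) t)⁻¹ = rootProd D (tObj f K) l fun c => (rootVal D (tObj f K) c t : Γ((tObj f K).left, ⊤)) * z c := by
        show MulAut.conj (I D (tObj f K) t) _ = _
        simp only [r, rootProd, map_list_prod, List.map_map]
        congr 1
        exact List.map_congr_left fun c _ => conj_U D c t (z c)
      rw [e] at h
      have hc := (Rank2Red38.hasNormalForm D).inj lam hgen l hnd' hpos' (tObj f K) _ z h
      refine hr ?_
      refine List.prod_eq_one fun g hg' => ?_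
      obtain ⟨c, hcl, rfl⟩ := List.mem_map.mp hg'
      have hca : c ≠ a := fun e => hal (e ▸ hcl)
      have hcn : c ≠ neg' D a := fun e => by
        have h1 := hpos' c hcl
        have h2 := hpos a List.mem_cons_self
        rw [e, root_neg, map_neg] at h1
        omega
      obtain ⟨v, hv⟩ : IsUnit ((rootVal D (tObj f K) c t : Γ((tObj f K).left, ⊤)) - 1) := by
        have : tVal f K ((rootVal D (tObj f K) c t : Γ((tObj f K).left, ⊤)) - 1) ≠ 0 :=
          (map_ne_zero_iff _ (tVal f K).injective).mpr (sub_ne_zero.mpr (ht c hca hcn))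
        simpa using (Ne.isUnit this).map (tVal f K).symm
      have h0 : ((rootVal D (tObj f K) c t : Γ((tObj f K).left, ⊤)) - 1) * z c = 0 := by rw [sub_mul, one_mul, hc c hcl, sub_self]
      rw [← hv] at h0
      rw [(Units.mul_right_eq_zero v).mp h0]
      exact (U_oneParam D c).zero
    have ex : I D (tObj f K) t * x * (I D (tObj f K) t)⁻¹ * x⁻¹ =
        U D (tObj f K) a (z a) * (I D (tObj f K) t * r * (I D (tObj f K) t)⁻¹ * r⁻¹) * (U D (tObj f K) a (z a))⁻¹ := by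
      have hfix : I D (tObj f K) t * U D (tObj f K) a (z a) * (I D (tObj f K) t)⁻¹ = U D (tObj f K) a (z a) := by
        rw [conj_U, hta, Units.val_one, one_mul]
      rw [hx', show I D (tObj f K) t * (U D (tObj f K) a (z a) * r) * (I D (tObj f K) t)⁻¹ =
        (I D (tObj f K) t * U D (tObj f K) a (z a) * (I D (tObj f K) t)⁻¹) * (I D (tObj f K) t * r * (I D (tObj f K) t)⁻¹) by group, hfix]
      group
      rfl
    have hne' : I D (tObj f K) t * x * (I D (tObj f K) t)⁻¹ * x⁻¹ ≠ 1 := by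
      rw [ex]
      exact fun h => hr' (conj_eq_one_iff.mp h)
    refine ih hnd' hpos' hsort' hup' _ _ (hP' y hy t) (mul_mem (torus_conj_mem f Hs hI hxH t) (inv_mem hxH)) ?_ hne'
      (move f Hs N hnorm hI (hP y hy) hg t)
    rw [ex]
    have hrp : InProd D (tObj f K) l r := ⟨z, rfl⟩
    have hin : InProd D (tObj f K) l (I D (tObj f K) t * r * (I D (tObj f K) t)⁻¹ * r⁻¹) := hl.mul (hl.conj_torus t hrp) (hl.inv hrp)
    obtain ⟨n, e, rfl⟩ : ∃ (n : ℕ) (e : Fin n → D.idx), List.ofFn e = l := ⟨l.length, l.get, List.ofFn_get l⟩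
    exact hl.conj_root hl2 (tObj f K) (z a) hin

/-- The sorted list of the positive roots. -/
theorem exists_sorted (lam : Module.Dual ℤ D.M) : ∃ l : List D.idx, l.Nodup ∧ (∀ c ∈ l, 0 < lam (D.P.root c)) ∧
    l.Pairwise (fun c d => lam (D.P.root c) ≤ lam (D.P.root d)) ∧
    (∀ c ∈ l, ∀ e, lam (D.P.root c) < lam (D.P.root e) → e ∈ l) ∧ ∀ c, 0 < lam (D.P.root c) → c ∈ l := by
  classical
  haveI : Std.Total fun c d : D.idx => lam (D.P.root c) ≤ lam (D.P.root d) := ⟨fun c d => le_total _ _⟩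
  haveI : IsTrans D.idx fun c d : D.idx => lam (D.P.root c) ≤ lam (D.P.root d) := ⟨fun _ _ _ => le_trans⟩
  let l₀ := (Finset.univ.filter fun c => 0 < lam (D.P.root c)).toList
  let l := l₀.insertionSort fun c d => lam (D.P.root c) ≤ lam (D.P.root d)
  have hm : ∀ c, c ∈ l ↔ 0 < lam (D.P.root c) := fun c => by simp [l, l₀]
  exact ⟨l, (List.perm_insertionSort _ l₀).nodup_iff.mpr (Finset.nodup_toList _), fun c hc => (hm c).mp hc,
    List.pairwise_insertionSort _ _, fun c hc e he => (hm e).mpr (((hm c).mp hc).trans he), fun c hc => (hm c).mpr hc⟩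

theorem mul_eq_zero_iff_field {x y : Γ((tObj f K).left, ⊤)} : x * y = 0 ↔ x = 0 ∨ y = 0 := by
  simp only [← map_eq_zero_iff (tVal f K) (tVal f K).injective, map_mul, mul_eq_zero]

theorem map_mul_eq (t τ : (tObj f K) ⟶ D.T) : I D (tObj f K) t * I D (tObj f K) τ = I D (tObj f K) τ * I D (tObj f K) t := by
  rw [← map_mul, torus_comm, map_mul]

/-- A product fixed by a torus point moving every root is trivial. -/
theorem eq_one_of_comm [Nonempty S] {lam : Module.Dual ℤ D.M} (hgen : IsGeneric D lam) {l : List D.idx}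
    (hnd : l.Nodup) (hpos : ∀ c ∈ l, 0 < lam (D.P.root c)) {r : (tObj f K) ⟶ G} (hr : InProd D (tObj f K) l r) (t : (tObj f K) ⟶ D.T)
    (ht : ∀ c ∈ Set.univ, (rootVal D (tObj f K) c t : Γ((tObj f K).left, ⊤)) ≠ 1) (h : I D (tObj f K) t * r * (I D (tObj f K) t)⁻¹ = r) : r = 1 := by
  obtain ⟨z, rfl⟩ := hr
  have e : I D (tObj f K) t * rootProd D (tObj f K) l z * (I D (tObj f K) t)⁻¹ =
      rootProd D (tObj f K) l fun c => (rootVal D (tObj f K) c t : Γ((tObj f K).left, ⊤)) * z c := by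
    show MulAut.conj (I D (tObj f K) t) _ = _
    simp only [rootProd, map_list_prod, List.map_map]
    congr 1
    exact List.map_congr_left fun c _ => conj_U D c t (z c)
  rw [e] at h
  have hc := (Rank2Red38.hasNormalForm D).inj lam hgen l hnd hpos (tObj f K) _ z h
  refine List.prod_eq_one fun g hg' => ?_
  obtain ⟨c, hcl, rfl⟩ := List.mem_map.mp hg'
  have h0 : ((rootVal D (tObj f K) c t : Γ((tObj f K).left, ⊤)) - 1) * z c = 0 := by rw [sub_mul, one_mul, hc c hcl, sub_self]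
  rcases (mul_eq_zero_iff_field f).mp h0 with h1 | h1
  · exact absurd (sub_eq_zero.mp h1) (ht c trivial)
  · rw [h1]; exact (U_oneParam D c).zero

include hI hnorm hNH in
theorem exists_root_pair {a : D.idx} {p q : Γ((tObj f K).left, ⊤)} (hu : U D (tObj f K) a p ∈ Hs) (hp : U D (tObj f K) a p ≠ 1)
    (hq : U D (tObj f K) (neg' D a) q ≠ 1) (hg : U D (tObj f K) a p * U D (tObj f K) (neg' D a) q ∈ N) :
    ∃ c r, U D (tObj f K) c r ∈ Hs ∧ U D (tObj f K) c r ≠ 1 ∧ U D (tObj f K) c r ∈ N := by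
  classical
  have hp0 : p ≠ 0 := fun h => hp (by rw [h, (U_oneParam D a).zero])
  let Q : Polynomial K := (Polynomial.X ^ 2 - Polynomial.X + 1)
  have hQ : Q ≠ 0 := fun h => by
    have := congrArg (Polynomial.eval (0 : K)) h
    simp [Q] at this
  haveI : Nontrivial Γ((tObj f K).left, ⊤) := (tVal f K).symm.injective.nontrivial
  obtain ⟨m, hm⟩ := Infinite.exists_notMem_finset (insert (0 : K) (insert 1 Q.roots.toFinset))
  simp only [Finset.mem_insert, not_or, Multiset.mem_toFinset] at hm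
  obtain ⟨hm0, hm1, hmQ⟩ := hm
  have hmQ' : m ^ 2 - m + 1 ≠ 0 := fun h => hmQ ((Polynomial.mem_roots hQ).mpr (by
    show Q.eval m = 0
    simpa [Q] using h))
  let e := (tVal f K).symm
  have hee : e (m⁻¹) * e m = 1 := by rw [← map_mul, inv_mul_cancel₀ hm0, map_one]
  obtain ⟨t, ht⟩ := exists_torPt_val (D := D) f a (e m) ((map_ne_zero_iff _ e.injective).mpr hm0)
  have hν : e (m⁻¹) - 1 ≠ 0 := by
    rw [← map_one e, ← map_sub, Ne, map_eq_zero_iff _ e.injective, sub_eq_zero, inv_eq_one]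
    exact hm1
  obtain ⟨t₂, ht₂⟩ := exists_torPt_val (D := D) f a (e (m⁻¹) - 1) hν
  have hconj : ∀ (v : (tObj f K) ⟶ D.T) (x y : Γ((tObj f K).left, ⊤)),
      I D (tObj f K) v * (U D (tObj f K) a x * U D (tObj f K) (neg' D a) y) * (I D (tObj f K) v)⁻¹ =
        U D (tObj f K) a ((rootVal D (tObj f K) a v : Γ((tObj f K).left, ⊤)) * x) *
          U D (tObj f K) (neg' D a) (((rootVal D (tObj f K) a v)⁻¹ : Γ((tObj f K).left, ⊤)ˣ) * y) := fun v x y => by
    rw [← rootVal_neg', ← conj_U, ← conj_U]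
    group
  have hinvt : (((rootVal D (tObj f K) a t)⁻¹ : Γ((tObj f K).left, ⊤)ˣ) : Γ((tObj f K).left, ⊤)) = e m⁻¹ :=
    Units.inv_eq_of_mul_eq_one_left (by rw [ht, hee])
  have h1 : U D (tObj f K) a ((e m - 1) * p) * U D (tObj f K) (neg' D a) ((e m⁻¹ - 1) * q) ∈ N := by
    have hc := hconj t p q
    rw [ht, hinvt] at hc
    have hgq : U D (tObj f K) (neg' D a) q ∈ Hs := by
      have := mul_mem (inv_mem hu) (hNH hg)
      rwa [inv_mul_cancel_left] at this
    have hh := hnorm _ hgq _ (mul_mem (inv_mem hg) (hnorm _ (hI t) _ hg))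
    rw [hc] at hh
    convert hh using 1
    rw [sub_mul, sub_mul, one_mul, one_mul, sub_eq_add_neg, sub_eq_add_neg, add_comm (e m * p),
      U_oneParam D a, U_oneParam D (neg' D a), (U_oneParam D a).neg, (U_oneParam D (neg' D a)).neg]
    group
  have h2 := hnorm _ (hI t₂) _ h1
  rw [hconj] at h2
  have hq2 : (((rootVal D (tObj f K) a t₂)⁻¹ : Γ((tObj f K).left, ⊤)ˣ) : Γ((tObj f K).left, ⊤)) * ((e m⁻¹ - 1) * q) = q := by
    rw [← mul_assoc, ← ht₂, Units.inv_mul, one_mul]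
  rw [hq2, ht₂] at h2
  have h3 := mul_mem h2 (inv_mem hg)
  rw [show ∀ A B C : (tObj f K) ⟶ G, A * B * (C * B)⁻¹ = A * C⁻¹ from fun A B C => by group,
    ← (U_oneParam D a).neg, ← U_oneParam D a] at h3
  refine ⟨a, _, hNH h3, ?_, h3⟩
  intro h
  have h4 := U_inj f (Rank2Red38.hasNormalForm D) h
  have h5 : ((e m⁻¹ - 1) * (e m - 1) - 1) * p = 0 := by linear_combination h4
  rcases (mul_eq_zero_iff_field f).mp h5 with h6 | h6
  · refine hmQ' ?_
    have h7 := congrArg (tVal f K) h6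
    simp only [e, map_sub, map_mul, map_one, map_zero, RingEquiv.apply_symm_apply] at h7
    field_simp at h7
    linear_combination -h7
  · exact hp0 h6

include hI hnorm hNH in
/-- A normal subgroup containing an element of the cell off the torus contains a root element. -/
theorem exists_root_mem [Nonempty S] {lam : Module.Dual ℤ D.M} (hgen : IsGeneric D lam) {lp ln : List D.idx}
    (hlp : lp.Nodup) (hlp' : ∀ c ∈ lp, 0 < lam (D.P.root c)) (hln : ln.Nodup) (hln' : ∀ c ∈ ln, 0 < (-lam) (D.P.root c))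
    {y x : (tObj f K) ⟶ G} (τ : (tObj f K) ⟶ D.T) (hy : y ∈ Hs) (hx : x ∈ Hs) (hyp : InProd D (tObj f K) ln y) (hxp : InProd D (tObj f K) lp x)
    (hne : y ≠ 1 ∨ x ≠ 1) (hg : y * (I D (tObj f K) τ * x) ∈ N) :
    ∃ a p, U D (tObj f K) a p ∈ Hs ∧ U D (tObj f K) a p ≠ 1 ∧ U D (tObj f K) a p ∈ N := by
  classical
  haveI : Nontrivial Γ((tObj f K).left, ⊤) := (tVal f K).symm.injective.nontrivial
  have hgen' : IsGeneric D (-lam) := fun c h => hgen c (by simpa using h)
  obtain ⟨Lp, Lp1, Lp2, Lp3, Lp4, Lp5⟩ := exists_sorted (D := D) lam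
  obtain ⟨Ln, Ln1, Ln2, Ln3, Ln4, Ln5⟩ := exists_sorted (D := D) (-lam)
  have hLp : IsPosClosed D lam Lp := ⟨Lp1, Lp2, fun c d e hc hd he => Lp4 c hc e (by
    have := Lp2 d hd; rw [← he, map_add]; omega)⟩
  have hLn : IsPosClosed D (-lam) Ln := ⟨Ln1, Ln2, fun c d e hc hd he => Ln4 c hc e (by
    have := Ln2 d hd
    simp only [LinearMap.neg_apply] at this ⊢
    rw [← he, map_add]; omega)⟩
  have upP : InProd D (tObj f K) Lp x := by
    obtain ⟨z, rfl⟩ := hxp
    exact hLp.inProd_sub z lp fun c hc hn => absurd (Lp5 c (hlp' c hc)) hn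
  have upN : InProd D (tObj f K) Ln y := by
    obtain ⟨z, rfl⟩ := hyp
    exact hLn.inProd_sub z ln fun c hc hn => absurd (Ln5 c (hln' c hc)) hn
  have hinv : ∀ {w u : (tObj f K) ⟶ G}, w * u ∈ N → w ∈ Hs → w⁻¹ * u⁻¹ ∈ N := fun {w u} h hw => by
    have := hnorm _ (inv_mem hw) _ (inv_mem h)
    convert this using 1
    group
  have hinv' : ∀ {w u : (tObj f K) ⟶ G}, w * u ∈ N → w ∈ Hs → u⁻¹ * w⁻¹ ∈ N := fun {w u} h _ => by
    have := inv_mem h
    rwa [mul_inv_rev] at this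
  -- the first move
  obtain ⟨t, ht⟩ := exists_torPt_gen (D := D) (K := K) f
  replace ht : ∀ c ∈ Set.univ, (rootVal D (tObj f K) c t : Γ((tObj f K).left, ⊤)) ≠ 1 := fun c _ => ht c
  let y₁ := y⁻¹ * (I D (tObj f K) t * y * (I D (tObj f K) t)⁻¹)
  let x₀ := I D (tObj f K) t * x * (I D (tObj f K) t)⁻¹ * x⁻¹
  let x₁ := I D (tObj f K) τ * x₀ * (I D (tObj f K) τ)⁻¹
  have hx₀ : InProd D (tObj f K) Lp x₀ := hLp.mul (hLp.conj_torus t upP) (hLp.inv upP)
  have hy₁ : InProd D (tObj f K) Ln y₁ := hLn.mul (hLn.inv upN) (hLn.conj_torus t upN)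
  have hy₁H : y₁ ∈ Hs := mul_mem (inv_mem hy) (torus_conj_mem f Hs hI hy t)
  have hx₁H : x₁ ∈ Hs := torus_conj_mem f Hs hI (mul_mem (torus_conj_mem f Hs hI hx t) (inv_mem hx)) τ
  have hg₁ : y₁ * x₁ ∈ N := by
    have h := move f Hs N hnorm hI hy hg t
    convert h using 2
    have hc := map_mul_eq (D := D) f t τ
    simp only [x₁, x₀]
    rw [show I D (tObj f K) t * (I D (tObj f K) τ * x) * (I D (tObj f K) t)⁻¹ * (I D (tObj f K) τ * x)⁻¹ =
      (I D (tObj f K) t * I D (tObj f K) τ) * x * (I D (tObj f K) t)⁻¹ * x⁻¹ * (I D (tObj f K) τ)⁻¹ by group, hc]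
    group
  have hne₁ : y₁ ≠ 1 ∨ x₁ ≠ 1 := by
    rcases hne with h | h
    · refine Or.inl fun e => h ?_
      exact eq_one_of_comm f (lam := -lam) hgen' Ln1 Ln2 upN t ht (inv_mul_eq_one.mp e).symm
    · refine Or.inr fun e => h ?_
      exact eq_one_of_comm f hgen Lp1 Lp2 upP t ht (mul_inv_eq_one.mp (conj_eq_one_iff.mp e))
  -- reduce one side to a root element
  obtain ⟨c, q, hcH, hc1, w, hwQ, hwH, hwN⟩ : ∃ c q, U D (tObj f K) c q ∈ Hs ∧ U D (tObj f K) c q ≠ 1 ∧
      ∃ w, (w = 1 ∨ ∃ (a : D.idx) (p : Γ((tObj f K).left, ⊤)), c ≠ a ∧ w = U D (tObj f K) a p) ∧ w ∈ Hs ∧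
        w * U D (tObj f K) c q ∈ N := by
    by_cases hx1 : x₁ = 1
    · obtain ⟨w, a, p, -, rfl, hH, h1, hN⟩ := strip f Hs N hnorm hI (lam := -lam) hgen' (fun w => w = 1)
        (fun w hw => hw ▸ one_mem Hs) (fun w hw t => by subst hw; group) Ln Ln1 Ln2 Ln3 Ln4 1 y₁ rfl hy₁H hy₁
        (hne₁.resolve_right (not_not.mpr hx1)) (by rwa [hx1, mul_one, ← one_mul y₁] at hg₁)
      exact ⟨a, p, hH, h1, 1, Or.inl rfl, one_mem _, hN⟩
    obtain ⟨w, a, p, hap, ⟨hwH, hwI⟩, hH, h1, hN⟩ := strip f Hs N hnorm hI hgen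
      (fun w => w ∈ Hs ∧ InProd D (tObj f K) Ln w) (fun w hw => hw.1)
      (fun w hw t => ⟨mul_mem (inv_mem hw.1) (torus_conj_mem f Hs hI hw.1 t),
        hLn.mul (hLn.inv hw.2) (hLn.conj_torus t hw.2)⟩)
      Lp Lp1 Lp2 Lp3 Lp4 y₁ x₁ ⟨hy₁H, hy₁⟩ hx₁H (hLp.conj_torus τ hx₀) hx1 hg₁
    by_cases hw1 : w = 1
    · exact ⟨a, p, hH, h1, 1, Or.inl rfl, one_mem _, hw1 ▸ hN⟩
    have hsw : U D (tObj f K) a (-p) * w⁻¹ ∈ N := by rw [(U_oneParam D a).neg]; exact hinv' hN hwH
    obtain ⟨u, c, q, hcq, ⟨huH, q', rfl⟩, hH', h1', hN'⟩ := strip f Hs N hnorm hI (lam := -lam) hgen'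
      (fun u => u ∈ Hs ∧ ∃ q, u = U D (tObj f K) a q) (fun u hu => hu.1)
      (fun u hu t => by
        obtain ⟨hu', q, rfl⟩ := hu
        exact ⟨mul_mem (inv_mem hu') (torus_conj_mem f Hs hI hu' t), _, (comm_U f a t q).2⟩)
      Ln Ln1 Ln2 Ln3 Ln4 _ w⁻¹ ⟨by rw [(U_oneParam D a).neg]; exact inv_mem hH, -p, rfl⟩ (inv_mem hwH) (hLn.inv hwI)
      (inv_ne_one.mpr hw1) hsw
    exact ⟨c, q, hH', h1', _, Or.inr ⟨a, q', fun e => by simp only [e, LinearMap.neg_apply] at hcq; omega, rfl⟩, huH, hN'⟩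
  -- two root elements
  obtain rfl | ⟨a, p, hca, rfl⟩ := hwQ
  · exact ⟨c, q, hcH, hc1, by rwa [one_mul] at hwN⟩
  by_cases hp : U D (tObj f K) a p = 1
  · exact ⟨c, q, hcH, hc1, by rwa [hp, one_mul] at hwN⟩
  by_cases hcn : c = neg' D a
  · subst hcn
    exact exists_root_pair f Hs N hNH hnorm hI hwH hp hc1 hwN
  obtain ⟨t, hta, ht⟩ := exists_torPt_ker (D := D) (K := K) f a
  have h := move f Hs N hnorm hI hwH hwN t
  rw [(comm_U f a t p).2, hta, Units.val_one, sub_self, zero_mul, (U_oneParam D a).zero, one_mul,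
    (comm_U f c t q).1] at h
  refine ⟨c, ((rootVal D (tObj f K) c t : Γ((tObj f K).left, ⊤)) - 1) * q, ?_, ?_, h⟩
  · rw [← (comm_U f c t q).1]; exact mul_mem (torus_conj_mem f Hs hI hcH t) (inv_mem hcH)
  · intro e
    have := (mul_eq_zero_iff_field f).mp (U_inj f (Rank2Red38.hasNormalForm D) e)
    rcases this with h0 | h0
    · exact ht c hca hcn (sub_eq_zero.mp h0)
    · exact hc1 (by rw [h0, (U_oneParam D c).zero])

include hI hnorm in
/-- A root element in the normal subgroup brings the root group. -/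
theorem rootGroup_mem {a : D.idx} {p : Γ((tObj f K).left, ⊤)} (hp : U D (tObj f K) a p ≠ 1)
    (hN : U D (tObj f K) a p ∈ N) (s : Γ((tObj f K).left, ⊤)) : U D (tObj f K) a s ∈ N := by
  by_cases hs : s = 0
  · rw [hs, (U_oneParam D a).zero]; exact one_mem N
  have hp0 : p ≠ 0 := fun h => hp (by rw [h, (U_oneParam D a).zero])
  let e := (tVal f K).symm
  let v := e (tVal f K s * (tVal f K p)⁻¹)
  have hv : v ≠ 0 := by
    rw [Ne, map_eq_zero_iff _ e.injective, mul_eq_zero, inv_eq_zero, map_eq_zero_iff _ (tVal f K).injective,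
      map_eq_zero_iff _ (tVal f K).injective]
    tauto
  obtain ⟨t, ht⟩ := exists_torPt_val (D := D) f a v hv
  have h := hnorm _ (hI t) _ hN
  rw [conj_U, ht] at h
  have hvp : v * p = s := (tVal f K).injective (by
    simp only [v, e, map_mul, RingEquiv.apply_symm_apply]
    rw [inv_mul_cancel_right₀]
    exact (map_ne_zero_iff _ (tVal f K).injective).mpr hp0)
  rwa [hvp] at h

include hI hnorm hNH in
/-- A normal subgroup with a root element, whose opposite root group lies in the ambient subgroup, contains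
a coroot. -/
theorem exists_coroot_mem {a : D.idx} {p : Γ((tObj f K).left, ⊤)} (hp : U D (tObj f K) a p ≠ 1)
    (hN : U D (tObj f K) a p ∈ N) (hneg : ∀ s, U D (tObj f K) (neg' D a) s ∈ Hs)
    (v : Γ((tObj f K).left, ⊤)ˣ) : I D (tObj f K) (av D (tObj f K) a v) ∈ N := by
  classical
  haveI : Nontrivial Γ((tObj f K).left, ⊤) := (tVal f K).symm.injective.nontrivial
  obtain ⟨c, hc⟩ := RedRk29.exists_isDualPair D a
  let X := tObj f K
  let d : Γ(X.left, ⊤) := X.hom.appTop.hom (c : Γ(S, ⊤))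
  have hd : IsUnit d := c.isUnit.map _
  have hUa := rootGroup_mem f Hs N hnorm hI hp hN
  have key : ∀ v : Γ(X.left, ⊤)ˣ,
      ∃ r, (r = 0 → (v : Γ(X.left, ⊤)) = 1) ∧ U D X (neg' D a) r * I D X (av D X a v) ∈ N := by
    intro v
    let x : X ⟶ Red.Ga S := GaPts.ptOfFn 1
    let y : X ⟶ Red.Ga S := GaPts.ptOfFn (↑hd.unit⁻¹ * ((v : Γ(X.left, ⊤)) - 1))
    have hxy : 1 + d * Red.gaFn x * Red.gaFn y = (v : Γ(X.left, ⊤)) := by
      simp only [x, y, GaPts.gaFn_ptOfFn, mul_one]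
      rw [← mul_assoc, IsUnit.mul_val_inv, one_mul, add_sub_cancel]
    obtain ⟨x', y', z, hz, -, hy', hrel⟩ := hc X x y (by rw [hxy]; exact v.isUnit)
    rw [hxy] at hz
    refine ⟨Red.gaFn y' - Red.gaFn y, fun h => ?_, ?_⟩
    · rw [sub_eq_zero.mp h, hz] at hy'
      by_contra hv1
      have h0 : Red.gaFn y = 0 := by
        rcases (mul_eq_zero_iff_field f).mp (show Red.gaFn y * ((v : Γ(X.left, ⊤)) - 1) = 0 by
          rw [mul_sub, hy', mul_one, sub_self]) with h0 | h0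
        · exact h0
        · exact absurd (sub_eq_zero.mp h0) hv1
      simp only [y, GaPts.gaFn_ptOfFn] at h0
      rcases (mul_eq_zero_iff_field f).mp h0 with h1 | h1
      · exact (hd.unit⁻¹).ne_zero h1
      · exact hv1 (sub_eq_zero.mp h1)
    have hz' : z ≫ Red.DSmap S (D.P.coroot a).toAddMonoidHom ≫ D.split.inv.hom.hom ≫ D.i = I D X (av D X a v) := by
      have : z = GmPts.ptOfUnit v := GmPts.gmFn_injective (hz.trans (GmPts.gmFn_ptOfUnit v).symm)
      rw [this]
      show _ = (GmPts.ptOfUnit v ≫ Red.DSmap S (D.P.coroot a).toAddMonoidHom ≫ D.split.inv.hom.hom) ≫ D.i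
      simp only [Category.assoc]
    have hrel' : U D X a (Red.gaFn x) * U D X (neg' D a) (Red.gaFn y) =
        U D X (neg' D a) (Red.gaFn y') * I D X (av D X a v) * U D X a (Red.gaFn x') := by
      rw [← hz', ← pt_comp_eq, ← pt_comp_eq, ← pt_comp_eq, ← pt_comp_eq]
      exact hrel
    rw [sub_eq_add_neg, add_comm, U_oneParam D (neg' D a)]
    have hw : U D X (neg' D a) (-Red.gaFn y) * U D X a (Red.gaFn x) * U D X (neg' D a) (Red.gaFn y) *
        (U D X a (Red.gaFn x'))⁻¹ ∈ N := by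
      refine mul_mem ?_ (inv_mem (hUa _))
      rw [(U_oneParam D (neg' D a)).neg]
      have := hnorm _ (inv_mem (hneg (Red.gaFn y))) _ (hUa (Red.gaFn x))
      rwa [inv_inv] at this
    rw [mul_assoc (U D X (neg' D a) (-Red.gaFn y)) (U D X a _) _, hrel'] at hw
    convert hw using 1
    group
  -- the opposite root group
  obtain ⟨μ₀, hμ₀⟩ := Infinite.exists_notMem_finset ({0, 1} : Finset K)
  simp only [Finset.mem_insert, Finset.mem_singleton, not_or] at hμ₀
  let v₀ : Γ(X.left, ⊤)ˣ := (((Units.mk0 μ₀ hμ₀.1).isUnit).map (tVal f K).symm).unit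
  have hv₀ : (v₀ : Γ(X.left, ⊤)) ≠ 1 := fun h => hμ₀.2 ((tVal f K).symm.injective (h.trans (map_one _).symm))
  obtain ⟨r, hr, hmem⟩ := key v₀
  have hr0 : r ≠ 0 := fun h => hv₀ (hr h)
  obtain ⟨t, ht⟩ := exists_torPt_val (D := D) f (neg' D a) ((tVal f K).symm μ₀)
    ((map_ne_zero_iff _ (tVal f K).symm.injective).mpr hμ₀.1)
  have hneg' : U D X (neg' D a) (((tVal f K).symm μ₀ - 1) * r) ∈ N := by
    rw [sub_mul, one_mul, sub_eq_add_neg, U_oneParam D (neg' D a), ← ht, ← conj_U, (U_oneParam D (neg' D a)).neg]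
    have h := mul_mem (hnorm _ (hI t) _ hmem) (inv_mem hmem)
    convert h using 1
    have hcm := map_mul_eq (D := D) f t (av D X a v₀)
    rw [mul_inv_rev]
    calc _ = I D X t * U D X (neg' D a) r * (I D X (av D X a v₀) * (I D X t)⁻¹ * (I D X (av D X a v₀))⁻¹) *
          (U D X (neg' D a) r)⁻¹ := by
            rw [show I D X (av D X a v₀) * (I D X t)⁻¹ * (I D X (av D X a v₀))⁻¹ = (I D X t)⁻¹ by
              rw [mul_inv_eq_iff_eq_mul, eq_inv_mul_iff_mul_eq, ← mul_assoc, hcm, mul_inv_cancel_right]]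
      _ = _ := by group; rfl
  have hne : U D X (neg' D a) (((tVal f K).symm μ₀ - 1) * r) ≠ 1 := fun h => by
    rcases (mul_eq_zero_iff_field f).mp (U_inj f (Rank2Red38.hasNormalForm D) h) with h1 | h1
    · exact hμ₀.2 ((tVal f K).symm.injective ((sub_eq_zero.mp h1).trans (map_one _).symm))
    · exact hr0 h1
  have hUn := rootGroup_mem f Hs N hnorm hI hne hneg'
  obtain ⟨r', -, hmem'⟩ := key v
  exact (mul_mem_cancel_left (hUn r')).mp hmem'

end Field

end Groth.Agent.RedSub30.Symm
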