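import Groth.Agent.RedSub30.LeviProd
import Groth.Agent.RedSub30.TypeRRadical
import Groth.Agent.RedSub30.SymmUnip
import Groth.Agent.RedSub30.DerFibres
import Groth.Agent.MaxTorusLib.Basic
import Groth.Agent.GrpSchLib.HomClosedRange
import Groth.Agent.S0348

/-!
# Normal subgroups without tori in a subgroup of type (R) with closed root set
-/

set_option autoImplicit false
set_option maxHeartbeats 1000000
set_option synthInstance.maxHeartbeats 100000

universe u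

open CategoryTheory CategoryTheory.Limits MonoidalCategory CartesianMonoidalCategory AlgebraicGeometry WithConv
open scoped MonObj AddMonoidAlgebra

namespace Groth.Agent.RedSub30.Levi

open BigCell29 RootPoly GrpSchLib.AffineHopf

/-- An immersion of groups of finite type over a field is a closed immersion. -/
theorem isClosedImmersion_of_immersion {k : Type u} [Field k] {A B : Over (Spec (CommRingCat.of k))} [GrpObj A]
    [GrpObj B] [LocallyOfFiniteType A.hom] [LocallyOfFiniteType B.hom] (i : A ⟶ B) [IsMonHom i]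
    [IsImmersion i.left] [QuasiCompact i.left] : IsClosedImmersion i.left :=
  IsClosedImmersion.of_isPreimmersion i.left (GrpSchLib.HomClosedRange.isClosed_range i)

variable {S : Scheme.{u}} {G H' H₁ : Over S} [GrpObj G] [GrpObj H'] [GrpObj H₁] (D : Red.SplitRed G) {R' : Set D.idx}
  (h' : H' ⟶ G) [IsMonHom h'] [IsImmersion h'.left] [QuasiCompact h'.left] [Smooth H'.hom]
  (t' : D.T ⟶ H') (ht' : t' ≫ h' = D.i)
  (hR' : ∀ a : D.idx, (∃ v : Red.Ga S ⟶ H', v ≫ h' = D.u a) ↔ a ∈ R')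
  (h₁ : H₁ ⟶ G) [IsMonHom h₁] [IsImmersion h₁.left] [QuasiCompact h₁.left] [Smooth H₁.hom]
  (t₁ : D.T ⟶ H₁) (ht₁ : t₁ ≫ h₁ = D.i)
  (hR₁ : ∀ a : D.idx, (∃ v : Red.Ga S ⟶ H₁, v ≫ h₁ = D.u a) ↔ a ∈ symPart D.P R')
  {lam : Module.Dual ℤ D.M} (hsym : ∀ a ∈ symPart D.P R', lam (D.P.root a) = 0)
  (hrem : ∀ a ∈ remPart D.P R', 0 < lam (D.P.root a))
  {m : ℕ} {e : Fin m → D.idx} (he : RedSub.Enumerates (remPart D.P R') e)
  [GrpObj (RedSub.pow (Red.Ga S) m)] [IsMonHom (RedSub.prodMap (Red.Ga S) m (fun k => D.u (e k)))]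
  (v : RedSub.pow (Red.Ga S) m ⟶ H') (hv : v ≫ h' = RedSub.prodMap (Red.Ga S) m (fun k => D.u (e k)))
  (f₁ : H₁ ⟶ H') (hf₁ : f₁ ≫ h' = h₁) [IsIso ((f₁ ⊗ₘ v) ≫ μ[H'])]

include hf₁ hv in
/-- The projection to the subgroup of the symmetric part retracts the inclusion. -/
theorem incl_proj : f₁ ≫ inv ((f₁ ⊗ₘ v) ≫ μ[H']) ≫ fst _ _ = 𝟙 H₁ := by
  haveI := isMonHom_rem D h' v hv
  have e1 : f₁ = lift (𝟙 H₁) 1 ≫ ((f₁ ⊗ₘ v) ≫ μ[H']) := by
    rw [decomp_val v f₁, lift_fst, lift_snd, Category.id_comp, MonObj.one_comp, mul_one]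
  refine (congrArg (· ≫ inv ((f₁ ⊗ₘ v) ≫ μ[H']) ≫ fst _ _) e1).trans ?_
  rw [Category.assoc, IsIso.hom_inv_id_assoc, lift_fst]

include t' ht' hR' hrem he hv hf₁ in
/-- The projection to the subgroup of the symmetric part is multiplicative. -/
theorem proj_mul [ConnectedSpace S] (hR : IsClosedSet D.P R') (hconn : RedSub.HasConnectedFibres H') {X : Over S}
    (g₁ g₂ : X ⟶ H') :
    (g₁ * g₂) ≫ inv ((f₁ ⊗ₘ v) ≫ μ[H']) ≫ fst _ _ =
      (g₁ ≫ inv ((f₁ ⊗ₘ v) ≫ μ[H']) ≫ fst _ _) * (g₂ ≫ inv ((f₁ ⊗ₘ v) ≫ μ[H']) ≫ fst _ _) := by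
  haveI := isMonHom_sub h' h₁ f₁ hf₁
  haveI := isMonHom_rem D h' v hv
  haveI := mono_incl h'
  set M := (f₁ ⊗ₘ v) ≫ μ[H']
  set p₁ := g₁ ≫ inv M with hp₁
  set p₂ := g₂ ≫ inv M with hp₂
  have e₁ : g₁ = ((p₁ ≫ fst _ _) ≫ f₁) * ((p₁ ≫ snd _ _) ≫ v) := by rw [← decomp_val v f₁]; simp [p₁, M]
  have e₂ : g₂ = ((p₂ ≫ fst _ _) ≫ f₁) * ((p₂ ≫ snd _ _) ≫ v) := by rw [← decomp_val v f₁]; simp [p₂, M]
  obtain ⟨n', hn'⟩ := exists_conj D h' t' ht' hR' hrem he hR hconn ((p₂ ≫ fst _ _)⁻¹ ≫ f₁) (p₁ ≫ snd _ _)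
  have hn : ((p₂ ≫ fst _ _) ≫ f₁)⁻¹ * ((p₁ ≫ snd _ _) ≫ v) * ((p₂ ≫ fst _ _) ≫ f₁) = n' ≫ v := by
    rw [← cancel_mono h', Category.assoc n', hv, hn']
    simp only [MonObj.mul_comp, GrpObj.inv_comp, Category.assoc, hv, inv_inv]
  let p : X ⟶ H₁ ⊗ RedSub.pow (Red.Ga S) m := lift ((p₁ ≫ fst _ _) * (p₂ ≫ fst _ _)) (n' * (p₂ ≫ snd _ _))
  have e : p ≫ M = g₁ * g₂ := by
    rw [decomp_val v f₁, lift_fst, lift_snd, MonObj.mul_comp, MonObj.mul_comp, ← hn, e₁, e₂]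
    group
  rw [← e, Category.assoc, IsIso.hom_inv_id_assoc, lift_fst]
  simp only [hp₁, hp₂, Category.assoc]
  rfl

include t' ht' hR' hrem he hv hf₁ in
theorem isMonHom_proj [ConnectedSpace S] (hR : IsClosedSet D.P R') (hconn : RedSub.HasConnectedFibres H') :
    IsMonHom (inv ((f₁ ⊗ₘ v) ≫ μ[H']) ≫ fst H₁ (RedSub.pow (Red.Ga S) m)) := by
  have hmul : ∀ {X : Over S} (g₁ g₂ : X ⟶ H'), (g₁ * g₂) ≫ inv ((f₁ ⊗ₘ v) ≫ μ[H']) ≫ fst _ _ =
      (g₁ ≫ inv ((f₁ ⊗ₘ v) ≫ μ[H']) ≫ fst _ _) * (g₂ ≫ inv ((f₁ ⊗ₘ v) ≫ μ[H']) ≫ fst _ _) :=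
    fun g₁ g₂ => proj_mul D h' t' ht' hR' h₁ hrem he v hv f₁ hf₁ hR hconn g₁ g₂
  have key := hmul (1 : 𝟙_ (Over S) ⟶ H') 1
  rw [one_mul] at key
  refine ⟨?_, ?_⟩
  · rw [MonObj.one_eq_one, MonObj.one_eq_one]
    exact (mul_eq_left.mp key.symm)
  · have key2 := hmul (fst H' H') (snd H' H')
    rw [show fst H' H' * snd H' H' = μ[H'] by
      rw [CategoryTheory.Hom.mul_def, lift_fst_snd, Category.id_comp]] at key2
    refine key2.trans ?_
    rw [CategoryTheory.Hom.mul_def]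
    congr 1

variable {U' : Over S} [GrpObj U'] (u' : U' ⟶ H') [IsMonHom u'] [IsClosedImmersion u'.left] [Smooth U'.hom]
  (hnorm : AlgGrp.IsNormalHom u')

include t' ht' hR' t₁ ht₁ hR₁ hsym hrem he hv hf₁ hnorm in
/-- A normal closed subgroup contains the projections of its points. -/
theorem exists_sym_part [ConnectedSpace S] (hconn₁ : RedSub.HasConnectedFibres H₁) :
    ∃ r : U' ⟶ U', r ≫ u' = (u' ≫ inv ((f₁ ⊗ₘ v) ≫ μ[H']) ≫ fst _ _) ≫ f₁ := by
  classical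
  haveI := mono_incl h'
  haveI : IsImmersion (u' ≫ h').left := by rw [Over.comp_left]; infer_instance
  obtain ⟨r, hr⟩ := exists_factor_of_pts (u' ≫ h') (((u' ≫ inv ((f₁ ⊗ₘ v) ≫ μ[H']) ≫ fst _ _) ≫ f₁) ≫ h')
    fun R _ f _ B _ _ j => by
    haveI : IsAffineHom G.hom := D.reductive.1
    obtain ⟨A, _, _, ⟨Md⟩⟩ := exists_model f G
    set F := Md.frame D
    set q := (j ≫ u') ≫ inv ((f₁ ⊗ₘ v) ≫ μ[H']) with hq
    obtain ⟨x, hx⟩ := (powPt_bijective m).surjective (q ≫ snd _ _)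
    obtain ⟨k₀, hk₀⟩ := Md.pt_bijective.surjective ((q ≫ fst _ _) ≫ h₁)
    have hg : Md.pt (k₀ * F.prodPt e x) = (j ≫ u') ≫ h' := by
      rw [Md.pt_mul, hk₀, ← Md.powPt_prodMap, hx,
        show j ≫ u' = q ≫ ((f₁ ⊗ₘ v) ≫ μ[H']) by simp [hq], decomp_val v f₁ q, MonObj.mul_comp,
        Category.assoc _ f₁ h', hf₁, Category.assoc _ v h', hv]
    have hm : ∀ l, e l ∈ remPart D.P R' := mem_rem D he
    -- the family interpolating between the point and its projection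
    let n : Fin m → ℤ := fun l => lam (D.P.root (e l))
    let z : Fin m → nonneg R B := fun l => ⟨AddMonoidAlgebra.single (n l) (x l), fun k hk => by
      have : (0 : ℤ) < n l := hrem _ (hm l)
      rw [AddMonoidAlgebra.coeff_single, Finsupp.single_apply, if_neg (by omega)]⟩
    have hk₀' : InSub h' Md k₀ := ⟨(q ≫ fst _ _) ≫ f₁, by rw [Category.assoc, hf₁, hk₀]⟩
    let gX : Pt R A (nonneg R B) := mapPt (cst0 R B) k₀ * F.prodPt e z
    obtain ⟨yX, hyX⟩ : InSub h' Md gX := (mul_mem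
      ((InSub.map h' Md (cst0 R B) hk₀') : mapPt (cst0 R B) k₀ ∈ (subPts h' Md).mem _)
      (prodPt_mem (W := subPts h' Md) _ (fun l => full_of_mem D h' hR' Md (hm l).1) z) :
        gX ∈ (subPts h' Md).mem (nonneg R B))
    let c : B →ₐ[R] B[ℤ] := AddMonoidAlgebra.singleZeroAlgHom
    let ν : Multiplicative D.M →* B[ℤ] := (AddMonoidAlgebra.of B ℤ).comp lam.toAddMonoidHom.toMultiplicative
    obtain ⟨tν, htν⟩ : InSub h' Md (F.T.tor ν) := tor_mem D h' t' ht' Md _ ν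
    obtain ⟨w, hw⟩ := hnorm _ tν (tMap f c ≫ j)
    have hcomm : Commute (F.T.tor ν) (mapPt c k₀) := by
      have h1 := torus_comm_of_rootVal D h₁ t₁ ht₁ hR₁ hconn₁ (chPt f ν ≫ D.split.inv.hom.hom) (fun a ha => by
        refine Units.ext ?_
        rw [Rank2Red38.rootVal_chPt, Units.val_one,
          show ν (Multiplicative.ofAdd (D.P.root a)) = AddMonoidAlgebra.single (lam (D.P.root a)) (1 : B) from rfl,
          hsym a ha, ← AddMonoidAlgebra.one_def, map_one]) (tMap f c ≫ q ≫ fst _ _)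
      refine Md.pt_bijective.injective ?_
      rw [Md.pt_mul, Md.pt_mul, Md.pt_tor, Md.pt_map, hk₀, ← Category.assoc (tMap f c),
        show torG (f := f) D ν = Rank2Red38.I D _ (chPt f ν ≫ D.split.inv.hom.hom) from (Category.assoc _ _ _).symm]
      exact h1
    have hval : mapPt (nonneg R B).val gX = F.T.tor ν * mapPt c (k₀ * F.prodPt e x) * (F.T.tor ν)⁻¹ := by
      rw [map_mul, map_mul, mapPt_mapPt, F.mapPt_prodPt, F.mapPt_prodPt,
        show (nonneg R B).val.comp (cst0 R B) = c from AlgHom.ext fun _ => rfl]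
      have e1 : F.prodPt e ((nonneg R B).val ∘ z) = F.T.tor ν * F.prodPt e (c ∘ x) * (F.T.tor ν)⁻¹ := by
        rw [conj_prodPt]
        refine congrArg (F.prodPt e) (funext fun l => ?_)
        show AddMonoidAlgebra.single (n l) (x l) =
          AddMonoidAlgebra.single (lam (D.P.root (e l))) (1 : B) * AddMonoidAlgebra.single 0 (x l)
        rw [AddMonoidAlgebra.single_mul_single, add_zero, one_mul]
      rw [e1, ← mul_assoc, ← mul_assoc, ← hcomm.eq, mul_assoc (F.T.tor ν)]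
    have hwX : tMap f (nonneg R B).val ≫ yX = w ≫ u' := by
      rw [← cancel_mono h', ← hw, Category.assoc, hyX, ← Md.pt_map, hval, Md.pt_mul, Md.pt_mul, Md.pt_inv, ← htν,
        Md.pt_map, hg, MonObj.mul_comp, MonObj.mul_comp, GrpObj.inv_comp, Category.assoc, Category.assoc,
        Category.assoc]
    obtain ⟨l, hl⟩ := exists_factor_of_injective u'.left (CommRingCat.ofHom (nonneg R B).val.toRingHom)
      Subtype.val_injective yX.left w.left (congrArg CommaMorphism.left hwX)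
    let lX : tObj f (nonneg R B) ⟶ U' := Over.homMk l (by rw [← Over.w u', reassoc_of% hl, Over.w yX])
    have hlX : lX ≫ u' = yX := Over.OverMorphism.ext hl
    refine ⟨tMap f (ev0 R B) ≫ lX, ?_⟩
    rw [Category.assoc, reassoc_of% hlX, hyX, ← Md.pt_map, map_mul, mapPt_mapPt, F.mapPt_prodPt,
      show (ev0 R B).comp (cst0 R B) = AlgHom.id R B from AlgHom.ext fun a => ev0_cst0 (R := R) a, mapPt_id,
      show ev0 R B ∘ z = 0 from funext fun l => by
        have : (0 : ℤ) < n l := hrem _ (hm l)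
        show (AddMonoidAlgebra.single (n l) (x l)).coeff 0 = 0
        rw [AddMonoidAlgebra.coeff_single, Finsupp.single_apply, if_neg (by omega)],
      prodPt_zero, mul_one, hk₀]
    simp only [hq, Category.assoc, hf₁]
  exact ⟨r, (cancel_mono h').mp (by rw [Category.assoc, hr])⟩

end Groth.Agent.RedSub30.Levi
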