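import Groth.Agent.RedSub30.LeviFibre
import Groth.Agent.RedSub30.LeviClosed
import Groth.Agent.RedSub30.GeomConn

/-!
# Reductive fibres of subgroups of type (R) with symmetric root set
-/

set_option autoImplicit false
set_option maxHeartbeats 1000000
set_option synthInstance.maxHeartbeats 100000

universe u

open CategoryTheory CategoryTheory.Limits MonoidalCategory CartesianMonoidalCategory AlgebraicGeometry
open scoped MonObj

noncomputable section

namespace Groth.Agent.RedSub30.Sym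

open BigCell29 RootPoly GrpSchLib CellChar

variable {S : Scheme.{u}} {G H : Over S} [GrpObj G] [GrpObj H] (D : Red.SplitRed G) (h : H ⟶ G)
  [IsMonHom h] [IsImmersion h.left] [QuasiCompact h.left] [Smooth H.hom] (t : D.T ⟶ H) (ht : t ≫ h = D.i)
  {R' : Set D.idx} (hR' : ∀ a : D.idx, (∃ v : Red.Ga S ⟶ H, v ≫ h = D.u a) ↔ a ∈ R')

omit [Smooth H.hom] [QuasiCompact h.left] in
include ht in
theorem isMonHom_incl_torus : IsMonHom t := by
  haveI := Levi.mono_incl h
  haveI : IsMonHom (t ≫ h) := by rw [ht]; exact D.maximalTorus.1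
  constructor
  · rw [← cancel_mono h, Category.assoc, IsMonHom.one_hom (t ≫ h), IsMonHom.one_hom h]
  · rw [← cancel_mono h, Category.assoc, IsMonHom.mul_hom (t ≫ h), Category.assoc, IsMonHom.mul_hom h,
      ← Category.assoc, tensorHom_comp_tensorHom]

omit [Smooth H.hom] [QuasiCompact h.left] in
include ht in
theorem isClosedImmersion_incl_torus : IsClosedImmersion t.left := by
  haveI : IsAffineHom G.hom := D.reductive.1
  haveI := D.maximalTorus.2.1
  haveI := D.maximalTorus.1
  haveI : IsClosedImmersion D.i.left := TorusClosed.isClosedImmersion_of_mono D.i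
    (GrpSchLib.RankOne.isMultTypeFT_of_isTorus D.maximalTorus.2.2.1)
  haveI : IsClosedImmersion (t.left ≫ h.left) := by rw [← Over.comp_left, ht]; infer_instance
  exact IsClosedImmersion.of_comp t.left h.left

variable (s : S) {U : Over (Spec (CommRingCat.of (AlgebraicClosure (S.residueField s))))} [GrpObj U] [Smooth U.hom]
  [IsAffineHom U.hom] (iU : U ⟶ Red.geomFibre s H) [IsMonHom iU] [IsClosedImmersion iU.left]

include t ht in
/-- A group without tori contains no coroot. -/
theorem false_of_coroot (hno : Red.HasNoSubtorus (AlgebraicClosure (S.residueField s)) U) (a : D.idx)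
    (hco : ∀ v : Γ((tObj (Red.geomPt s) (AlgebraicClosure (S.residueField s))).left, ⊤)ˣ,
      ∃ z : 𝟙_ (Over (Spec (CommRingCat.of (AlgebraicClosure (S.residueField s))))) ⟶ U,
        fibPt s (z ≫ iU) ≫ h = Rank2Red38.I D _ (Rank2Red38.av D _ a v)) : False := by
  classical
  haveI := Levi.mono_incl h
  let K := AlgebraicClosure (S.residueField s)
  let X := tObj (Red.geomPt s) K
  let F := Over.pullback (Red.geomPt s)
  haveI := isMonHom_incl_torus D h t ht
  let q : Red.Gm S ⟶ H := Rank2Red38.corootHom D a ≫ t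
  haveI : Smooth (Red.Gm S).hom := smooth_DS S ℤ
  haveI : Smooth (Red.geomFibre s (Red.Gm S)).hom := MorphismProperty.pullback_snd _ _ ‹_›
  haveI : Mono iU := Over.mono_of_mono_left _
  have hpt : ∀ g : X ⟶ Red.Gm S, g ≫ q ≫ h = Rank2Red38.I D X (Rank2Red38.av D X a (GmPts.unitOfPt g)) := by
    intro g
    show g ≫ (Rank2Red38.corootHom D a ≫ t) ≫ h = (GmPts.ptOfUnit (GmPts.unitOfPt g) ≫ Rank2Red38.corootHom D a) ≫ D.i
    rw [GmPts.ptOfUnit_unitOfPt]
    simp only [Category.assoc, ht]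
  obtain ⟨c, hc⟩ := exists_fac_of_rat_pts (F.map q) iU fun x => by
    obtain ⟨z, hz⟩ := hco (GmPts.unitOfPt (fibPt s x))
    refine ⟨z, (fibPt_bijective s H).injective ?_⟩
    rw [fibPt_map s q x, ← cancel_mono h, Category.assoc, hz]
    exact (hpt _).symm
  haveI : IsMonHom c := by
    haveI : IsMonHom (c ≫ iU) := by rw [hc]; infer_instance
    constructor
    · rw [← cancel_mono iU, Category.assoc, IsMonHom.one_hom (c ≫ iU), IsMonHom.one_hom iU]
    · rw [← cancel_mono iU, Category.assoc, IsMonHom.mul_hom (c ≫ iU), Category.assoc,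
        IsMonHom.mul_hom iU, ← Category.assoc, tensorHom_comp_tensorHom]
  have hT : Red.IsTorus (Red.Gm S) := by
    obtain ⟨e⟩ := MaxTorusLib.nonempty_DS_congr (U := S)
      (((LinearEquiv.funUnique (Fin 1) ℤ ℤ).toAddEquiv : (Fin 1 → ℤ) ≃+ ℤ))
    first
      | exact MaxTorusLib.isTorus_of_iso e (MaxTorusLib.isTorus_DS S 1)
      | exact MaxTorusLib.isTorus_of_iso e.symm (MaxTorusLib.isTorus_DS S 1)
  obtain ⟨Q, _, j, p, hj, -, hcl, -, -, hpj, hQ⟩ :=
    MaxTorusLib.exists_image_torus (RedSub30.TorusAbsorb.isTorus_bc (Red.geomPt s) hT) c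
  haveI := hj
  haveI := hcl
  haveI : Mono j := Over.mono_of_mono_left _
  haveI : IsIso Q.hom := hno Q j hQ
  have hone : p = 1 := Over.OverMorphism.ext ((cancel_mono Q.hom).mp (by rw [Over.w, Over.w]))
  have hq1 : F.map q = 1 := by rw [← hc, ← hpj, hone, MonObj.one_comp, MonObj.one_comp]
  haveI : Nontrivial Γ(X.left, ⊤) := (tVal (Red.geomPt s) K).symm.injective.nontrivial
  obtain ⟨ζ, hζ⟩ := Symm.exists_avoid (K := K) ({2} : Finset ℤ)
  let w : Γ(X.left, ⊤)ˣ := Units.map (tVal (Red.geomPt s) K).symm.toRingHom.toMonoidHom ζ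
  obtain ⟨x, hx⟩ := (fibPt_bijective s (Red.Gm S)).surjective (GmPts.ptOfUnit w)
  have h1 : fibPt s (x ≫ F.map q) = GmPts.ptOfUnit w ≫ q := by rw [fibPt_map, hx]
  have h2 : fibPt s (x ≫ F.map q) = 1 := by
    rw [hq1, MonObj.comp_one]
    exact (MonoidHom.mk' (fibPt s (Y := H)) (fibPt_mul s H)).map_one
  have h3 : Rank2Red38.I D X (Rank2Red38.av D X a (GmPts.unitOfPt (GmPts.ptOfUnit w))) = 1 := by
    rw [← hpt, ← Category.assoc, ← h1, h2, MonObj.one_comp]
  haveI : Mono D.i := D.maximalTorus.2.1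
  have h4 : Rank2Red38.av D X a (GmPts.unitOfPt (GmPts.ptOfUnit w)) = 1 := by
    rw [← cancel_mono D.i]
    exact h3.trans (MonObj.one_comp (D.i)).symm
  have h5 := congrArg (Rank2Red38.rootVal D X a) h4
  rw [Rank2Red38.rootVal_av, map_one, D.P.pairing_same, GmPts.unitOfPt_ptOfUnit] at h5
  have h6 : Units.map (tVal (Red.geomPt s) K).symm.toRingHom.toMonoidHom (ζ ^ (2 : ℤ)) = 1 := by
    rw [map_zpow]; exact h5
  refine hζ 2 (Finset.mem_singleton_self _) (by norm_num) ?_
  exact Units.ext ((tVal (Red.geomPt s) K).symm.injective ((congrArg Units.val h6).trans (map_one _).symm))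

include t ht hR' in
/-- A normal subgroup without tori of a geometric fibre is trivial. -/
theorem eq_one_of_normal [ConnectedSpace S] (hsymm : ∀ a ∈ R', D.P.reflectionPerm a a ∈ R')
    [ConnectedSpace U.left] (hnorm : AlgGrp.IsNormalHom iU)
    (hno : Red.HasNoSubtorus (AlgebraicClosure (S.residueField s)) U) : iU = 1 := by
  classical
  haveI := Levi.mono_incl h
  let K := AlgebraicClosure (S.residueField s)
  let f := Red.geomPt s
  let X := tObj f K
  let F := Over.pullback f
  haveI : IsAffine U.left := isAffine_of_isAffineHom U.hom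
  haveI := isMonHom_incl_torus D h t ht
  haveI := isClosedImmersion_incl_torus D h t ht
  obtain ⟨lam, hreg, -⟩ := exists_regular_pos D (Ψ := (∅ : Set D.idx)) 0 (fun a ha => absurd ha (Set.notMem_empty a))
  obtain ⟨p, eneg, hneg⟩ := Valuation.exists_enum D (R' ∩ {i | 0 < (-lam) (D.P.root i)})
  obtain ⟨q, epos, hpos⟩ := Valuation.exists_enum D (R' ∩ {i | 0 < lam (D.P.root i)})
  have hnm : ∀ j, eneg j ∈ R' ∧ 0 < (-lam) (D.P.root (eneg j)) :=
    fun j => (Set.ext_iff.mp hneg.2 _).mp (Set.mem_range_self j)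
  have hpm : ∀ j, epos j ∈ R' ∧ 0 < lam (D.P.root (epos j)) :=
    fun j => (Set.ext_iff.mp hpos.2 _).mp (Set.mem_range_self j)
  obtain ⟨c₁, hc₁⟩ := exists_cell_factor D h t ht hR' (fun j => (hnm j).1) (fun j => (hpm j).1)
  haveI := isOpenImmersion_cell D h t ht hR' hreg hneg hpos c₁ hc₁
  let Hs : Subgroup (X ⟶ G) := (RankOne.postHom h X).range
  let N : Subgroup (X ⟶ G) := (MonoidHom.mk' (fun z : 𝟙_ (Over (Spec (CommRingCat.of K))) ⟶ U =>
    fibPt s (z ≫ iU) ≫ h) fun x y => by rw [MonObj.mul_comp, fibPt_mul, MonObj.mul_comp]).range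
  have hNH : N ≤ Hs := by
    rintro _ ⟨z, rfl⟩
    exact ⟨fibPt s (z ≫ iU), rfl⟩
  have hI : ∀ τ : X ⟶ D.T, Rank2Red38.I D X τ ∈ Hs := fun τ => ⟨τ ≫ t, by
    show (τ ≫ t) ≫ h = τ ≫ D.i
    rw [Category.assoc, ht]⟩
  have hU : ∀ a ∈ R', ∀ x, Rank2Red38.U D X a x ∈ Hs := fun a ha x => by
    obtain ⟨va, hva⟩ := (hR' a).mpr ha
    refine ⟨(GaPts.ptOfFn x : X ⟶ Red.Ga S) ≫ va, ?_⟩
    show (_ ≫ va) ≫ h = _
    rw [Category.assoc, hva]
    rfl
  have hNn : ∀ g ∈ Hs, ∀ n ∈ N, g * n * g⁻¹ ∈ N := by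
    rintro g ⟨k, rfl⟩ n ⟨z, rfl⟩
    obtain ⟨k', rfl⟩ := (fibPt_bijective s H).surjective k
    obtain ⟨z', hz'⟩ := hnorm _ k' z
    refine ⟨z', ?_⟩
    show fibPt s (z' ≫ iU) ≫ h = (fibPt s k' ≫ h) * (fibPt s (z ≫ iU) ≫ h) * (fibPt s k' ≫ h)⁻¹
    rw [← hz', fibPt_mul, fibPt_mul, fibPt_inv, MonObj.mul_comp, MonObj.mul_comp, GrpObj.inv_comp]
  let cK := F.map c₁
  let tK := F.map t
  haveI : IsClosedImmersion tK.left := BigCell29.isClosedImmersion_map f t
  haveI : IsOpenImmersion cK.left :=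
    MorphismProperty.of_isPullback (P := @IsOpenImmersion) (isPullback_map f c₁).flip ‹_›
  let B : Over (Spec (CommRingCat.of K)) := Over.mk (pullback.fst iU.left cK.left ≫ U.hom)
  let iB : B ⟶ U := Over.homMk (pullback.fst _ _) rfl
  let iC : B ⟶ F.obj (cellObj D p q) := Over.homMk (pullback.snd _ _) (by
    show _ = pullback.fst iU.left cK.left ≫ U.hom
    rw [← Over.w iU, pullback.condition_assoc, Over.w cK])
  have hB : iB ≫ iU = iC ≫ cK := Over.OverMorphism.ext pullback.condition
  haveI : IsOpenImmersion iB.left := MorphismProperty.pullback_fst _ _ ‹_›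
  haveI : Smooth B.hom := by rw [← Over.w iB]; infer_instance
  obtain ⟨fB, hfB⟩ := exists_fac_of_rat_pts (iB ≫ iU) tK fun b => by
    let W := fibPt s (b ≫ iC)
    have hPW : fibPt s ((b ≫ iB) ≫ iU) = W ≫ c₁ := by
      rw [← fibPt_map, Category.assoc, Category.assoc]
      exact congrArg (fun k => fibPt s (b ≫ k)) hB
    let y := wordPt D X eneg (coord (W ≫ fst _ _))
    let τ := W ≫ snd _ _ ≫ fst _ _
    let x := wordPt D X epos (coord (W ≫ snd _ _ ≫ snd _ _))
    have hW : W ≫ c₁ ≫ h = y * (Rank2Red38.I D X τ * x) := by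
      rw [hc₁, RedSub.cellMap, MonObj.comp_mul, MonObj.comp_mul, ← Category.assoc W, comp_prodMap,
        show W ≫ snd _ _ ≫ snd _ _ ≫ RedSub.prodMap (Red.Ga S) q (fun k => D.u (epos k)) =
          (W ≫ snd _ _ ≫ snd _ _) ≫ RedSub.prodMap (Red.Ga S) q (fun k => D.u (epos k)) by simp only [Category.assoc],
        comp_prodMap]
      congr 2
    have hN : y * (Rank2Red38.I D X τ * x) ∈ N := by
      rw [← hW]
      refine ⟨b ≫ iB, ?_⟩
      show fibPt s ((b ≫ iB) ≫ iU) ≫ h = _
      rw [hPW, Category.assoc]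
    have hinp : ∀ {k : ℕ} (d : Fin k → D.idx), Function.Injective d → ∀ z : Fin k → Γ(X.left, ⊤),
        InProd D X (List.ofFn d) (wordPt D X d z) := fun d hd z =>
      ⟨Function.extend d z 0, by rw [rootProd_ofFn]; simp only [hd.extend_apply]⟩
    have hyH : y ∈ Hs := list_prod_mem fun a ha => by
      obtain ⟨j, rfl⟩ := List.mem_ofFn.mp ha
      exact hU _ (hnm j).1 _
    have hxH : x ∈ Hs := list_prod_mem fun a ha => by
      obtain ⟨j, rfl⟩ := List.mem_ofFn.mp ha
      exact hU _ (hpm j).1 _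
    have htriv : y = 1 ∧ x = 1 := by
      by_contra hne
      obtain ⟨a, ρ, haH, ha1, haN⟩ := Symm.exists_root_mem f Hs N hNH hNn hI
        (lam := lam.toIntLinearMap) (fun c => hreg c) (lp := List.ofFn epos) (ln := List.ofFn eneg)
        (List.nodup_ofFn.mpr hpos.1) (fun c hc => by obtain ⟨j, rfl⟩ := List.mem_ofFn.mp hc; exact (hpm j).2)
        (List.nodup_ofFn.mpr hneg.1) (fun c hc => by obtain ⟨j, rfl⟩ := List.mem_ofFn.mp hc; exact (hnm j).2)
        τ hyH hxH (hinp eneg hneg.1 _) (hinp epos hpos.1 _) (not_and_or.mp hne) hN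
      have haR : a ∈ R' := by
        by_contra haR
        refine none_of_notMem D h t ht hR' haR s ⟨K, inferInstance, X.hom, ?_, ?_⟩
        · exact Levi.geomPt_closedPoint s _
        · obtain ⟨z, hz⟩ := haH
          refine ⟨(GaPts.ptOfFn ρ : X ⟶ Red.Ga S), z, fun e1 => ha1 ?_, hz⟩
          show (GaPts.ptOfFn ρ : X ⟶ Red.Ga S) ≫ D.u a = 1
          haveI : IsMonHom (D.u a) := (D.rootHom a).1
          exact (congrArg (· ≫ D.u a) e1).trans (MonObj.one_comp _)
      have hneg' : ∀ x', Rank2Red38.U D X (Rank2Red38.neg' D a) x' ∈ Hs := fun x' => hU _ (by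
        rw [eq_opp (P := D.P) (a := a) (c := Rank2Red38.neg' D a) (Symm.root_neg a)]
        exact hsymm a haR) x'
      exact false_of_coroot D h t ht s iU hno a fun w => Symm.exists_coroot_mem f Hs N hNH hNn hI ha1 haN hneg' w
    obtain ⟨z, hz⟩ := (fibPt_bijective s D.T).surjective τ
    refine ⟨z, (fibPt_bijective s H).injective ?_⟩
    rw [fibPt_map, hz, ← Category.assoc]
    refine Eq.trans ?_ hPW.symm
    rw [← cancel_mono h, Category.assoc, ht, Category.assoc W c₁ h, hW, htriv.1, htriv.2, one_mul, mul_one]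
    rfl
  let P := pullback.fst iU.left tK.left
  haveI : IsClosedImmersion P := MorphismProperty.pullback_fst _ _ ‹_›
  haveI : IrreducibleSpace U.left := Groth.Agent.S0348.result K _
  have hne : (Set.range iB.left).Nonempty := by
    obtain ⟨o, ho⟩ := exists_one_cellMap D eneg epos
    obtain ⟨z, hz⟩ := (fibPt_bijective s (cellObj D p q)).surjective (toUnit X ≫ o)
    have e : (1 : _ ⟶ U) ≫ iU = z ≫ cK := by
      rw [MonObj.one_comp]
      refine (fibPt_bijective s H).injective ?_
      rw [fibPt_map, hz, Category.assoc, ← cancel_mono h, Category.assoc, Category.assoc, hc₁, ho]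
      refine Eq.trans ?_ (MonObj.comp_one (toUnit X)).symm
      rw [show fibPt s (1 : _ ⟶ Red.geomFibre s H) = 1 from
        (MonoidHom.mk' (fibPt s (Y := H)) (fibPt_mul s H)).map_one, MonObj.one_comp]
    let b := pullback.lift (1 : _ ⟶ U).left z.left (congrArg CommaMorphism.left e)
    exact ⟨_, b.base (IsLocalRing.closedPoint K), rfl⟩
  have hdense : Dense (Set.range iB.left) := iB.left.isOpenEmbedding.isOpen_range.dense hne
  have hsub : Set.range iB.left ⊆ Set.range P := by
    let l : B.left ⟶ pullback iU.left tK.left :=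
      pullback.lift iB.left fB.left (congrArg CommaMorphism.left hfB).symm
    rintro _ ⟨b, rfl⟩
    exact ⟨l.base b, by
      rw [← Scheme.Hom.comp_apply]
      exact congrArg (fun k : B.left ⟶ U.left => k.base b) (pullback.lift_fst _ _ _)⟩
  haveI : Surjective P := ⟨Set.range_eq_univ.mp (Set.univ_subset_iff.mp (hdense.closure_eq ▸
    closure_minimal hsub P.isClosedEmbedding.isClosed_range))⟩
  haveI : IsReduced U.left := GrpSchLib.isReduced_of_smooth_field U.hom
  haveI : IsIso P := isIso_of_isClosedImmersion_of_surjective P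
  let φT : U ⟶ Red.geomFibre s D.T := Over.homMk (inv P ≫ pullback.snd _ _) (by
    show (inv P ≫ _) ≫ (Red.geomFibre s D.T).hom = _
    rw [← Over.w tK, Category.assoc, ← pullback.condition_assoc, IsIso.inv_hom_id_assoc]
    exact Over.w iU)
  have hφT : φT ≫ tK = iU := Over.OverMorphism.ext (by
    show (inv P ≫ _) ≫ tK.left = iU.left
    rw [Category.assoc, ← pullback.condition, IsIso.inv_hom_id_assoc])
  haveI : Mono tK := Over.mono_of_mono_left _
  haveI : IsMonHom φT := by
    haveI : IsMonHom (φT ≫ tK) := by rw [hφT]; infer_instance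
    constructor
    · rw [← cancel_mono tK, Category.assoc, IsMonHom.one_hom (φT ≫ tK), IsMonHom.one_hom tK]
    · rw [← cancel_mono tK, Category.assoc, IsMonHom.mul_hom (φT ≫ tK), Category.assoc, IsMonHom.mul_hom tK,
        ← Category.assoc, tensorHom_comp_tensorHom]
  obtain ⟨e₁⟩ := GrpSchLib.MultTypeBC.bc_iso f D.split
  obtain ⟨e₂⟩ := GrpSchLib.MultTypeBC.bc_DS f D.M
  let e := e₁ ≪≫ e₂
  haveI : IsMonHom e.hom.hom.hom := e.hom.hom.isMonHom_hom
  haveI : IsIso e.hom.hom.hom := ⟨e.inv.hom.hom, congrArg (fun k => k.hom.hom) e.hom_inv_id,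
    congrArg (fun k => k.hom.hom) e.inv_hom_id⟩
  have h1 := eq_one_of_noSubtorus hno (φT ≫ e.hom.hom.hom)
  have h0 : (1 : U ⟶ Red.geomFibre s D.T) ≫ e.hom.hom.hom = 1 := MonObj.one_comp _
  have h2 : φT = 1 := (cancel_mono e.hom.hom.hom).mp (h1.trans h0.symm)
  rw [← hφT, h2, MonObj.one_comp]

end Groth.Agent.RedSub30.Sym

namespace Groth.Agent.RedSub30

open BigCell29

variable {S : Scheme.{u}} {G H : Over S} [GrpObj G] [GrpObj H] (D : Red.SplitRed G) (h : H ⟶ G)
  [IsMonHom h] [IsImmersion h.left] [QuasiCompact h.left] [Smooth H.hom] (t : D.T ⟶ H) (ht : t ≫ h = D.i)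
  {R' : Set D.idx} (hR' : ∀ a : D.idx, (∃ v : Red.Ga S ⟶ H, v ≫ h = D.u a) ↔ a ∈ R')

include t ht hR' in
/-- A subgroup of type (R) with symmetric root set is reductive. -/
theorem isReductive_symm [ConnectedSpace S] (hconn : RedSub.HasConnectedFibres H)
    (hsymm : ∀ a ∈ R', D.P.reflectionPerm a a ∈ R') : Red.IsReductive H := by
  haveI : IsClosedImmersion h.left := isClosedImmersion_typeR D h t ht hR' hconn (lam₁ := 0) (fun _ _ => rfl)
    fun a ha => absurd (hsymm a ha.1) ha.2
  haveI : IsAffineHom G.hom := D.reductive.1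
  haveI : IsAffineHom H.hom := by rw [← Over.w h]; infer_instance
  haveI : GeometricallyConnected H.hom := SecGerm.geometricallyConnected_group H fun s => by
    haveI := Subtype.connectedSpace (hconn s)
    exact (H.hom.fiberHomeo s).symm.surjective.connectedSpace (H.hom.fiberHomeo s).symm.continuous
  refine ⟨inferInstance, inferInstance, fun s => ?_⟩
  haveI : Smooth (Red.geomFibre s H).hom := inferInstanceAs (Smooth (pullback.snd _ _))
  haveI hconnK : ConnectedSpace (Red.geomFibre s H).left :=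
    inferInstanceAs (ConnectedSpace ↥(pullback H.hom (Red.geomPt s)))
  haveI : IsAffineHom (Red.geomFibre s H).hom := inferInstanceAs (IsAffineHom (pullback.snd _ _))
  refine ⟨isAffine_of_isAffineHom (Red.geomFibre s H).hom, inferInstance, hconnK,
    fun U _ i _ hic hUs hUc hin hsub => ?_⟩
  haveI := hUs
  haveI := hUc
  haveI : IsAffineHom U.hom := by rw [← Over.w i]; infer_instance
  haveI : Mono i := Over.mono_of_mono_left _
  have h1 := Sym.eq_one_of_normal D h t ht hR' s i hsymm hin hsub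
  have h2 : (1 : U ⟶ U) = 𝟙 U := (cancel_mono i).mp (by rw [MonObj.one_comp, Category.id_comp, h1])
  refine ⟨η[U].left, ?_, Over.w η[U]⟩
  exact congrArg CommaMorphism.left h2

end Groth.Agent.RedSub30
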