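import Groth.Agent.RedRk29.BruhatPts
import Groth.Agent.RedRk29.DualPinning
import Groth.Agent.RedRk29.NormWeyl
import Groth.Agent.RedRk29.RankOneGlue

/-!
# Reflection elements inside the group generated by two opposite root groups
-/

set_option autoImplicit false
set_option maxHeartbeats 800000

universe u

open CategoryTheory CategoryTheory.Limits AlgebraicGeometry MonoidalCategory CartesianMonoidalCategory
open scoped MonObj

noncomputable section

namespace Groth.Agent.RedSub30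

open GrpSchLib Rank2Red38

variable {S : Scheme.{u}} {G : Over S} [GrpObj G]

/-- A reflection point in every subgroup containing the two root groups. -/
theorem exists_weyl_mem (D : Red.SplitRed G) (b : D.P.Base) (a : D.idx) :
    ∃ w : 𝟙_ (Over S) ⟶ G, (∀ K : Subgroup (𝟙_ (Over S) ⟶ G), (∀ x, Rank2Red38.U D (𝟙_ (Over S)) a x ∈ K) →
        (∀ x, Rank2Red38.U D (𝟙_ (Over S)) (D.P.reflectionPerm a a) x ∈ K) → w ∈ K) ∧
      ∀ (X : Over S) (t : X ⟶ D.T),
      (toUnit X ≫ w) * (t ≫ D.i) * (toUnit X ≫ w)⁻¹ =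
        t ≫ D.split.hom.hom.hom ≫ Red.DSmap S (D.P.reflection a).toLinearMap.toAddMonoidHom ≫
          D.split.inv.hom.hom ≫ D.i := by
  classical
  obtain ⟨c, hc⟩ := RedRk29.exists_isDualPair D a
  let P : Red.Pinning G := { D with base := b }
  let k : D.idx → Γ(S, ⊤)ˣ := fun x => if x = D.P.reflectionPerm a a then c⁻¹ else 1
  let E := (RedRk29.rescale P k).toSplitRed
  have hne : a ≠ D.P.reflectionPerm a a := fun h => by
    have h2 := congrArg D.P.root h
    rw [RootPairing.root_reflectionPerm, RootPairing.reflection_apply_self, ← add_eq_zero_iff_eq_neg,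
      ← two_smul ℤ] at h2
    exact D.P.ne_zero a (smul_eq_zero_iff_right (two_ne_zero' ℤ) |>.mp h2)
  have hka : k a = 1 := if_neg hne
  have hkn : k (D.P.reflectionPerm a a) = c⁻¹ := if_pos rfl
  have hdual : IsDual E a := by
    intro X x y hxy
    let e : Γ(X.left, ⊤) := glob X ((c : Γ(S, ⊤)))
    let e' : Γ(X.left, ⊤) := glob X (c⁻¹ : Γ(S, ⊤)ˣ)
    have hd : e * e' = 1 := by rw [← map_mul, Units.mul_inv, map_one]
    have hxy' : IsUnit (1 + X.hom.appTop.hom (c : Γ(S, ⊤)) * Red.gaFn x * Red.gaFn (GaPts.ptOfFn (e' * Red.gaFn y))) := by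
      rw [GaPts.gaFn_ptOfFn]
      convert hxy using 2
      show e * Red.gaFn x * (e' * Red.gaFn y) = Red.gaFn x * Red.gaFn y
      linear_combination (Red.gaFn x * Red.gaFn y) * hd
    obtain ⟨x', y', z, hz, hx', hy', h⟩ := hc X x (GaPts.ptOfFn (e' * Red.gaFn y)) hxy'
    rw [GaPts.gaFn_ptOfFn] at hz hy'
    change Red.gmFn z = 1 + e * Red.gaFn x * (e' * Red.gaFn y) at hz
    refine ⟨x', GaPts.ptOfFn (e * Red.gaFn y'), z, hz.trans ?_, hx', ?_, ?_⟩
    · linear_combination (Red.gaFn x * Red.gaFn y) * hd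
    · rw [GaPts.gaFn_ptOfFn]
      linear_combination e * hy' + Red.gaFn y * hd
    · have ex : ∀ w : X ⟶ Red.Ga S, w ≫ scaleHom (((1 : Γ(S, ⊤)ˣ)) : Γ(S, ⊤)) = w := fun w => by
        rw [Units.val_one, scaleHom_one, Category.comp_id]
      have ey : ∀ w : X ⟶ Red.Ga S, w ≫ scaleHom ((c⁻¹ : Γ(S, ⊤)ˣ) : Γ(S, ⊤)) = GaPts.ptOfFn (e' * Red.gaFn w) :=
        fun w => GaPts.gaFn_injective (by simp only [gaFn_scaleHom, GaPts.gaFn_ptOfFn]; rfl)
      have ey' : GaPts.ptOfFn (e * Red.gaFn y') ≫ scaleHom ((c⁻¹ : Γ(S, ⊤)ˣ) : Γ(S, ⊤)) = y' := by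
        rw [ey, GaPts.gaFn_ptOfFn]
        exact GaPts.gaFn_injective (by simp only [GaPts.gaFn_ptOfFn]; linear_combination Red.gaFn y' * hd)
      change (x ≫ scaleHom (k a : Γ(S, ⊤)) ≫ D.u a) *
          (y ≫ scaleHom (k (D.P.reflectionPerm a a) : Γ(S, ⊤)) ≫ D.u (D.P.reflectionPerm a a)) =
        (GaPts.ptOfFn (e * Red.gaFn y') ≫ scaleHom (k (D.P.reflectionPerm a a) : Γ(S, ⊤)) ≫ D.u (D.P.reflectionPerm a a)) *
          (z ≫ corootHom D a ≫ D.i) * (x' ≫ scaleHom (k a : Γ(S, ⊤)) ≫ D.u a)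
      rw [hka, hkn]
      simp only [← Category.assoc, ex, ey', ey y]
      simpa only [Category.assoc, corootHom, RedRk29.negIdx] using h
  refine ⟨W E (𝟙_ (Over S)) a, fun K h1 h2 => ?_, fun X t => ?_⟩
  · have hE : ∀ (q : D.idx) (x : Γ((𝟙_ (Over S)).left, ⊤)),
        ∃ y, Rank2Red38.U E (𝟙_ (Over S)) q x = Rank2Red38.U D (𝟙_ (Over S)) q y := fun q x => by
      refine ⟨Red.gaFn ((GaPts.ptOfFn x : 𝟙_ (Over S) ⟶ Red.Ga S) ≫ scaleHom (k q : Γ(S, ⊤))), ?_⟩
      rw [← pt_comp_eq D q]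
      exact (Category.assoc _ _ _).symm
    have h1' : ∀ x, Rank2Red38.U E (𝟙_ (Over S)) a x ∈ K := fun x => by
      obtain ⟨y, hy⟩ := hE a x; exact hy ▸ h1 y
    have h2' : ∀ x, Rank2Red38.U E (𝟙_ (Over S)) (neg' E a) x ∈ K := fun x => by
      obtain ⟨y, hy⟩ := hE (D.P.reflectionPerm a a) x; exact hy ▸ h2 y
    simp only [W, weylElt]
    first
      | exact mul_mem (mul_mem (h1' _) (h2' _)) (h1' _)
      | exact mul_mem (h1' _) (mul_mem (h2' _) (h1' _))
      | exact mul_mem (mul_mem (h1' _) (inv_mem (h2' _))) (h1' _)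
  · rw [comp_W (D := E) (toUnit X) a]
    exact (W_conj_torus E hdual t).trans (RedRk29.refl_torus E X a t).symm

end Groth.Agent.RedSub30
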