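import Groth.Agent.RedSub30.LeviSymFibre
import Groth.Agent.RedSub30.WeylMem
import Groth.Agent.RedSub30.DerDim

/-!
# The splitting of a subgroup of type (R) with symmetric root set
-/

set_option autoImplicit false
set_option maxHeartbeats 1000000
set_option synthInstance.maxHeartbeats 100000

universe u

open CategoryTheory CategoryTheory.Limits MonoidalCategory CartesianMonoidalCategory AlgebraicGeometry
open scoped MonObj

noncomputable section

namespace Groth.Agent.RedSub30.Sym

open BigCell29 RootPoly GrpSchLib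

variable {S : Scheme.{u}} {G H : Over S} [GrpObj G] [GrpObj H] (D : Red.SplitRed G) (h : H ⟶ G)
  [IsMonHom h] [IsImmersion h.left] [QuasiCompact h.left] [Smooth H.hom] (t : D.T ⟶ H) (ht : t ≫ h = D.i)
  {R' : Set D.idx} (hR' : ∀ a : D.idx, (∃ v : Red.Ga S ⟶ H, v ≫ h = D.u a) ↔ a ∈ R')
  (hsymm : ∀ a ∈ R', D.P.reflectionPerm a a ∈ R')

include hR' hsymm in
omit [QuasiCompact h.left] [Smooth H.hom] [IsImmersion h.left] in
/-- A point of the subgroup inducing a reflection of one of its roots. -/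
theorem exists_refl_pt (b : D.P.Base) {a : D.idx} (ha : a ∈ R') : ∃ n : 𝟙_ (Over S) ⟶ H, ∀ (X : Over S) (τ : X ⟶ D.T),
    (toUnit X ≫ n ≫ h) * (τ ≫ D.i) * (toUnit X ≫ n ≫ h)⁻¹ =
      τ ≫ D.split.hom.hom.hom ≫ Red.DSmap S (D.P.reflection a).toLinearMap.toAddMonoidHom ≫
        D.split.inv.hom.hom ≫ D.i := by
  obtain ⟨w, hw, hwt⟩ := exists_weyl_mem D b a
  have hmem : ∀ c ∈ R', ∀ x, Rank2Red38.U D (𝟙_ (Over S)) c x ∈ (RankOne.postHom h (𝟙_ (Over S))).range := fun c hc x => by
    obtain ⟨v, hv⟩ := (hR' c).mpr hc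
    refine ⟨(GaPts.ptOfFn x : 𝟙_ (Over S) ⟶ Red.Ga S) ≫ v, ?_⟩
    show (_ ≫ v) ≫ h = _
    rw [Category.assoc, hv]
    rfl
  obtain ⟨n, hn⟩ := hw _ (hmem a ha) (hmem _ (hsymm a ha))
  replace hn : n ≫ h = w := hn
  exact ⟨n, fun X τ => by rw [hn]; exact hwt X τ⟩

include t ht hR' hsymm in
/-- The root set of the subgroup is stable under its reflections. -/
theorem reflection_mem [ConnectedSpace S] {a c : D.idx} (ha : a ∈ R') (hc : c ∈ R') :
    D.P.reflectionPerm a c ∈ R' := by
  classical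
  obtain ⟨b⟩ := RedRk29.exists_base' D
  obtain ⟨n, hn⟩ := exists_refl_pt D h hR' hsymm b ha
  let nr : D.idx → (𝟙_ (Over S) ⟶ G) := fun d => if d = a then n ≫ h else (D.refl d).choose
  have hnr : RedSub.RealisesReflections D nr := fun d X τ => by
    by_cases hd : d = a
    · subst hd
      simp only [nr, if_pos rfl]
      exact hn X τ
    · simp only [nr, if_neg hd]
      exact (D.refl d).choose_spec X τ
  obtain ⟨k, hk⟩ := RedRk29.conj_root D hnr a c
  by_contra hcon
  obtain ⟨s⟩ : Nonempty S := inferInstance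
  let K := AlgebraicClosure (S.residueField s)
  let X := tObj (Red.geomPt s) K
  haveI : Nontrivial Γ(X.left, ⊤) := (tVal (Red.geomPt s) K).symm.injective.nontrivial
  obtain ⟨v, hv⟩ := (hR' c).mpr hc
  have hna : nr a = n ≫ h := if_pos rfl
  refine none_of_notMem D h t ht hR' hcon s ⟨K, inferInstance, X.hom, Levi.geomPt_closedPoint s _, ?_⟩
  refine ⟨(GaPts.ptOfFn (Rank2Red38.glob X k * 1) : X ⟶ Red.Ga S),
    (toUnit X ≫ n) * ((GaPts.ptOfFn 1 : X ⟶ Red.Ga S) ≫ v) * (toUnit X ≫ n)⁻¹, fun e1 => ?_, ?_⟩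
  · have h2 : Rank2Red38.U D X (D.P.reflectionPerm a c) (Rank2Red38.glob X k * 1) = 1 := by
      haveI : IsMonHom (D.u (D.P.reflectionPerm a c)) := (D.rootHom _).1
      exact (congrArg (· ≫ D.u (D.P.reflectionPerm a c)) e1).trans (MonObj.one_comp _)
    have h3 := hk X 1
    rw [h2] at h3
    have h4 : Rank2Red38.U D X c 1 = 1 := conj_eq_one_iff.mp h3
    have h5 := Symm.U_inj (Red.geomPt s) (Rank2Red38.hasNormalForm D) h4
    exact one_ne_zero h5
  · show _ = Rank2Red38.U D X (D.P.reflectionPerm a c) (Rank2Red38.glob X k * 1)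
    rw [← hk X 1, hna, MonObj.mul_comp, MonObj.mul_comp, GrpObj.inv_comp, Category.assoc, Category.assoc, hv]
    rfl

/-- The root datum of a stable set of roots. -/
def subDatum (R' : Set D.idx) (hst : ∀ a ∈ R', ∀ c ∈ R', D.P.reflectionPerm a c ∈ R') :
    RootPairing R' ℤ D.M (Module.Dual ℤ D.M) where
  toLinearMap := D.P.toLinearMap
  root := (Function.Embedding.subtype _).trans D.P.root
  coroot := (Function.Embedding.subtype _).trans D.P.coroot
  isPerfPair_toLinearMap := D.P.isPerfPair_toLinearMap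
  root_coroot_two a := D.P.root_coroot_two a.1
  reflectionPerm a := (D.P.reflectionPerm a.1).subtypeEquiv fun c =>
    ⟨fun hc => hst a.1 a.2 _ hc, fun hc => by simpa [D.P.reflectionPerm_self] using hst a.1 a.2 _ hc⟩
  reflectionPerm_root a c := D.P.reflectionPerm_root a.1 c.1
  reflectionPerm_coroot a c := D.P.reflectionPerm_coroot a.1 c.1

include t ht hR' in
/-- The dimension of a geometric fibre of the subgroup. -/
theorem dim_fibre [ConnectedSpace S] [Fintype R'] (hred : Red.IsReductive H) (s : S) :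
    topologicalKrullDim ↥(Red.geomFibre s H).left =
      ((Module.finrank ℤ D.M + Fintype.card R' : ℕ) : WithBot ℕ∞) := by
  classical
  obtain ⟨lam, hreg, -⟩ := exists_regular_pos D (Ψ := (∅ : Set D.idx)) 0 (fun a ha => absurd ha (Set.notMem_empty a))
  obtain ⟨n, eneg, hneg⟩ := Valuation.exists_enum D (R' ∩ {i | 0 < (-lam) (D.P.root i)})
  obtain ⟨m, epos, hpos⟩ := Valuation.exists_enum D (R' ∩ {i | 0 < lam (D.P.root i)})
  obtain ⟨c, hc⟩ := exists_cell_factor D h t ht hR'
    (fun j => ((Set.ext_iff.mp hneg.2 _).mp (Set.mem_range_self j)).1)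
    (fun j => ((Set.ext_iff.mp hpos.2 _).mp (Set.mem_range_self j)).1)
  haveI := isOpenImmersion_cell D h t ht hR' hreg hneg hpos c hc
  let δ : RedSub.pow (Red.Ga S) n ⊗ (Red.DS S D.M ⊗ RedSub.pow (Red.Ga S) m) ⟶ cellObj D n m :=
    RedSub.pow (Red.Ga S) n ◁ (D.split.inv.hom.hom ▷ RedSub.pow (Red.Ga S) m)
  haveI : IsIso D.split.inv.hom.hom := ((Grp.forget _).mapIso D.split.symm).isIso_hom
  haveI : IsIso δ := inferInstance
  haveI : IsIso δ.left := inferInstanceAs (IsIso ((Over.forget _).map δ))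
  haveI hj : IsOpenImmersion (δ ≫ c).left := by rw [Over.comp_left]; infer_instance
  let K := AlgebraicClosure (S.residueField s)
  haveI : ConnectedSpace (Red.geomFibre s H).left := (hred.2.2 s).2.2.1
  haveI : Smooth (Red.geomFibre s H).hom := inferInstanceAs (Smooth (pullback.snd _ _))
  haveI : IrreducibleSpace (Red.geomFibre s H).left := Groth.Agent.S0348.result K _
  let jK := (Over.pullback (Red.geomPt s)).map (δ ≫ c)
  haveI : IsOpenImmersion jK.left :=
    MorphismProperty.of_isPullback (P := @IsOpenImmersion) (BigCell29.isPullback_map (Red.geomPt s) (δ ≫ c)).flip hj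
  letI : (Red.geomFibre s H).left.Over (Spec (CommRingCat.of K)) := ⟨(Red.geomFibre s H).hom⟩
  haveI : LocallyOfFiniteType ((Red.geomFibre s H).left ↘ Spec (CommRingCat.of K)) :=
    inferInstanceAs (LocallyOfFiniteType (Red.geomFibre s H).hom)
  have hdim := CellChar.dim_cell (Red.geomPt s) D.M n m
  have hne : Nonempty (Red.bc (Red.geomPt s)
      (RedSub.pow (Red.Ga S) n ⊗ (Red.DS S D.M ⊗ RedSub.pow (Red.Ga S) m))).left := by
    by_contra hcon
    rw [not_nonempty_iff] at hcon
    rw [topologicalKrullDim, Order.krullDim_eq_bot_iff.mpr ⟨fun z => hcon.false z.isIrreducible.nonempty.some⟩] at hdim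
    exact (WithBot.bot_ne_natCast _) hdim
  have hh := Groth.Agent.S1618.result K (Red.geomFibre s H).left jK.left.opensRange
    ⟨_, Set.mem_range_self hne.some⟩
  rw [← hh, ← (Scheme.homeoOfIso jK.left.isoOpensRange).isHomeomorph.topologicalKrullDim_eq, hdim]
  congr 2
  congr 1
  let e : Fin n ⊕ Fin m ≃ R' := Equiv.ofBijective
    (Sum.elim (fun j => ⟨eneg j, ((Set.ext_iff.mp hneg.2 _).mp (Set.mem_range_self j)).1⟩)
      (fun j => ⟨epos j, ((Set.ext_iff.mp hpos.2 _).mp (Set.mem_range_self j)).1⟩))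
    ⟨Function.Injective.sumElim (fun a c hac => hneg.1 (congrArg Subtype.val hac))
      (fun a c hac => hpos.1 (congrArg Subtype.val hac)) fun a c hac => by
        have h1 := ((Set.ext_iff.mp hneg.2 _).mp (Set.mem_range_self a)).2
        have h2 := ((Set.ext_iff.mp hpos.2 _).mp (Set.mem_range_self c)).2
        have h3 : eneg a = epos c := congrArg Subtype.val hac
        rw [h3] at h1
        simp only [Set.mem_ofPred_eq, AddMonoidHom.neg_apply] at h1 h2
        omega, fun a => by
      rcases lt_or_gt_of_ne (hreg a.1) with h1 | h1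
      · obtain ⟨k, hk⟩ := (Set.ext_iff.mp hneg.2 a.1).mpr ⟨a.2, by
          simp only [Set.mem_ofPred_eq, AddMonoidHom.neg_apply]; omega⟩
        exact ⟨.inl k, Subtype.ext hk⟩
      · obtain ⟨k, hk⟩ := (Set.ext_iff.mp hpos.2 a.1).mpr ⟨a.2, h1⟩
        exact ⟨.inr k, Subtype.ext hk⟩⟩
  rw [← Fintype.card_congr e, Fintype.card_sum, Fintype.card_fin, Fintype.card_fin]

end Groth.Agent.RedSub30.Sym
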