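import Groth.Agent.RedSub30.TypeRNormalises
import Groth.Agent.RedSub30.SymmUnip
import Groth.Agent.GrpSchLib.ReducedPoints
import Groth.Agent.RedRk29.RankOneGlue

/-!
# Points of a subgroup of type (R) over a valuation ring: an Iwasawa decomposition
-/

set_option autoImplicit false
set_option maxHeartbeats 1000000
set_option synthInstance.maxHeartbeats 100000

universe u

open CategoryTheory CategoryTheory.Limits MonoidalCategory CartesianMonoidalCategory AlgebraicGeometry WithConv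
open scoped MonObj AddMonoidAlgebra

namespace Groth.Agent.RedSub30.Valuation

open BigCell29 RootPoly

noncomputable section

section Sub

variable {L : Type*} [Field L] {R : Type*} [CommRing R] [Algebra R L] (V : Subalgebra R L)
  (hV : ∀ x : L, x ∈ V ∨ x⁻¹ ∈ V)

include hV in
theorem inv_mem_of_notMem {x : L} (hx : x ∉ V) : x⁻¹ ∈ V := (hV x).resolve_left hx

include hV in
/-- The elementary computation in rank one. -/
theorem one_add_mul {x d d' : L} (hd : d ∈ V) (hd' : d' ∈ V) (hdd : d' * d = 1) (hx : x ∉ V) :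
    1 + d * x ≠ 0 ∧ (1 + d * x)⁻¹ ∈ V ∧ x * (1 + d * x)⁻¹ ∈ V := by
  have hz : 1 + d * x ∉ V := fun h => hx (by
    have h' := mul_mem hd' (sub_mem h (one_mem V))
    rwa [add_sub_cancel_left, ← mul_assoc, hdd, one_mul] at h')
  have hne : 1 + d * x ≠ 0 := fun h => hz (h ▸ zero_mem V)
  have hi := inv_mem_of_notMem V hV hz
  refine ⟨hne, hi, ?_⟩
  have e : x * (1 + d * x)⁻¹ = d' * (1 - (1 + d * x)⁻¹) := by
    rw [← div_eq_mul_inv, div_eq_iff hne, mul_assoc, sub_mul, one_mul, inv_mul_cancel₀ hne, add_sub_cancel_left,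
      ← mul_assoc, hdd, one_mul]
  rw [e]
  exact mul_mem hd' (sub_mem (one_mem V) hi)

end Sub

variable {S : Scheme.{u}} {G H : Over S} [GrpObj G] [GrpObj H] (D : Red.SplitRed G) (h : H ⟶ G)
  [IsMonHom h] [IsImmersion h.left] [QuasiCompact h.left] [Smooth H.hom] (t : D.T ⟶ H) (ht : t ≫ h = D.i)
  {R' : Set D.idx} (hR' : ∀ a : D.idx, (∃ v : Red.Ga S ⟶ H, v ≫ h = D.u a) ↔ a ∈ R')
  {R : Type u} [CommRing R] {f : Spec (CommRingCat.of R) ⟶ S} [IsOpenImmersion f] {A : Type u} [CommRing A]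
  [HopfAlgebra R A] (Md : Model f G A) {L : Type u} [Field L] [Algebra R L] (V : Subalgebra R L)

/-- The points of the subgroup over the valuation ring, as points over the field. -/
def valPts : Subgroup (Pt R A L) := ((subPts h Md).mem V).map (mapPt V.val)

/-- The Borel part of the subgroup for a form. -/
def borelPts (lam : D.M →+ ℤ) : Subgroup (Pt R A L) where
  carrier := {g | g ∈ (subPts h Md).mem L ∧ ∃ χ u, g = (Md.frame D).T.tor χ * u ∧ ((Md.frame D).cochar lam).InU u}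
  one_mem' := ⟨one_mem _, 1, 1, by rw [map_one, one_mul], Coact.inU_one _⟩
  mul_mem' := by
    rintro a b ⟨ha, χ, u, rfl, hu⟩ ⟨hb, χ', u', rfl, hu'⟩
    refine ⟨mul_mem ha hb, χ * χ', ((Md.frame D).T.tor χ')⁻¹ * u * (Md.frame D).T.tor χ' * u', ?_, ?_⟩
    · rw [map_mul]; group
    · refine Coact.InU.mul _ ?_ hu'
      have h1 := Coact.InU.conj _ (Coact.InZ.inv _ ((Md.frame D).cochar_inZ_tor lam χ')) hu
      rwa [inv_inv] at h1
  inv_mem' := by
    rintro a ⟨ha, χ, u, rfl, hu⟩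
    refine ⟨inv_mem ha, χ.toHomUnits⁻¹ |> fun k => (Units.coeHom L).comp k,
      (Md.frame D).T.tor χ * u⁻¹ * ((Md.frame D).T.tor χ)⁻¹, ?_, ?_⟩
    · have e : (Md.frame D).T.tor ((Units.coeHom L).comp χ.toHomUnits⁻¹) * (Md.frame D).T.tor χ = 1 := by
        rw [← map_mul, show (Units.coeHom L).comp χ.toHomUnits⁻¹ * χ = 1 from MonoidHom.ext fun m => by
          show ((χ.toHomUnits m)⁻¹ : Lˣ) * χ m = (1 : L)
          rw [← MonoidHom.coe_toHomUnits χ m]
          exact Units.inv_mul _, map_one]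
      rw [← mul_assoc, ← mul_assoc, e, one_mul, mul_inv_rev]
    · exact Coact.InU.conj _ ((Md.frame D).cochar_inZ_tor lam χ) (Coact.InU.inv _ hu)

include t ht in
theorem unip_mem {lam : D.M →+ ℤ} {g : Pt R A L} (hg : g ∈ borelPts D h Md lam) :
    ∃ χ u, g = (Md.frame D).T.tor χ * u ∧ u ∈ (subPts h Md).mem L ∧ ((Md.frame D).cochar lam).InU u := by
  obtain ⟨hg, χ, u, rfl, hu⟩ := hg
  refine ⟨χ, u, rfl, ?_, hu⟩
  have := mul_mem (inv_mem (tor_mem D h t ht Md L χ : (Md.frame D).T.tor χ ∈ (subPts h Md).mem L)) hg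
  rwa [inv_mul_cancel_left] at this

include t ht hR' in
theorem rt_mem_borel {lam : D.M →+ ℤ} {a : D.idx} (ha : a ∈ R') (hpos : 0 < lam (D.P.root a)) (x : L) :
    (Md.frame D).rt a x ∈ borelPts D h Md lam :=
  ⟨(full_of_mem D h hR' Md ha L x), 1, _, by rw [map_one, one_mul], (Md.frame D).inU_rt lam hpos x⟩

include t ht in
theorem tor_mem_borel (lam : D.M →+ ℤ) (χ : Multiplicative D.M →* L) :
    (Md.frame D).T.tor χ ∈ borelPts D h Md lam :=
  ⟨(tor_mem D h t ht Md L χ : _ ∈ (subPts h Md).mem L), χ, 1, (mul_one _).symm, Coact.inU_one _⟩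

include hR' in
theorem rt_mem_val {a : D.idx} (ha : a ∈ R') {x : L} (hx : x ∈ V) : (Md.frame D).rt a x ∈ valPts h Md V :=
  ⟨(Md.frame D).rt a (⟨x, hx⟩ : V), full_of_mem D h hR' Md ha V _, (Md.frame D).mapPt_rt _ _ _⟩

/-- A scalar attached to a pair of opposite roots. -/
theorem exists_rankOne (a : D.idx) : ∃ d d' : L, d ∈ V ∧ d' ∈ V ∧ d' * d = 1 ∧
    ∀ x : L, 1 + d * x ≠ 0 → ∃ (χ : Multiplicative D.M →* L),
      (Md.frame D).rt (RedRk29.negIdx D a) x =
        (Md.frame D).rt a (1 + d * x)⁻¹ * (Md.frame D).T.tor χ * (Md.frame D).rt (RedRk29.negIdx D a) (x * (1 + d * x)⁻¹) *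
          (Md.frame D).rt a (-1) := by
  obtain ⟨c, hc⟩ := RedRk29.exists_isDualPair D (RedRk29.negIdx D a)
  have hopp : ∀ b : D.idx, D.P.root (RedRk29.negIdx D b) = -D.P.root b := fun b => by
    simp only [RedRk29.negIdx, RootPairing.root_reflectionPerm, RootPairing.reflection_apply_self]
  have hnn : RedRk29.negIdx D (RedRk29.negIdx D a) = a := D.P.root.injective (by rw [hopp, hopp, neg_neg])
  let X := tObj f L
  let ψ : Γ(S, ⊤) →+* L := (tVal f L).toRingHom.comp X.hom.appTop.hom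
  let X₀ := tObj f V
  have hψV : ∀ r : Γ(S, ⊤), ψ r ∈ V := fun r => by
    let r₀ : V := tVal f V (X₀.hom.appTop.hom r)
    have e : ψ r = V.val r₀ := by
      have h1 := congrArg (fun k : Γ(S, ⊤) ⟶ Γ(X.left, ⊤) => tVal f L (k r))
        (show (X₀.hom).appTop ≫ (tMap f V.val).left.appTop = X.hom.appTop by
          rw [← Scheme.Hom.comp_appTop, Over.w (tMap f V.val)])
      refine h1.symm.trans ?_
      exact (tVal_map (f := f) V.val _)
    rw [e]
    exact r₀.2
  refine ⟨ψ c, ψ ↑(c⁻¹), hψV _, hψV _, by rw [← map_mul, Units.inv_mul, map_one], fun x hx => ?_⟩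
  let e := (tVal f L).symm
  obtain ⟨x', y', z, hz, hx', hy', hrel⟩ := hc X (gaPt f x) (gaPt f (1 : L)) (by
    rw [gaFn_gaPt, gaFn_gaPt, map_one, mul_one]
    have e1 : 1 + X.hom.appTop.hom (c : Γ(S, ⊤)) * e x = e (1 + ψ c * x) := by
      simp only [map_add, map_one, map_mul, ψ, e, RingHom.coe_comp, Function.comp_apply, RingEquiv.toRingHom_eq_coe,
        RingHom.coe_coe, RingEquiv.symm_apply_apply]
    rw [e1]
    exact (isUnit_iff_ne_zero.mpr hx).map e)
  rw [gaFn_gaPt] at hx' hy'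
  rw [gaFn_gaPt, gaFn_gaPt, map_one, mul_one] at hz
  have hzv : tVal f L (Red.gmFn z) = 1 + ψ c * x := by
    rw [hz]
    simp only [map_add, map_one, map_mul, ψ, RingHom.coe_comp, Function.comp_apply, RingEquiv.toRingHom_eq_coe,
      RingHom.coe_coe, RingEquiv.apply_symm_apply]
  obtain ⟨x₁, rfl⟩ := (gaPt_bijective f).surjective x'
  obtain ⟨y₁, rfl⟩ := (gaPt_bijective f).surjective y'
  rw [gaFn_gaPt] at hx' hy'
  have ex : x₁ = x * (1 + ψ c * x)⁻¹ := by
    have := congrArg (tVal f L) hx'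
    rw [map_mul, RingEquiv.apply_symm_apply, RingEquiv.apply_symm_apply, hzv] at this
    exact (eq_mul_inv_iff_mul_eq₀ hx).mpr this
  have ey : y₁ = (1 + ψ c * x)⁻¹ := by
    have := congrArg (tVal f L) hy'
    rw [map_mul, RingEquiv.apply_symm_apply, RingEquiv.apply_symm_apply, hzv] at this
    exact eq_inv_of_mul_eq_one_left this
  obtain ⟨χ, hχ⟩ := (chPt_bijective f).surjective
    ((z ≫ Red.DSmap S (D.P.coroot (RedRk29.negIdx D a)).toAddMonoidHom ≫ D.split.inv.hom.hom) ≫ D.split.hom.hom.hom)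
  refine ⟨χ, ?_⟩
  have htor : Md.pt ((Md.frame D).T.tor χ) = z ≫ Red.DSmap S (D.P.coroot (RedRk29.negIdx D a)).toAddMonoidHom ≫
      D.split.inv.hom.hom ≫ D.i := by
    rw [Md.pt_tor, torG, hχ]
    have e2 : D.split.hom.hom.hom ≫ D.split.inv.hom.hom = 𝟙 _ := congrArg (fun k => k.hom.hom) D.split.hom_inv_id
    simp only [Category.assoc, reassoc_of% e2]
  have key : (Md.frame D).rt (RedRk29.negIdx D a) x * (Md.frame D).rt a 1 =
      (Md.frame D).rt a (1 + ψ c * x)⁻¹ * (Md.frame D).T.tor χ *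
        (Md.frame D).rt (RedRk29.negIdx D a) (x * (1 + ψ c * x)⁻¹) := Md.pt_bijective.injective (by
    subst ex ey
    simp only [Md.pt_mul, Md.pt_rt, htor, rtG]
    rw [hnn] at hrel
    exact hrel)
  rw [← key, mul_assoc, show (Md.frame D).rt a (1 : L) * (Md.frame D).rt a (-1) = 1 from
    Md.pt_bijective.injective (by
      rw [Md.pt_mul, Md.pt_rt, Md.pt_rt, ← rtG_add, add_neg_cancel, ← Md.pt_rt]
      exact congrArg Md.pt ((Md.frame D).rt_zero a)), mul_one]

end

end Groth.Agent.RedSub30.Valuation
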