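import Groth.Agent.RedSub30.ProdLevels

/-!
# Positive roots for an ordering of the lattice, in increasing order
-/

set_option autoImplicit false

universe u

open CategoryTheory CategoryTheory.Limits AlgebraicGeometry MonoidalCategory CartesianMonoidalCategory
open scoped MonObj

noncomputable section

namespace Groth.Agent.RedSub30.RootPoly

open GrpSchLib Rank2Red38

variable {S : Scheme.{u}} {G : Over S} [GrpObj G] {D : Red.SplitRed G}

theorem pointProd_eq {X : Over S} {n : ℕ} (e : Fin n → D.idx) (y : Fin n → (X ⟶ Red.Ga S)) :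
    (List.ofFn fun k => y k ≫ D.u (e k)).prod = wordPt D X e fun k => Red.gaFn (y k) :=
  congrArg List.prod (List.ofFn_inj.mpr (funext fun k => pt_comp_eq D (e k) (y k)))

/-- The tail of an increasing enumeration. -/
abbrev tail {N i m : ℕ} (e : Fin N → D.idx) (h : i + m = N) (k : Fin m) : D.idx := e (Fin.cast h (Fin.natAdd i k))

theorem wordPt_split {X : Over S} {N i m : ℕ} (e : Fin N → D.idx) (h : i + m = N) (v : Fin N → Γ(X.left, ⊤)) :
    wordPt D X e v = wordPt D X (fun j => e (Fin.cast h (Fin.castAdd m j))) (fun j => v (Fin.cast h (Fin.castAdd m j))) *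
      wordPt D X (tail e h) fun k => v (Fin.cast h (Fin.natAdd i k)) := by
  subst h
  rw [← wordPt_append]
  congr 1 <;> exact (Fin.append_castAdd_natAdd).symm

variable [LinearOrder D.M] [IsOrderedAddMonoid D.M] {N : ℕ} {e : Fin N → D.idx} (he : Function.Injective e)
  (hrange : ∀ a : D.idx, a ∈ Set.range e ↔ 0 < D.P.root a) (hmono : StrictMono (fun k => D.P.root (e k)))

include hrange in
theorem exists_form : ∃ lam : Module.Dual ℤ D.M, ∀ k, 0 < lam (D.P.root (e k)) := by
  haveI := Fintype.ofFinite D.idx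
  have hΨ : IsClosedSet D.P (Set.range e) := fun a b c ha hb hc => by
    rw [hrange] at ha hb ⊢
    exact hc ▸ add_pos ha hb
  obtain ⟨lam, hlam⟩ := hΨ.exists_pos fun a b ha hb hb' => by
    rw [hrange] at ha hb'
    rw [hb] at hb'
    exact (neg_pos.mp hb').not_gt ha
  exact ⟨lam, fun k => hlam _ (Set.mem_range_self k)⟩

include he hrange in
theorem isPosClosed_all {lam : Module.Dual ℤ D.M} (hlam : ∀ k, 0 < lam (D.P.root (e k))) :
    IsPosClosed D lam (List.ofFn e) :=
  IsPosClosed.of_enumerates (Ψ := Set.range e) (fun a b c ha hb hc => by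
    rw [hrange] at ha hb ⊢
    exact hc ▸ add_pos ha hb) (fun a ⟨k, hk⟩ => hk ▸ hlam k) ⟨he, rfl⟩

include he hrange hmono in
theorem isPosClosed_tail {lam : Module.Dual ℤ D.M} (hlam : ∀ k, 0 < lam (D.P.root (e k))) {i m : ℕ} (h : i + m = N) :
    IsPosClosed D lam (List.ofFn (tail e h)) := by
  refine IsPosClosed.of_enumerates (Ψ := Set.range (tail e h)) (fun a b c ha hb hc => ?_)
    (fun a ⟨k, hk⟩ => hk ▸ hlam _) ⟨fun k k' hk => Fin.natAdd_injective _ _ (Fin.cast_injective _ (he hk)), rfl⟩
  obtain ⟨k, rfl⟩ := ha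
  obtain ⟨k', rfl⟩ := hb
  have hpos : ∀ j, 0 < D.P.root (e j) := fun j => (hrange _).mp (Set.mem_range_self j)
  obtain ⟨j, rfl⟩ : c ∈ Set.range e := (hrange _).mpr (hc ▸ add_pos (hpos _) (hpos _))
  have hlt : Fin.cast h (Fin.natAdd i k) < j := hmono.lt_iff_lt.mp (by
    show D.P.root (e _) < D.P.root (e j)
    rw [← hc]
    exact lt_add_of_pos_right _ (hpos _))
  refine ⟨⟨j.val - i, ?_⟩, congrArg e (Fin.ext ?_)⟩
  · have := j.isLt; have hv := Fin.lt_def.mp hlt; simp at hv; omega
  · have hv := Fin.lt_def.mp hlt; simp at hv ⊢; omega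

/-- A monomial containing a variable, of weight at most that of the variable, is the variable. -/
theorem single_of_wt_le {n : ℕ} {w : Fin n → D.idx} (hw : ∀ l, 0 < D.P.root (w l)) (q : Fin n →₀ ℕ) {j : Fin n}
    (hj : q j ≠ 0) (h : wt D w q ≤ D.P.root (w j)) : q = Finsupp.single j 1 := by
  classical
  have h1 : wt D w q = q j • D.P.root (w j) + ∑ l ∈ Finset.univ.erase j, q l • D.P.root (w l) :=
    (Finset.add_sum_erase _ _ (Finset.mem_univ j)).symm
  have hnn : ∀ l ∈ Finset.univ.erase j, 0 ≤ q l • D.P.root (w l) := fun l _ => nsmul_nonneg (hw l).le _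
  obtain ⟨r, hr⟩ := Nat.exists_eq_succ_of_ne_zero hj
  rw [h1, hr, succ_nsmul, add_assoc, add_comm, add_assoc] at h
  have h2 : D.P.root (w j) + ((∑ l ∈ Finset.univ.erase j, q l • D.P.root (w l)) + r • D.P.root (w j)) ≤
      D.P.root (w j) + 0 := by
    rw [add_zero]
    refine le_of_eq_of_le ?_ h
    abel
  have h3 := le_of_add_le_add_left h2
  have ha := Finset.sum_nonneg hnn
  have hb : 0 ≤ r • D.P.root (w j) := nsmul_nonneg (hw j).le _
  have hb0 : r • D.P.root (w j) = 0 := le_antisymm ((le_add_of_nonneg_left ha).trans h3) hb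
  have ha0 : ∑ l ∈ Finset.univ.erase j, q l • D.P.root (w l) = 0 :=
    le_antisymm ((le_add_of_nonneg_right hb).trans h3) ha
  ext l
  by_cases hl : l = j
  · subst hl
    rw [Finsupp.single_eq_same, hr]
    by_contra hne
    exact ((nsmul_pos_iff (by omega)).mpr (hw l)).ne' hb0
  · rw [Finsupp.single_eq_of_ne hl]
    by_contra hne
    have h4 := (Finset.sum_eq_zero_iff_of_nonneg hnn).mp ha0 l (Finset.mem_erase.mpr ⟨hl, Finset.mem_univ l⟩)
    exact ((nsmul_pos_iff hne).mpr (hw l)).ne' h4

include he hrange hmono in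
/-- Conjugating the tail by any point keeps it and its first coordinate. -/
theorem exists_conj_tail {i m : ℕ} (h : i + m = N) (X : Over S) (x : Fin N → Γ(X.left, ⊤))
    (y : Fin m → Γ(X.left, ⊤)) : ∃ z : Fin m → Γ(X.left, ⊤),
      wordPt D X (tail e h) z = wordPt D X e x * wordPt D X (tail e h) y * (wordPt D X e x)⁻¹ ∧
        ∀ k : Fin m, (k : ℕ) = 0 → z k = y k := by
  classical
  obtain ⟨lam, hlam⟩ := exists_form hrange
  have hl := isPosClosed_all he hrange hlam
  set w := Fin.append e (tail e h) with hw_def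
  have hw : ∀ k, w k ∈ List.ofFn e :=
    Fin.addCases (fun j => List.mem_ofFn.mpr ⟨j, (Fin.append_left _ _ j).symm⟩)
      (fun j => List.mem_ofFn.mpr ⟨Fin.cast h (Fin.natAdd i j), (Fin.append_right e (tail e h) j).symm⟩)
  have hwp : ∀ k, 0 < lam (D.P.root (w k)) := fun k => hl.pos _ (hw k)
  have hpos : ∀ j, 0 < D.P.root (e j) := fun j => (hrange _).mp (Set.mem_range_self j)
  have hwo : ∀ k, 0 < D.P.root (w k) := fun k => by
    obtain ⟨j, hj⟩ := List.mem_ofFn.mp (hw k)
    exact hj ▸ hpos j
  obtain ⟨P, hP1, hP2⟩ := exists_poly D lam w _ hwp (isWeighted_conjPt e (tail e h)) (List.ofFn e) hl.nodup hl.pos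
    (hl.mem_of_wt hw)
  have hF : ∀ (x : Fin N → Γ(X.left, ⊤)) (y : Fin m → Γ(X.left, ⊤)),
      wordPt D X e x * wordPt D X (tail e h) y * (wordPt D X e x)⁻¹ =
        wordPt D X e fun j => MvPolynomial.eval₂ (glob X) (Fin.append x y) (P (e j)) := by
    intro x y
    rw [← rootProd_ofFn D e fun d => MvPolynomial.eval₂ (glob X) (Fin.append x y) (P d), ← hP2]
    simp only [conjPt, Fin.append_left, Fin.append_right]
  have hcoord : ∀ a b : Fin N → Γ(X.left, ⊤), wordPt D X e a = wordPt D X e b → a = b := by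
    intro a b hab
    haveI := hl.mono_prodMap
    rw [← coord_ofCoord a, ← coord_ofCoord b, ← comp_prodMap, ← comp_prodMap] at hab
    rw [← coord_ofCoord a, ← coord_ofCoord b, (cancel_mono _).mp hab]
  have hx0 : ∀ j, MvPolynomial.eval₂ (glob X) (Fin.append x 0) (P (e j)) = 0 := by
    refine congrFun (hcoord _ 0 ((hF x 0).symm.trans ?_))
    rw [(isWeighted_wordPt D (tail e h)).zero, (isWeighted_wordPt D e).zero]
    group
  let yv : Fin N → Γ(X.left, ⊤) := fun j => if hj : i ≤ j.val then y ⟨j.val - i, by omega⟩ else 0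
  have hpre : ∀ v : Fin N → Γ(X.left, ⊤), (∀ j : Fin N, j.val < i → v j = 0) →
      wordPt D X e v = wordPt D X (tail e h) fun k => v (Fin.cast h (Fin.natAdd i k)) := by
    intro v hv
    rw [wordPt_split e h v, show (fun j => v (Fin.cast h (Fin.castAdd m j))) = 0 from funext fun j =>
      hv _ (by simp), (isWeighted_wordPt D _).zero, _root_.one_mul]
  have hyv : ∀ k : Fin m, yv (Fin.cast h (Fin.natAdd i k)) = y k := fun k => by
    simp only [yv]
    rw [dif_pos (by simp)]
    exact congrArg y (Fin.ext (by simp))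
  have h0y : ∀ j, MvPolynomial.eval₂ (glob X) (Fin.append 0 y) (P (e j)) = yv j := by
    refine congrFun (hcoord _ yv ((hF 0 y).symm.trans ?_))
    rw [(isWeighted_wordPt D e).zero, hpre yv (fun j hj => by simp only [yv]; rw [dif_neg (by omega)])]
    simp only [hyv]
    group
  have key : ∀ j : Fin N, j.val ≤ i →
      MvPolynomial.eval₂ (glob X) (Fin.append x y) (P (e j)) = yv j := by
    intro j hji
    rw [← h0y j, ← _root_.zero_add (MvPolynomial.eval₂ _ (Fin.append (0 : Fin N → Γ(X.left, ⊤)) y) _), ← hx0 j]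
    simp only [MvPolynomial.eval₂_eq', ← Finset.sum_add_distrib, ← mul_add]
    refine Finset.sum_congr rfl fun q hq => congrArg _ ?_
    have hq0 : ∃ l, q l ≠ 0 := by
      by_contra! hz
      have h1 := hP1 _ q hq
      rw [wt, Finset.sum_eq_zero fun l _ => by rw [hz l, zero_smul]] at h1
      exact (hpos j).ne h1
    simp only [Fin.prod_univ_add, Fin.append_left, Fin.append_right, Pi.zero_apply]
    by_cases hyq : ∃ k, q (Fin.natAdd N k) ≠ 0
    · obtain ⟨k, hk⟩ := hyq
      have hwk : w (Fin.natAdd N k) = tail e h k := Fin.append_right _ _ k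
      have hqs := single_of_wt_le hwo q hk (by
        rw [hP1 _ q hq, hwk]
        exact hmono.monotone (Fin.le_def.mpr (by simp; omega)))
      have hl0 : ∀ l : Fin N, q (Fin.castAdd m l) = 0 := fun l => by
        rw [hqs, Finsupp.single_eq_of_ne (fun h' => by
          have := congrArg Fin.val h'
          simp at this
          omega)]
      simp only [hl0, pow_zero, Finset.prod_const_one]
      rw [Finset.prod_eq_zero (f := fun l : Fin m => (0 : Γ(X.left, ⊤)) ^ q (Fin.natAdd N l)) (Finset.mem_univ k)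
        (zero_pow hk), MulZeroClass.mul_zero, _root_.zero_add]
    · push Not at hyq
      obtain ⟨l, hl'⟩ : ∃ l : Fin N, q (Fin.castAdd m l) ≠ 0 := by
        by_contra! hc
        obtain ⟨l, hl'⟩ := hq0
        exact hl' (Fin.addCases hc hyq l)
      simp only [hyq, pow_zero, Finset.prod_const_one, _root_.mul_one]
      rw [Finset.prod_eq_zero (f := fun a : Fin N => (0 : Γ(X.left, ⊤)) ^ q (Fin.castAdd m a)) (Finset.mem_univ l)
        (zero_pow hl'), _root_.add_zero]
  refine ⟨fun k => MvPolynomial.eval₂ (glob X) (Fin.append x y) (P (tail e h k)), ?_, fun k hk => ?_⟩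
  · rw [hF x y]
    exact (hpre _ fun j hj => (key j hj.le).trans (by simp only [yv]; rw [dif_neg (by omega)])).symm
  · exact (key (Fin.cast h (Fin.natAdd i k)) (by simp; omega)).trans (hyv k)

end Groth.Agent.RedSub30.RootPoly
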