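import Groth.Agent.RedSub30.Centre
import Groth.Prelude.Def_RedSub

/-!
# A torus centralising a reductive subgroup of type (R) from above lies in its radical
-/

universe u

open CategoryTheory CategoryTheory.Limits MonoidalCategory CartesianMonoidalCategory MonObj AlgebraicGeometry

noncomputable section

namespace Groth.Agent.RedSub30

open GrpSchLib DSPtsLib

/-- Over an algebraically closed field a maximal torus is maximal among the subtori. -/
theorem isIso_of_isMaximalTorus {K : Type u} [Field K] [IsAlgClosed K] {T G : Over (Spec (CommRingCat.of K))}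
    [GrpObj T] [GrpObj G] {i : T ⟶ G} (hi : Red.IsMaximalTorus i) (T' : Over (Spec (CommRingCat.of K))) [GrpObj T']
    (t : T' ⟶ G) [IsMonHom t] [Mono t] (f : T ⟶ T') (hT' : Red.IsTorus T') (hf : f ≫ t = i) : IsIso f := by
  let S := Spec (CommRingCat.of K)
  let s : S := IsLocalRing.closedPoint K
  let g := Red.geomPt s
  obtain ⟨ρ, hρ⟩ : ∃ ρ, Spec.map ρ = S.fromSpecResidueField s := ⟨_, Spec.map_preimage _⟩
  haveI : IsClosedImmersion (S.fromSpecResidueField s) := by
    refine IsClosedImmersion.of_isPreimmersion _ ?_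
    rw [Scheme.range_fromSpecResidueField]
    exact IsLocalRing.isClosed_singleton_closedPoint K
  haveI : Surjective (S.fromSpecResidueField s) :=
    ⟨fun x => ⟨IsLocalRing.closedPoint (S.residueField s), Subsingleton.elim _ _⟩⟩
  haveI : IsIso (S.fromSpecResidueField s) := isIso_of_isClosedImmersion_of_surjective _
  haveI : IsIso (Spec.map ρ) := by rw [hρ]; infer_instance
  haveI : IsIso (Scheme.Spec.map ρ.op) := ‹IsIso (Spec.map ρ)›
  haveI : IsIso ρ.op := isIso_of_fully_faithful Scheme.Spec ρ.op
  haveI : IsIso ρ := isIso_of_op ρ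
  have hρb : Function.Bijective ρ.hom := ConcreteCategory.bijective_of_isIso ρ
  haveI : IsAlgClosed (S.residueField s) := IsAlgClosed.of_ringEquiv K _ (RingEquiv.ofBijective ρ.hom hρb)
  haveI : IsIso (CommRingCat.ofHom (algebraMap (S.residueField s) (AlgebraicClosure (S.residueField s)))) :=
    (ConcreteCategory.isIso_iff_bijective _).mpr IsAlgClosed.algebraMap_bijective_of_isIntegral
  haveI : IsIso g := inferInstanceAs (IsIso (Spec.map _ ≫ S.fromSpecResidueField s))
  haveI := hi.2.2.2 s (Red.bc g T') ((Over.pullback g).map t) ((Over.pullback g).map f) (TorusAbsorb.isTorus_bc g hT')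
    (by rw [← Functor.map_comp, hf])
  haveI : IsIso ((Over.pullback g).map f).left :=
    inferInstanceAs (IsIso ((Over.forget _).map ((Over.pullback g).map f)))
  haveI : IsIso (pullback.fst T.hom g) := inferInstance
  haveI : IsIso (pullback.fst T'.hom g) := inferInstance
  haveI : IsIso ((Over.forget _).map f) := by
    show IsIso f.left
    have h := HomSplitLocal.map_fst f g
    haveI : IsIso (pullback.fst T.hom g ≫ f.left) := by rw [← h]; infer_instance
    exact IsIso.of_isIso_comp_left (pullback.fst T.hom g) f.left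
  exact isIso_of_reflects_iso f (Over.forget _)

/-- Let `H` be a subgroup of type (R) of the affine smooth group `G`, `R` the maximal torus of its centre and
`W ⊇ H` a subgroup. A torus of `W` which is central in `W` factors through `R`. -/
theorem exists_factor_centre_radical {S : Scheme.{u}} {G H W ZH R A : Over S} [GrpObj G] [GrpObj H] [GrpObj W] [GrpObj ZH]
    [GrpObj R] [GrpObj A] [IsAffineHom G.hom] [LocallyOfFiniteType G.hom] (i : H ⟶ G) (hi : RedSub.IsTypeR i)
    (jz : ZH ⟶ H) (hZH : Red.IsCentre jz) (r : R ⟶ ZH) (hR : Red.IsMaximalTorus r)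
    (w : W ⟶ G) [IsMonHom w] [Mono w] (k : H ⟶ W) (hk : k ≫ w = i) (hA : Red.IsTorus A) (a : A ⟶ W) [IsMonHom a]
    (ha : ∀ (X : Over S) (g : X ⟶ W) (x : X ⟶ A), (x ≫ a) * g = g * (x ≫ a)) :
    ∃ l : A ⟶ R, l ≫ r ≫ jz ≫ k = a := by
  obtain ⟨⟨hihom, hiimm⟩, -, -, -, hTs⟩ := hi
  haveI := hihom
  haveI := hiimm
  haveI : Mono i := Over.mono_of_mono_left _
  haveI := hZH.1
  haveI := hZH.2.1
  haveI := hR.1
  haveI := hR.2.1
  haveI := isCommMonObj_centre hZH
  haveI : IsMonHom (k ≫ w) := by rwa [hk]
  haveI : IsMonHom k := isMonHom_of_mono w k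
  haveI : Mono (k ≫ w) := by rwa [hk]
  haveI : Mono k := mono_of_mono k w
  let iR := r ≫ jz ≫ k
  haveI : IsMonHom iR := inferInstanceAs (IsMonHom (r ≫ jz ≫ k))
  haveI : Mono iR := inferInstanceAs (Mono (r ≫ jz ≫ k))
  haveI : IsClosedImmersion (iR ≫ w).left :=
    TorusClosed.isClosedImmersion_of_mono (iR ≫ w) (RankOne.isMultTypeFT_of_isTorus hR.2.2.1)
  haveI : IsClosedImmersion (iR.left ≫ w.left) := by rwa [← Over.comp_left]
  haveI : IsImmersion iR.left := IsImmersion.of_comp iR.left w.left
  obtain ⟨K, c, hcc, hcfp, hc⟩ := SubgroupEqLocus.exists_agree (iR ≫ w) (a ≫ w)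
  haveI := hcfp (Or.inr inferInstance)
  obtain ⟨U, -, hU, hle⟩ := TorusAbsorb.main iR a (RankOne.isMultTypeFT_of_isTorus hR.2.2.1)
    (RankOne.isMultTypeFT_of_isTorus hA) (Or.inr fun Y g x => (ha Y g x).symm) c (fun Y g => by
      rw [← hc Y g, ← cancel_mono w]
      simp only [Category.assoc])
  have hall : ∀ s : S, s ∈ U := fun s => by
    rw [hU]
    refine SubgroupEqLocus.Le.of_covers (Spec.map (CommRingCat.ofHom
      (algebraMap (S.residueField s) (AlgebraicClosure (S.residueField s))))) (HomUnitLocus.covers_field _) ?_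
    let g := Red.geomPt s
    haveI : IsAffineHom (pullback.snd G.hom g) := inferInstance
    haveI : IsAffine (Red.geomFibre s G).left := isAffine_of_isAffineHom (pullback.snd G.hom g)
    haveI : LocallyOfFiniteType (Red.geomFibre s G).hom := inferInstanceAs (LocallyOfFiniteType (pullback.snd G.hom g))
    let F := Over.pullback g
    obtain ⟨T, _, t, htm, htmax⟩ := hTs s
    obtain ⟨htG, htmono, hT, -⟩ := id htmax
    haveI := htG
    haveI := htmono
    haveI := htm
    -- the torus lies in the maximal torus of the fibre of `G`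
    obtain ⟨l, hl⟩ := exists_factor_of_maximal (Z := Red.geomFibre s G) (𝟙 _) (TorusAbsorb.isTorus_bc g hA) hT
      (F.map (a ≫ w)) (t ≫ F.map i)
      (fun T' _ j _ _ f hT' hf => isIso_of_isMaximalTorus htmax T' j f hT' hf)
      (fun X x y => by
        refine (theta_bijective g).1 ?_
        rw [theta_mul, theta_mul, ← Category.assoc y, RankOne.theta_map, RankOne.theta_map, ← hk,
          ← Category.assoc (theta g x) a w, ← Category.assoc (theta g (y ≫ t)) k w, ← MonObj.mul_comp,
          ← MonObj.mul_comp, ha])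
    have hm : (l ≫ t) ≫ F.map k = F.map a := by
      rw [← cancel_mono (F.map w), Category.assoc, ← Functor.map_comp, hk, ← Functor.map_comp, Category.assoc]
      exact hl
    -- it is central in the fibre of `H`
    obtain ⟨z₀, hz₀⟩ := (hZH.2.2 _ (theta g (l ≫ t))).mpr fun X' x h => by
      rw [Category.comp_id, ← cancel_mono k, MonObj.mul_comp, MonObj.mul_comp, Category.assoc, ← RankOne.theta_map, hm,
        ← Category.id_comp (F.map a), RankOne.theta_map, ← Category.assoc, ha]
    obtain ⟨mz, rfl⟩ := (theta_bijective g).2 z₀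
    rw [← RankOne.theta_map] at hz₀
    have hmz : mz ≫ F.map jz = l ≫ t := (theta_bijective g).1 hz₀
    haveI : IsMonHom (mz ≫ F.map (jz ≫ k)) := by
      rw [Functor.map_comp, reassoc_of% hmz, ← Category.assoc, hm]
      infer_instance
    haveI : IsMonHom mz := isMonHom_of_mono (F.map (jz ≫ k)) mz
    haveI : IsCommMonObj (Red.geomFibre s ZH) := RankOne.isCommMonObj_bc g ZH
    obtain ⟨l', hl'⟩ := exists_factor_of_maximal (F.map (jz ≫ i)) (TorusAbsorb.isTorus_bc g hA)
      (TorusAbsorb.isTorus_bc g hR.2.2.1) mz (F.map r) (fun T' _ j _ _ f hT' hf => hR.2.2.2 s T' j f hT' hf)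
      fun _ _ _ => mul_comm _ _
    refine TorusAbsorb.le_of_bc iR a g l' ?_
    show l' ≫ F.map (r ≫ jz ≫ k) = F.map a
    rw [Functor.map_comp, reassoc_of% hl', Functor.map_comp, reassoc_of% hmz, ← Category.assoc, hm]
  obtain ⟨l, hl⟩ := hle A (Over.homMk (IsOpenImmersion.lift U.ι A.hom (by
    rw [Scheme.Opens.range_ι]
    rintro x -
    exact hall x)) (IsOpenImmersion.lift_fac _ _ _)) (𝟙 A)
  exact ⟨l, hl.trans (Category.id_comp a)⟩

end Groth.Agent.RedSub30
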