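import Groth.Prelude.Def_RedSub
import Groth.Agent.SmoothSecLib.Basic
import Groth.Agent.Hensel.FiniteEtaleLift
import Groth.Agent.Hensel.SmoothLift
import Mathlib.AlgebraicGeometry.Morphisms.LocalFlatDescent
import Mathlib.RingTheory.Henselian

/-!
# Torsors under smooth groups over henselian local rings
-/

open CategoryTheory Limits MonoidalCategory CartesianMonoidalCategory MonObj GrpObj AlgebraicGeometry
open scoped TensorProduct

universe u

namespace Groth.Agent.RedSub30

set_option backward.isDefEq.respectTransparency.types false in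
theorem smooth_of_isTorsor {S : Scheme.{u}} {G X : Over S} [GrpObj G] [Smooth G.hom]
    {a : AlgGrp.Action G X} (ha : RedSub.IsTorsor a) : Smooth X.hom := by
  obtain ⟨h1, h2, h3, h4⟩ := ha
  have := h4
  have : IsIso (lift a.act (snd G X)).left := (Over.forget S).map_isIso (lift a.act (snd G X))
  let e : pullback G.hom X.hom ⟶ pullback X.hom X.hom := (lift a.act (snd G X)).left
  have : IsIso e := ‹_›
  have he : e ≫ pullback.snd X.hom X.hom = pullback.snd G.hom X.hom :=
    congrArg CommaMorphism.left (lift_snd a.act (snd G X))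
  refine MorphismProperty.of_pullback_snd_of_descendsAlong
    (P := @Smooth) (Q := @Surjective ⊓ @Flat ⊓ @LocallyOfFinitePresentation) (g := X.hom) ⟨⟨h1, h2⟩, h3⟩ ?_
  rw [← MorphismProperty.cancel_left_of_respectsIso @Smooth e, he]
  exact MorphismProperty.pullback_snd _ _ ‹Smooth G.hom›

/-- A smooth surjective scheme over a henselian local ring has a section after a finite étale covering. -/
theorem exists_finiteEtale_section_of_smooth (A : Type u) [CommRing A] [HenselianLocalRing A] {X : Scheme.{u}}
    (f : X ⟶ Spec (CommRingCat.of A)) [Smooth f] [Surjective f] :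
    ∃ (S' : Scheme.{u}) (g : S' ⟶ Spec (CommRingCat.of A)) (σ : S' ⟶ X),
      IsFinite g ∧ Etale g ∧ Surjective g ∧ σ ≫ f = g := by
  let m := IsLocalRing.maximalIdeal A
  let k := A ⧸ m
  let : Field k := Ideal.Quotient.field m
  let i : Spec (CommRingCat.of k) ⟶ Spec (CommRingCat.of A) := Spec.map (CommRingCat.ofHom (Ideal.Quotient.mk m))
  obtain ⟨x, hx⟩ := f.surjective (i (IsLocalRing.closedPoint k))
  obtain ⟨U, hU, hxU, -⟩ := exists_isAffineOpen_mem_and_subset (show x ∈ (⊤ : X.Opens) from trivial)
  let φ : CommRingCat.of A ⟶ Γ(X, U) := Spec.preimage (hU.fromSpec ≫ f)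
  have hφ : Spec.map φ = hU.fromSpec ≫ f := Spec.map_preimage _
  let : Algebra A Γ(X, U) := φ.hom.toAlgebra
  have : Algebra.Smooth A Γ(X, U) := by
    have h : Smooth (Spec.map φ) := by rw [hφ]; infer_instance
    rw [HasRingHomProperty.Spec_iff (P := @Smooth)] at h
    exact RingHom.smooth_algebraMap.mp h
  let Xk := pullback (hU.fromSpec ≫ f) i
  obtain ⟨z, hz⟩ : ∃ z : ↥Xk, True := by
    obtain ⟨y, rfl⟩ : x ∈ Set.range hU.fromSpec := by rw [hU.range_fromSpec]; exact hxU
    obtain ⟨z, -, -⟩ := Scheme.Pullback.exists_preimage_pullback (f := hU.fromSpec ≫ f) (g := i) y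
      (IsLocalRing.closedPoint k) (by rw [Scheme.Hom.comp_apply]; exact hx)
    exact ⟨z, trivial⟩
  obtain ⟨k', _, _, hkfin, hksep, t, ht, -⟩ :=
    SmoothSecLib.exists_separable_point (pullback.snd (hU.fromSpec ≫ f) i) ⊤ (x := z) trivial
  have : Algebra.FormallyEtale k k' := (Algebra.FormallyEtale.iff_isSeparable k k').mpr hksep
  have : Algebra.Etale k k' :=
    { finitePresentation := Algebra.FinitePresentation.of_finiteType.mp inferInstance }
  let : Algebra A k' := ((algebraMap k k').comp (Ideal.Quotient.mk m)).toAlgebra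
  have : IsScalarTower A k k' := IsScalarTower.of_algebraMap_eq' rfl
  obtain ⟨B, _, _, hBfin, hBet, ⟨e⟩⟩ := Hensel.exists_finite_etale_lift (I := m) k'
  let r : B →ₐ[A] k' := (e.toAlgHom.restrictScalars A).comp Algebra.TensorProduct.includeRight
  have hr : Function.Surjective r :=
    e.surjective.comp (TensorProduct.mk_surjective A B (A ⧸ m) Ideal.Quotient.mk_surjective)
  -- the point of the closed fibre as a homomorphism
  let s : Γ(X, U) ⟶ CommRingCat.of k' := Spec.preimage (t ≫ pullback.fst (hU.fromSpec ≫ f) i)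
  have hs : φ ≫ s = CommRingCat.ofHom (algebraMap A k') := Spec.map_injective (by
    rw [Spec.map_comp, Spec.map_preimage, hφ, Category.assoc, pullback.condition, reassoc_of% ht,
      ← Spec.map_comp, ← CommRingCat.ofHom_comp])
  let s' : Γ(X, U) →ₐ[A] k' := { s.hom with commutes' := fun a => congr($hs a) }
  let IB : Ideal B := m.map (algebraMap A B)
  have : Algebra.IsIntegral A B := Algebra.IsIntegral.of_finite A B
  have : HenselianRing B IB := Hensel.henselianRing_of_isIntegral' m B
  have hker : RingHom.ker r = IB := by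
    rw [show RingHom.ker r = RingHom.ker (Algebra.TensorProduct.includeRight : B →ₐ[A] k ⊗[A] B) from by
      ext b; simp [r, RingHom.mem_ker]]
    ext b
    rw [RingHom.mem_ker]
    show (1 : A ⧸ m) ⊗ₜ[A] b = 0 ↔ _
    rw [← (TensorProduct.quotTensorEquivQuotSMul B m).map_eq_zero_iff]
    show Submodule.Quotient.mk ((1 : A) • b) = 0 ↔ _
    rw [one_smul, Submodule.Quotient.mk_eq_zero, Ideal.smul_top_eq_map]
    rfl
  let q : (B ⧸ IB) ≃ₐ[A] k' := (Ideal.quotientEquivAlgOfEq A hker.symm).trans
    (Ideal.quotientKerAlgEquivOfSurjective hr)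
  obtain ⟨τ, -⟩ := Hensel.exists_smooth_lift (A := B) (I := IB) (R := A) (S := Γ(X, U))
    ((q.symm.toAlgHom).comp s')
  have : Nontrivial (k ⊗[A] B) := e.toEquiv.nontrivial
  have : Module.Flat A B := inferInstance
  have : Module.FaithfullyFlat A B := ⟨fun M hM htop => by
    obtain rfl := IsLocalRing.eq_maximalIdeal hM
    have : Subsingleton (k ⊗[A] B) := by
      refine (TensorProduct.quotTensorEquivQuotSMul B m).toEquiv.subsingleton_congr.mpr ?_
      exact Submodule.Quotient.subsingleton_iff.mpr htop
    exact not_subsingleton _ this⟩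
  refine ⟨Spec (CommRingCat.of B), Spec.map (CommRingCat.ofHom (algebraMap A B)),
    Spec.map (CommRingCat.ofHom τ.toRingHom) ≫ hU.fromSpec, ?_, ?_, ?_, ?_⟩
  · rw [IsFinite.SpecMap_iff]
    exact RingHom.finite_algebraMap.mpr hBfin
  · rw [HasRingHomProperty.Spec_iff (P := @Etale)]
    exact RingHom.etale_algebraMap.mpr hBet
  · exact ⟨PrimeSpectrum.comap_surjective_of_faithfullyFlat⟩
  · rw [Category.assoc, ← hφ, ← Spec.map_comp]
    congr 1
    ext a
    exact τ.commutes a

end Groth.Agent.RedSub30
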