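import Groth.Agent.RedSub30.TypeRRoots
import Groth.Agent.BigCell29.Global
import Groth.Agent.RedRk29.Geom
import Groth.Agent.Rank2Red38.Commute
import Groth.Prelude.Def_RedSub

/-!
# The root set of a subgroup of type (R) containing the torus
-/

set_option autoImplicit false
set_option synthInstance.maxHeartbeats 100000

universe u

open CategoryTheory CategoryTheory.Limits MonoidalCategory CartesianMonoidalCategory AlgebraicGeometry WithConv
open scoped MonObj AddMonoidAlgebra

namespace Groth.Agent.RedSub30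

open BigCell29 GrpSchLib.AffineHopf

variable {S : Scheme.{u}} {G H : Over S} [GrpObj G] [GrpObj H]

omit [GrpObj G] [GrpObj H] in
/-- A morphism to `G` factors through an immersed subgroup if it does so on affine test objects over affine pieces
of the base. -/
theorem exists_factor_of_pts {X : Over S} (h : H ⟶ G) [IsImmersion h.left] (x : X ⟶ G)
    (hpts : ∀ (R : Type u) [CommRing R] (f : Spec (CommRingCat.of R) ⟶ S) [IsOpenImmersion f] (B : Type u)
      [CommRing B] [Algebra R B] (j : tObj f B ⟶ X), ∃ y : tObj f B ⟶ H, y ≫ h = j ≫ x) :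
    ∃ y : X ⟶ H, y ≫ h = x := by
  let p := pullback.fst x.left h.left
  suffices hp : IsIso p by
    have e : ((inv p) ≫ pullback.snd x.left h.left) ≫ h.left = x.left := by
      rw [Category.assoc, ← pullback.condition, IsIso.inv_hom_id_assoc]
    exact ⟨Over.homMk (inv p ≫ pullback.snd _ _) (by rw [← Over.w h, ← Category.assoc, e, Over.w x]),
      Over.OverMorphism.ext e⟩
  have hloc : ∀ z : X.left, ∃ U : X.left.Opens, z ∈ U ∧ IsIso (p ∣_ U) := by
    intro z
    obtain ⟨R, hR⟩ : ∃ R : CommRingCat.{u}, S.affineCover.X (S.affineCover.idx (X.hom.base z)) = Spec R := ⟨_, rfl⟩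
    let f : Spec R ⟶ S := eqToHom hR.symm ≫ S.affineCover.f _
    have : IsOpenImmersion f := inferInstance
    have hz : z ∈ X.hom ⁻¹ᵁ f.opensRange := by
      obtain ⟨w, hw⟩ := S.affineCover.covers (X.hom.base z)
      refine ⟨(eqToHom hR).base w, ?_⟩
      rw [← Scheme.Hom.comp_apply]
      simp only [f, eqToHom_trans_assoc, eqToHom_refl, Category.id_comp]
      exact hw
    obtain ⟨_, ⟨U, hU, rfl⟩, hzU, hUV⟩ := X.left.isBasis_affineOpens.exists_subset_of_mem_open hz (X.hom ⁻¹ᵁ f.opensRange).2
    refine ⟨U, hzU, ?_⟩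
    let B := Γ(X.left, U)
    let c : Spec B ⟶ X.left := (IsAffineOpen.fromSpec hU)
    have hrange : Set.range (c ≫ X.hom).base ⊆ Set.range f.base := by
      rintro _ ⟨w, rfl⟩
      have : c.base w ∈ (U : Set X.left) := (IsAffineOpen.range_fromSpec hU) ▸ ⟨w, rfl⟩
      exact hUV this
    let l := IsOpenImmersion.lift f (c ≫ X.hom) hrange
    obtain ⟨α, hα⟩ := Spec.map_surjective l
    let : Algebra (R : Type u) (B : Type u) := α.hom.toAlgebra
    let j : tObj (R := (R : Type u)) f (B : Type u) ⟶ X := Over.homMk c (by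
      show c ≫ X.hom = Spec.map α ≫ f
      rw [hα]
      exact (IsOpenImmersion.lift_fac _ _ _).symm)
    obtain ⟨y, hy⟩ := hpts (R : Type u) f (B : Type u) j
    have ey : c ≫ x.left = y.left ≫ h.left := (congrArg CommaMorphism.left hy).symm
    have hs : pullback.lift c y.left ey ≫ p = c := pullback.lift_fst _ _ _
    have : Mono p := inferInstance
    let q : (U : Scheme.{u}) ⟶ pullback x.left h.left := hU.isoSpec.hom ≫ pullback.lift c y.left ey
    have hq : q ≫ p = (Scheme.Opens.ι U) := by
      rw [Category.assoc, hs]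
      exact hU.isoSpec_hom_fromSpec
    have hqr : Set.range q.base ⊆ Set.range (p ⁻¹ᵁ U).ι.base := by
      rintro _ ⟨w, rfl⟩
      rw [Scheme.Opens.range_ι]
      show p.base (q.base w) ∈ U
      rw [← Scheme.Hom.comp_apply, hq]
      exact w.2
    have : Mono (p ∣_ U) := MorphismProperty.of_isPullback (P := MorphismProperty.monomorphisms Scheme)
      (isPullback_morphismRestrict p U).flip ‹Mono p›
    have hsec : IsOpenImmersion.lift (p ⁻¹ᵁ U).ι q hqr ≫ (p ∣_ U) = 𝟙 _ := by
      rw [← cancel_mono (Scheme.Opens.ι U), Category.assoc, morphismRestrict_ι, IsOpenImmersion.lift_fac_assoc, hq, Category.id_comp]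
    exact ⟨_, (cancel_mono (p ∣_ U)).mp (by rw [Category.assoc, hsec, Category.comp_id, Category.id_comp]), hsec⟩
  choose U hU hUiso using hloc
  refine (IsZariskiLocalAtTarget.iff_of_iSup_eq_top (P := MorphismProperty.isomorphisms Scheme) U ?_).mpr hUiso
  exact top_le_iff.mp fun z _ => TopologicalSpace.Opens.mem_iSup.mpr ⟨z, hU z⟩

variable (D : Red.SplitRed G)

/-- Separating forms for a root, from reducedness. -/
theorem exists_forms [Nonempty S] (a : D.idx) : ∃ lam nu : D.M →+ ℤ, 0 < lam (D.P.root a) ∧ nu (D.P.root a) = 0 ∧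
    ∀ i, i ≠ a → 0 < lam (D.P.root i) → nu (D.P.root i) ≠ 0 := by
  have := RedRk29.isReduced D
  obtain ⟨lam0, hlam0⟩ := exists_generic_form (fun i => D.P.root i) fun i => D.P.ne_zero i
  obtain ⟨lam, hlam⟩ : ∃ lam : D.M →+ ℤ, 0 < lam (D.P.root a) := by
    rcases (hlam0 a).lt_or_gt with h | h
    · exact ⟨-lam0, by simpa using h⟩
    · exact ⟨lam0, h⟩
  let J := {i : D.idx // i ≠ a ∧ D.P.root i ≠ -D.P.root a}
  obtain ⟨ν, hν⟩ := exists_generic_form
    (fun i : J => (2 : ℤ) • D.P.root i.1 - D.P.pairing i.1 a • D.P.root a) fun i h0 => by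
      rw [sub_eq_zero] at h0
      have h2 := LinearIndependent.pair_iff.mp (RootPairing.IsReduced.linearIndependent D.P i.2.1 i.2.2) 2
        (-D.P.pairing i.1 a) (by rw [h0, neg_smul, add_neg_cancel])
      exact two_ne_zero h2.1
  refine ⟨lam, (2 : ℤ) • ν - ν (D.P.root a) • (D.P.coroot a).toAddMonoidHom, hlam, ?_, fun i hi hpos => ?_⟩
  · simp [← Rank2Red38.pairing_eq_apply]
    ring
  · have hne : D.P.root i ≠ -D.P.root a := fun e => by rw [e, map_neg] at hpos; omega
    have := hν ⟨i, hi, hne⟩
    simp only [map_sub, map_zsmul, smul_eq_mul] at this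
    simp only [AddMonoidHom.sub_apply, AddMonoidHom.smul_apply, LinearMap.toAddMonoidHom_coe, smul_eq_mul,
      ← Rank2Red38.pairing_eq_apply]
    intro hh
    exact this (by linear_combination hh)

variable (h : H ⟶ G)

/-- The points of the base over which the root group lies in the subgroup. -/
def FullAt (a : D.idx) (s : S) : Prop :=
  ∃ (K : Type u) (_ : Field K) (b : Spec (CommRingCat.of K) ⟶ S), b.base (IsLocalRing.closedPoint K) = s ∧
    ∃ (x : Over.mk b ⟶ Red.Ga S) (y : Over.mk b ⟶ H), x ≠ 1 ∧ y ≫ h = x ≫ D.u a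

variable [IsMonHom h] [IsImmersion h.left] [QuasiCompact h.left] [Smooth H.hom]
  {R : Type u} [CommRing R] {f : Spec (CommRingCat.of R) ⟶ S} [IsOpenImmersion f] {A : Type u} [CommRing A]
  [HopfAlgebra R A] (Md : Model f G A)

omit [IsOpenImmersion f] in
theorem gaPt_zero {B : Type u} [CommRing B] [Algebra R B] : gaPt f (0 : B) = 1 := by
  refine GrpSchLib.GaPts.gaFn_injective (T := tObj f B) ?_
  show Red.gaFn _ = Red.gaFn _
  rw [gaFn_gaPt, map_zero, GrpSchLib.GaPts.gaFn_one]

theorem fullSet_eq (a : D.idx) : fullSet D h Md a = f.base ⁻¹' {s | FullAt D h a s} := by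
  ext p
  constructor
  · rintro ⟨K, _, _, hker, x, hx0, y, hy⟩
    refine ⟨K, inferInstance, Spec.map (CommRingCat.ofHom (algebraMap R K)) ≫ f, ?_, gaPt f x, y, fun e => ?_, ?_⟩
    · rw [Scheme.Hom.comp_apply]
      refine congrArg f.base (PrimeSpectrum.ext ?_)
      show Ideal.comap (algebraMap R K) (IsLocalRing.maximalIdeal K) = p.asIdeal
      rw [IsLocalRing.maximalIdeal_eq_bot, ← RingHom.ker_eq_comap_bot, hker]
    · exact hx0 ((gaPt_bijective f).injective (e.trans gaPt_zero.symm))
    · rw [hy, Md.pt_rt]; rfl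
  · rintro ⟨K, _, b, hb, x, y, hx, hy⟩
    have hr : Set.range b.base ⊆ Set.range f.base := by
      rintro _ ⟨q, rfl⟩
      rw [Subsingleton.elim (α := PrimeSpectrum K) q (IsLocalRing.closedPoint K), hb]
      exact ⟨p, rfl⟩
    let l := IsOpenImmersion.lift f b hr
    obtain ⟨α, hα⟩ := Spec.map_surjective l
    let : Algebra R K := α.hom.toAlgebra
    let e : tObj f K ⟶ Over.mk b := Over.homMk (𝟙 _) (by
      show 𝟙 _ ≫ b = Spec.map α ≫ f
      rw [hα, IsOpenImmersion.lift_fac, Category.id_comp])
    have he : IsIso e := by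
      have : IsIso ((Over.forget S).map e) := inferInstanceAs (IsIso (𝟙 _))
      exact isIso_of_reflects_iso e (Over.forget S)
    obtain ⟨z, hz⟩ := (gaPt_bijective f).surjective (e ≫ x)
    refine ⟨K, inferInstance, inferInstance, ?_, z, fun h0 => hx ?_, e ≫ y, ?_⟩
    · have h2 : l.base (IsLocalRing.closedPoint K) = p := f.isOpenEmbedding.injective (by
        rw [← Scheme.Hom.comp_apply, IsOpenImmersion.lift_fac, hb])
      rw [← hα] at h2
      rw [← h2, RingHom.ker_eq_comap_bot, ← IsLocalRing.maximalIdeal_eq_bot]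
      rfl
    · rw [← cancel_epi e, ← hz, h0, gaPt_zero, MonObj.comp_one]
    · rw [Category.assoc, hy, Md.pt_rt, rtG, hz, Category.assoc]

variable (t : D.T ⟶ H) (ht : t ≫ h = D.i)

include ht in
/-- Either the root group lies in the subgroup over every point, or over none. -/
theorem fullAt_all_or_none [ConnectedSpace S] (a : D.idx) :
    (∀ s, FullAt D h a s) ∨ (∀ s, ¬ FullAt D h a s) := by
  have hne : Nonempty S := inferInstance
  obtain ⟨lam, nu, hlam, hnua, hnu⟩ := exists_forms D a
  have : IsAffineHom G.hom := D.reductive.1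
  have key : ∀ s : S, ∃ U : TopologicalSpace.Opens S, s ∈ U ∧
      IsOpen ({s | FullAt D h a s} ∩ U) ∧ IsOpen ({s | FullAt D h a s}ᶜ ∩ U) := by
    intro s
    obtain ⟨R, f, hf, A, _, _, Md, hr⟩ := exists_local_model G (S.affineCover.idx s)
    refine ⟨f.opensRange, (hr ▸ S.affineCover.covers s : s ∈ Set.range f.base), ?_, ?_⟩
    · rw [Scheme.Hom.coe_opensRange, ← Set.image_preimage_eq_inter_range, ← fullSet_eq D h Md a]
      exact f.isOpenEmbedding.isOpenMap _ (isOpen_fullSet D h t ht Md a hlam hnua hnu)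
    · rw [Scheme.Hom.coe_opensRange, ← Set.image_preimage_eq_inter_range, Set.preimage_compl, ← fullSet_eq D h Md a]
      exact f.isOpenEmbedding.isOpenMap _ (isClosed_fullSet D h t ht Md a).isOpen_compl
  have h1 : IsClopen {s | FullAt D h a s} := by
    refine ⟨isOpen_compl_iff.mp (isOpen_iff_forall_mem_open.mpr fun s hs => ?_),
      isOpen_iff_forall_mem_open.mpr fun s hs => ?_⟩
    · obtain ⟨U, hU, -, h2⟩ := key s
      exact ⟨_, Set.inter_subset_left, h2, hs, hU⟩
    · obtain ⟨U, hU, h2, -⟩ := key s
      exact ⟨_, Set.inter_subset_left, h2, hs, hU⟩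
  rcases isClopen_iff.mp h1 with e | e
  · exact Or.inr fun s hs => Set.eq_empty_iff_forall_notMem.mp e s hs
  · exact Or.inl fun s => (Set.eq_univ_iff_forall.mp e) s

include ht in
/-- The functions vanishing on the subgroup vanish on a root group which lies in it everywhere. -/
theorem coeff_eq_zero_of_all (a : D.idx) (hall : ∀ s, FullAt D h a s) {c : A} (hc : (subPts h Md).Ann c) (n : ℕ) :
    ((Md.frame D).φ a c).coeff n = 0 := by
  classical
  set F := Md.frame D
  set r := (F.φ a c).coeff n
  suffices h1 : ∀ p : PrimeSpectrum R, ∃ s : R, s ∉ p.asIdeal ∧ s * r = 0 by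
    let I : Ideal R := Submodule.annihilator (Ideal.span {r})
    have hI : I = ⊤ := by
      by_contra hI
      obtain ⟨m, hm, hIm⟩ := Ideal.exists_le_maximal I hI
      obtain ⟨s, hs, hsr⟩ := h1 ⟨m, hm.isPrime⟩
      exact hs (hIm (Submodule.mem_annihilator_span_singleton r s |>.mpr hsr))
    have h2 : (1 : R) ∈ I := hI ▸ Submodule.mem_top
    simpa using (Submodule.mem_annihilator_span_singleton r 1).mp h2
  intro p
  have hne : Nonempty S := ⟨f.base p⟩
  obtain ⟨lam, nu, hlam, hnua, hnu⟩ := exists_forms D a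
  let gR := (Md.pt (F.rt a (Polynomial.X : Polynomial R))).left
  let C := Spec.map (CommRingCat.ofHom (algebraMap R (Polynomial R)))
  let q := pullback.snd h.left gR ≫ C
  have : Smooth q := smooth_rootLine D h t ht Md a hlam hnua hnu
  obtain ⟨K, _, _, hker, x, hx0, y, hy⟩ : p ∈ fullSet D h Md a := by rw [fullSet_eq D h Md a]; exact hall _
  let ev : Polynomial R →ₐ[R] K := Polynomial.aeval x
  have e : y.left ≫ h.left = Spec.map (CommRingCat.ofHom ev.toRingHom) ≫ gR := by
    refine (congrArg CommaMorphism.left hy).trans ?_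
    rw [show F.rt a x = mapPt ev (F.rt a (Polynomial.X : Polynomial R)) by rw [F.mapPt_rt]; simp [ev], Md.pt_map]
    rfl
  let z := (pullback.lift y.left _ e).base (IsLocalRing.closedPoint K)
  let V : (pullback h.left gR).Opens :=
    (pullback.snd h.left gR) ⁻¹ᵁ (PrimeSpectrum.basicOpen (Polynomial.X : Polynomial R))
  have hzV : z ∈ V := by
    show (pullback.snd h.left gR).base z ∈ PrimeSpectrum.basicOpen _
    rw [← Scheme.Hom.comp_apply, pullback.lift_snd]
    intro h0
    have h1 : (Polynomial.aeval x) (Polynomial.X : Polynomial R) ∈ IsLocalRing.maximalIdeal K := Ideal.mem_comap.mp h0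
    rw [IsLocalRing.mem_maximalIdeal, mem_nonunits_iff, Polynomial.aeval_X, isUnit_iff_ne_zero, not_not] at h1
    exact hx0 h1
  obtain ⟨_, ⟨U, hU, rfl⟩, hzU, hUV⟩ := (pullback h.left gR).isBasis_affineOpens.exists_subset_of_mem_open hzV V.2
  let B := Γ(pullback h.left gR, U)
  let c' : Spec B ⟶ pullback h.left gR := IsAffineOpen.fromSpec hU
  obtain ⟨α, hα⟩ := Spec.map_surjective (c' ≫ q)
  obtain ⟨β, hβ⟩ := Spec.map_surjective (c' ≫ pullback.snd h.left gR)
  let : Algebra R (B : Type u) := α.hom.toAlgebra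
  have hαβ : CommRingCat.ofHom (algebraMap R (Polynomial R)) ≫ β = α := Spec.map_injective (by
    rw [Spec.map_comp, hβ, hα, Category.assoc])
  let βa : Polynomial R →ₐ[R] (B : Type u) := ⟨β.hom, fun r => RingHom.congr_fun (congrArg CommRingCat.Hom.hom hαβ) r⟩
  have hy2 : InSub h Md (F.rt a (βa Polynomial.X)) := by
    rw [← F.mapPt_rt βa, InSub, Md.pt_map]
    refine ⟨Over.homMk (c' ≫ pullback.fst h.left gR) ?_, Over.OverMorphism.ext ?_⟩
    · have e := Over.w (tMap f βa ≫ Md.pt (F.rt a (Polynomial.X : Polynomial R)))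
      refine Eq.trans ?_ e
      rw [← Over.w h, Category.assoc, pullback.condition_assoc, Over.comp_left, Category.assoc]
      show _ = Spec.map β ≫ _
      rw [hβ, Category.assoc]
    · show (c' ≫ pullback.fst h.left gR) ≫ h.left = Spec.map β ≫ gR
      rw [hβ, Category.assoc, pullback.condition, Category.assoc]
  have hunit : IsUnit (βa Polynomial.X) := by
    by_contra hu
    obtain ⟨m, hm, hmem⟩ := exists_max_ideal_of_mem_nonunits hu
    let w : Spec B := (⟨m, hm.isPrime⟩ : PrimeSpectrum (B : Type u))
    have h0 : β.hom Polynomial.X ∈ w.asIdeal := hmem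
    have hw : c'.base w ∈ (V : Set (pullback h.left gR : Scheme)) := hUV (IsAffineOpen.range_fromSpec hU ▸ ⟨w, rfl⟩)
    have hw' : (pullback.snd h.left gR).base (c'.base w) ∈ PrimeSpectrum.basicOpen (Polynomial.X : Polynomial R) := hw
    rw [← Scheme.Hom.comp_apply, ← hβ] at hw'
    exact hw' (Ideal.mem_comap.mpr h0)
  have hs := tStable_subPts D h t ht Md _ _ hy2
  rw [F.act_rt] at hs
  have h0 := hc _ _ hs
  rw [PreFrame.rt, linePt_apply, Polynomial.aeval_eq_sum_range] at h0
  have h1 : algebraMap R (B : Type u) r = 0 := by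
    by_cases hn : n ≤ (F.φ a c).natDegree
    · have h1 := congrArg (fun q : (B : Type u)[D.M] => q.coeff (n • F.root a)) h0
      simp only [AddMonoidAlgebra.coeff_sum, Finsupp.finsetSum_apply, AddMonoidAlgebra.single_pow,
        AddMonoidAlgebra.coeff_smul, Finsupp.smul_apply, AddMonoidAlgebra.coeff_single, AddMonoidAlgebra.coeff_zero,
        Finsupp.coe_zero, Pi.zero_apply] at h1
      rw [Finset.sum_eq_single n] at h1
      · rw [Finsupp.single_eq_same, Algebra.smul_def] at h1
        exact ((hunit.pow n).mul_left_eq_zero).mp h1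
      · intro k _ hk
        rw [Finsupp.single_eq_of_ne, smul_zero]
        intro e
        have e' : ((k : ℤ) - n) • F.root a = 0 := by rw [sub_smul, natCast_zsmul, natCast_zsmul, e, sub_self]
        rcases smul_eq_zero.mp e' with e' | e'
        · omega
        · exact D.P.ne_zero a e'
      · intro hh; simp only [Finset.mem_range] at hh; omega
    · rw [show r = 0 from Polynomial.coeff_eq_zero_of_natDegree_lt (by omega), map_zero]
  have hflat : Flat (c' ≫ q) := inferInstance
  rw [← hα, HasRingHomProperty.Spec_iff (P := @Flat)] at hflat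
  have : Module.Flat R (B : Type u) := hflat
  obtain ⟨k, aa, yy, h2, h3⟩ := Module.Flat.isTrivialRelation_of_sum_smul_eq_zero (R := R) (M := (B : Type u))
    (f := fun _ : Fin 1 => r) (x := fun _ => 1) (by simp [Algebra.smul_def, h1])
  obtain ⟨w, hw⟩ : ∃ w, c'.base w = z := (IsAffineOpen.range_fromSpec hU).ge hzU
  have hwp : (Spec.map α).base w = p := by
    rw [hα, Scheme.Hom.comp_apply, hw, ← Scheme.Hom.comp_apply, pullback.lift_snd_assoc, ← Spec.map_comp]
    refine PrimeSpectrum.ext ?_
    show Ideal.comap (ev.toRingHom.comp (algebraMap R (Polynomial R))) (IsLocalRing.closedPoint K).asIdeal = _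
    rw [show ev.toRingHom.comp (algebraMap R (Polynomial R)) = algebraMap R K from ev.comp_algebraMap, ← hker,
      RingHom.ker_eq_comap_bot, ← IsLocalRing.maximalIdeal_eq_bot]
    rfl
  obtain ⟨j, hj⟩ : ∃ j, aa 0 j ∉ p.asIdeal := by
    by_contra! hh
    refine w.2.ne_top ((Ideal.eq_top_iff_one _).mpr ?_)
    rw [show (1 : (B : Type u)) = ∑ j, aa 0 j • yy j from h2 0]
    refine Ideal.sum_mem _ fun j _ => ?_
    have hm : aa 0 j ∈ ((Spec.map α).base w).asIdeal := hwp.symm ▸ hh j
    rw [Algebra.smul_def]
    exact Ideal.mul_mem_right _ _ (Ideal.mem_comap.mp hm)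
  exact ⟨aa 0 j, hj, by simpa [mul_comm] using h3 j⟩

include ht in
/-- A root group lying in the subgroup over every point lies in it. -/
theorem full_of_all (a : D.idx) (hall : ∀ s, FullAt D h a s) : Full (Md.frame D) (subPts h Md) a := by
  intro B _ _ x
  set F := Md.frame D
  refine inSub_of_ann h Md _ (fun c hc => ?_) fun K _ _ ψ => ?_
  · rw [PreFrame.rt, linePt_apply, Polynomial.aeval_eq_sum_range]
    exact Finset.sum_eq_zero fun n _ => by rw [coeff_eq_zero_of_all D h Md t ht a hall hc n, zero_smul]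
  · rw [F.mapPt_rt]
    refine inSub_of_ann_range h Md _ (fun c hc => ?_) ?_
    · rw [PreFrame.rt, linePt_apply, Polynomial.aeval_eq_sum_range]
      exact Finset.sum_eq_zero fun n _ => by rw [coeff_eq_zero_of_all D h Md t ht a hall hc n, zero_smul]
    · let ι' : K →ₐ[R] AlgebraicClosure K := IsScalarTower.toAlgHom R K _
      obtain ⟨y, hy⟩ := rt_mem_of_coeff D h Md a (L := AlgebraicClosure K)
        (fun c hc n => by rw [coeff_eq_zero_of_all D h Md t ht a hall hc n, map_zero]) (ι' (ψ x))
      rintro _ ⟨q, rfl⟩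
      obtain rfl : q = PrimeSpectrum.comap ι'.toRingHom ⟨⊥, Ideal.isPrime_bot⟩ :=
        Subsingleton.elim (α := PrimeSpectrum K) _ _
      refine range_of_mapPt h Md ι' _ ?_
      rw [F.mapPt_rt, ← hy]
      exact ⟨_, (Scheme.Hom.comp_apply _ _ _).symm⟩

include ht in
/-- A root group lying in the subgroup nowhere meets it in no tangent vector. -/
theorem noTan_of_none (a : D.idx) (hnone : ∀ s, ¬ FullAt D h a s) : NoTan (Md.frame D) (subPts h Md) a := by
  classical
  set F := Md.frame D
  have hs := tStable_subPts D h t ht Md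
  let I : Ideal R := Ideal.span {r | ∃ c, (subPts h Md).Ann c ∧ r = (F.φ a c).coeff 1}
  have h0 : ∀ c, (subPts h Md).Ann c → (F.φ a c).coeff 0 = 0 := fun c hc => by
    have e := hc R (F.rt a (0 : R)) (by rw [F.rt_zero]; exact one_mem _)
    simpa [PreFrame.rt, linePt_apply, Polynomial.coe_aeval_eq_eval, Polynomial.coeff_zero_eq_eval_zero] using e
  have hI : I = ⊤ := by
    by_contra hI
    obtain ⟨m, hm, hIm⟩ := Ideal.exists_le_maximal I hI
    have hne : Nonempty S := ⟨f.base ⟨m, hm.isPrime⟩⟩
    obtain ⟨lam, nu, hlam, hnua, hnu⟩ := exists_forms D a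
    refine hnone (f.base ⟨m, hm.isPrime⟩) ?_
    show (⟨m, hm.isPrime⟩ : PrimeSpectrum R) ∈ f.base ⁻¹' {s | FullAt D h a s}
    rw [← fullSet_eq D h Md a]
    refine full_of_coeff D h Md a fun c hc n => ?_
    let L := m.ResidueField
    have hmL : ∀ r : R, r ∈ m → algebraMap R L r = 0 := fun r hr =>
      RingHom.mem_ker.mp (by rw [Ideal.ker_algebraMap_residueField]; exact hr)
    suffices hn : algebraMap R L ((F.φ a c).coeff n) = 0 from
      (Ideal.ker_algebraMap_residueField m).le (RingHom.mem_ker.mpr hn)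
    let P (k : ℕ) := Polynomial L ⧸ Ideal.span {(Polynomial.X : Polynomial L) ^ k}
    -- a curve through the origin with velocity one, inside the subgroup
    have hcurve : ∀ k, ∃ x : Polynomial L, (Polynomial.X : Polynomial L) ^ 2 ∣ x - Polynomial.X ∧
        InSub h Md (F.rt a (Ideal.Quotient.mk (Ideal.span {(Polynomial.X : Polynomial L) ^ (k + 2)}) x)) := by
      intro k
      induction k with
      | zero =>
        refine ⟨Polynomial.X, by simp, ?_⟩
        set e : P 2 := Ideal.Quotient.mk _ Polynomial.X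
        have he : e * e = 0 := by
          rw [← map_mul, Ideal.Quotient.eq_zero_iff_mem, ← pow_two]
          exact Ideal.mem_span_singleton_self _
        let π : P 2 →ₐ[R] L := (Ideal.Quotient.liftₐ (Ideal.span {(Polynomial.X : Polynomial L) ^ 2})
          ((Polynomial.aeval (0 : L)).restrictScalars R) fun z hz => by
            obtain ⟨w, rfl⟩ := Ideal.mem_span_singleton.mp hz
            simp)
        have hπ : SqZero (R := R) (B := P 2) (C := L) π := by
          intro u v hu hv
          obtain ⟨u, rfl⟩ := Ideal.Quotient.mk_surjective u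
          obtain ⟨v, rfl⟩ := Ideal.Quotient.mk_surjective v
          have hπmk : ∀ u : Polynomial L, π (Ideal.Quotient.mk _ u) = u.eval 0 := fun u => by
            rw [← Polynomial.coe_aeval_eq_eval]; rfl
          rw [hπmk] at hu hv
          have hu' : (Polynomial.X : Polynomial L) ∣ u := by
            rw [Polynomial.X_dvd_iff, Polynomial.coeff_zero_eq_eval_zero]
            exact hu
          have hv' : (Polynomial.X : Polynomial L) ∣ v := by
            rw [Polynomial.X_dvd_iff, Polynomial.coeff_zero_eq_eval_zero]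
            exact hv
          rw [← map_mul, Ideal.Quotient.eq_zero_iff_mem, Ideal.mem_span_singleton, pow_two]
          exact mul_dvd_mul hu' hv'
        refine (subPts h Md).of_ann π hπ _ ?_ fun c hc => ?_
        · rw [F.mapPt_rt, show π e = 0 from (Polynomial.aeval_X (0 : L)), F.rt_zero]
        · rw [PreFrame.rt, linePt_apply, Polynomial.aeval_eq_sum_range]
          refine Finset.sum_eq_zero fun n _ => ?_
          match n with
          | 0 => rw [h0 c hc, zero_smul]
          | 1 =>
            rw [Algebra.smul_def, IsScalarTower.algebraMap_apply R L (P 2),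
              hmL _ (hIm (Ideal.subset_span ⟨c, hc, rfl⟩)), map_zero, zero_mul]
          | n + 2 => rw [show n + 2 = n + 1 + 1 from rfl, pow_succ e, pow_succ e, mul_assoc, he, mul_zero, smul_zero]
      | succ k ih =>
        obtain ⟨x, hx, hmem⟩ := ih
        have hle : Ideal.span {(Polynomial.X : Polynomial L) ^ (k + 1 + 2)} ≤
            Ideal.span {(Polynomial.X : Polynomial L) ^ (k + 2)} :=
          Ideal.span_singleton_le_span_singleton.mpr (pow_dvd_pow _ (by omega))
        let π : P (k + 1 + 2) →ₐ[R] P (k + 2) := Ideal.Quotient.factorₐ R hle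
        have hπ : SqZero (R := R) (B := P (k + 1 + 2)) (C := P (k + 2)) π := by
          intro u v hu hv
          obtain ⟨u, rfl⟩ := Ideal.Quotient.mk_surjective u
          obtain ⟨v, rfl⟩ := Ideal.Quotient.mk_surjective v
          have hu' := Ideal.mem_span_singleton.mp (Ideal.Quotient.eq_zero_iff_mem.mp (show Ideal.Quotient.mk _ u = 0 from hu))
          have hv' := Ideal.mem_span_singleton.mp (Ideal.Quotient.eq_zero_iff_mem.mp (show Ideal.Quotient.mk _ v = 0 from hv))
          rw [← map_mul, Ideal.Quotient.eq_zero_iff_mem, Ideal.mem_span_singleton]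
          exact (pow_dvd_pow _ (by omega : k + 1 + 2 ≤ (k + 2) + (k + 2))).trans (pow_add (Polynomial.X : Polynomial L) _ _ ▸ mul_dvd_mul hu' hv')
        obtain ⟨x', hx', hmem'⟩ := exists_rt_lift F (subPts h Md) hs hlam hnua hnu hπ
          (Ideal.Quotient.factor_surjective hle) hmem
        obtain ⟨x', rfl⟩ := Ideal.Quotient.mk_surjective x'
        refine ⟨x', ?_, hmem'⟩
        have h4 : (Polynomial.X : Polynomial L) ^ (k + 2) ∣ x' - x :=
          Ideal.mem_span_singleton.mp (Ideal.Quotient.eq.mp hx')
        rw [← sub_add_sub_cancel x' x]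
        exact dvd_add ((pow_dvd_pow _ (by omega)).trans h4) hx
    induction n using Nat.strong_induction_on with
    | _ n ihn =>
      obtain ⟨x, ⟨w, hw⟩, hmem⟩ := hcurve n
      have hz := hc _ _ hmem
      have ht' : ∀ (k : ℕ) (P : Polynomial R), Polynomial.aeval (Ideal.Quotient.mk
          (Ideal.span {(Polynomial.X : Polynomial L) ^ k}) x) P =
          Ideal.Quotient.mk _ (Polynomial.eval₂ (algebraMap R (Polynomial L)) x P) := fun k P => by
        rw [Polynomial.hom_eval₂]; rfl
      rw [PreFrame.rt, linePt_apply, ht', Ideal.Quotient.eq_zero_iff_mem, Ideal.mem_span_singleton] at hz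
      have hcoef := Polynomial.X_pow_dvd_iff.mp hz n (by omega)
      rw [Polynomial.eval₂_eq_sum_range, Polynomial.finsetSum_coeff] at hcoef
      have hx1 : x = Polynomial.X * (1 + Polynomial.X * w) := by
        linear_combination hw
      by_cases hn : n ≤ (F.φ a c).natDegree
      · rw [Finset.sum_eq_single n] at hcoef
        · rw [hx1, mul_pow, ← mul_assoc, mul_comm _ ((Polynomial.X : Polynomial L) ^ n), mul_assoc,
            Polynomial.coeff_X_pow_mul', if_pos le_rfl, Nat.sub_self, Polynomial.mul_coeff_zero,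
            Polynomial.coeff_zero_eq_eval_zero ((1 + _) ^ n)] at hcoef
          simpa [IsScalarTower.algebraMap_apply R L (Polynomial L)] using hcoef
        · intro k _ hk
          rcases Nat.lt_or_gt_of_ne hk with hk | hk
          · rw [IsScalarTower.algebraMap_apply R L (Polynomial L), ihn k hk]
            simp
          · rw [hx1, mul_pow, ← mul_assoc, mul_comm _ ((Polynomial.X : Polynomial L) ^ k), mul_assoc,
              Polynomial.coeff_X_pow_mul', if_neg (by omega)]
        · intro hh; simp only [Finset.mem_range] at hh; omega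
      · rw [Polynomial.coeff_eq_zero_of_natDegree_lt (by omega), map_zero]
  intro B _ _ x hx hmem
  have h1 : ∀ r ∈ I, algebraMap R B r * x = 0 := by
    intro r hr
    refine Submodule.span_induction ?_ (by simp) (fun _ _ _ _ h h' => by rw [map_add, add_mul, h, h', add_zero])
      (fun s _ _ h => by rw [smul_eq_mul, map_mul, mul_assoc, h, mul_zero]) hr
    rintro _ ⟨c, hc, rfl⟩
    have e := hc _ _ hmem
    rw [PreFrame.rt, linePt_apply, Polynomial.aeval_eq_sum_range'
      (n := max 2 ((F.φ a c).natDegree + 1)) (by omega), Finset.sum_eq_single 1] at e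
    · simpa [Algebra.smul_def] using e
    · intro k _ hk
      match k, hk with
      | 0, _ => rw [h0 c hc, zero_smul]
      | k + 2, _ => rw [pow_succ, pow_succ, mul_assoc, hx, mul_zero, smul_zero]
    · intro hh; simp at hh
  simpa using h1 1 (hI ▸ Submodule.mem_top)

end Groth.Agent.RedSub30
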