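import Groth.Agent.RedSub30.TypeRRadical

/-!
# The normalising points of a subgroup of type (R) with positive roots
-/

set_option autoImplicit false
set_option synthInstance.maxHeartbeats 100000

universe u

open CategoryTheory CategoryTheory.Limits MonoidalCategory CartesianMonoidalCategory AlgebraicGeometry WithConv
open scoped MonObj AddMonoidAlgebra

namespace Groth.Agent.RedSub30

open BigCell29 GrpSchLib.AffineHopf

variable {S : Scheme.{u}} {G H H'' K : Over S} [GrpObj G] [GrpObj H] [GrpObj H''] [GrpObj K] (D : Red.SplitRed G)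
  (h : H ⟶ G) [IsMonHom h] [IsImmersion h.left] [QuasiCompact h.left] [Smooth H.hom] (t : D.T ⟶ H) (ht : t ≫ h = D.i)
  {R' : Set D.idx} (hR' : ∀ a : D.idx, (∃ v : Red.Ga S ⟶ H, v ≫ h = D.u a) ↔ a ∈ R')
  (h'' : H'' ⟶ G) [IsMonHom h''] [IsImmersion h''.left] [QuasiCompact h''.left] [Smooth H''.hom]
  (t'' : D.T ⟶ H'') (ht'' : t'' ≫ h'' = D.i)
  {R'' : Set D.idx} (hR'' : ∀ a : D.idx, (∃ v : Red.Ga S ⟶ H'', v ≫ h'' = D.u a) ↔ a ∈ R'')
  (kG : K ⟶ G) [IsMonHom kG] [IsImmersion kG.left] [QuasiCompact kG.left] [Smooth K.hom]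
  (tK : D.T ⟶ K) (htK : tK ≫ kG = D.i)
  (hRK : ∀ a : D.idx, (∃ v : Red.Ga S ⟶ K, v ≫ kG = D.u a) ↔ a ∈ R' ∩ R'')
  (lam : D.M →+ ℤ) [ConnectedSpace S] (hreg : ∀ i, lam (D.P.root i) ≠ 0) (hpos : ∀ a ∈ R', 0 < lam (D.P.root a))

include t ht hR' t'' ht'' hR'' tK htK hRK hreg hpos

omit hR' in
/-- The common part lies in the second subgroup. -/
theorem exists_inter_factor (hconn : RedSub.HasConnectedFibres K) : ∃ j : K ⟶ H'', j ≫ h'' = kG := by
  classical
  haveI := Fintype.ofFinite D.idx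
  let e : Fin (Fintype.card (R' ∩ R'' : Set D.idx)) → D.idx := fun k => ((Fintype.equivFin (R' ∩ R'' : Set D.idx)).symm k).1
  have he : RedSub.Enumerates (R' ∩ R'') e := by
    refine ⟨fun p q hpq => (Fintype.equivFin _).symm.injective (Subtype.ext hpq), Set.ext fun c => ⟨?_, fun hc => ?_⟩⟩
    · rintro ⟨k, rfl⟩; exact ((Fintype.equivFin _).symm k).2
    · exact ⟨Fintype.equivFin _ ⟨c, hc⟩, by simp [e]⟩
  have hposK : ∀ a ∈ R' ∩ R'', 0 < lam (D.P.root a) := fun a ha => hpos a ha.1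
  obtain ⟨v, hv⟩ := exists_unip D kG tK htK hRK lam he hposK
  have hM := isIso_borel D kG tK htK hRK lam he hposK v hv hconn hreg
  refine exists_factor_of_pts h'' kG fun R _ f _ B _ _ j => ?_
  haveI : IsAffineHom G.hom := D.reductive.1
  obtain ⟨A, _, _, ⟨Md⟩⟩ := exists_model f G
  obtain ⟨χ, x, -, hx, -⟩ := exists_borelPt D kG tK htK v hv hM Md j
  obtain ⟨z, hz⟩ : InSub h'' Md ((Md.frame D).T.tor χ * (Md.frame D).prodPt e x) := (mul_mem
    (tor_mem D h'' t'' ht'' Md B χ : (Md.frame D).T.tor χ ∈ (subPts h'' Md).mem B)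
    (prodPt_mem (W := subPts h'' Md) _ (fun l => full_of_mem D h'' hR'' Md
      ((Set.ext_iff.mp he.2 _).mp (Set.mem_range_self l)).2) x) : _ ∈ (subPts h'' Md).mem B)
  exact ⟨z, hz.trans hx⟩

/-- A point of the subgroup normalising the second one lies in the common part. -/
theorem exists_of_normalises (hconn : RedSub.HasConnectedFibres H) {X : Over S} (x : X ⟶ H)
    (hx : ∀ (X' : Over S) (y : X' ⟶ X) (z : X' ⟶ H''),
      ∃ z' : X' ⟶ H'', (y ≫ x ≫ h) * (z ≫ h'') * (y ≫ x ≫ h)⁻¹ = z' ≫ h'') :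
    ∃ w : X ⟶ K, w ≫ kG = x ≫ h := by
  classical
  haveI := Fintype.ofFinite D.idx
  let e₀ : Fin (Fintype.card (R' ∩ R'' : Set D.idx)) → D.idx := fun k => ((Fintype.equivFin (R' ∩ R'' : Set D.idx)).symm k).1
  let e₁ : Fin (Fintype.card (R' \ R'' : Set D.idx)) → D.idx := fun k => ((Fintype.equivFin (R' \ R'' : Set D.idx)).symm k).1
  have h₀ : ∀ j, e₀ j ∈ R' ∩ R'' := fun j => ((Fintype.equivFin (R' ∩ R'' : Set D.idx)).symm j).2
  have h₁ : ∀ j, e₁ j ∈ R' \ R'' := fun j => ((Fintype.equivFin (R' \ R'' : Set D.idx)).symm j).2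
  have he₀ : RedSub.Enumerates (R' ∩ R'') e₀ := by
    refine ⟨fun p q hpq => (Fintype.equivFin _).symm.injective (Subtype.ext hpq), Set.ext fun c => ⟨?_, fun hc => ?_⟩⟩
    · rintro ⟨k, rfl⟩; exact h₀ k
    · exact ⟨Fintype.equivFin _ ⟨c, hc⟩, by simp [e₀]⟩
  have he₁ : Function.Injective e₁ := fun p q hpq => (Fintype.equivFin _).symm.injective (Subtype.ext hpq)
  have he : RedSub.Enumerates R' (Fin.append e₀ e₁) := by
    refine ⟨fun u v huv => ?_, Set.ext fun c => ⟨?_, fun hc => ?_⟩⟩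
    · induction u using Fin.addCases <;> induction v using Fin.addCases <;>
        simp only [Fin.append_left, Fin.append_right] at huv
      · exact congrArg _ (he₀.1 huv)
      · exact absurd (huv ▸ (h₀ _).2) (h₁ _).2
      · exact absurd (huv ▸ (h₀ _).2) (h₁ _).2
      · exact congrArg _ (he₁ huv)
    · rintro ⟨k, rfl⟩
      induction k using Fin.addCases <;> simp only [Fin.append_left, Fin.append_right]
      · exact (h₀ _).1
      · exact (h₁ _).1
    · by_cases hcR : c ∈ R''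
      · exact ⟨Fin.castAdd _ (Fintype.equivFin _ ⟨c, hc, hcR⟩), by simp [e₀]⟩
      · exact ⟨Fin.natAdd _ (Fintype.equivFin _ ⟨c, hc, hcR⟩), by simp [e₁]⟩
  have hposK : ∀ a ∈ R' ∩ R'', 0 < lam (D.P.root a) := fun a ha => hpos a ha.1
  obtain ⟨v, hv⟩ := exists_unip D h t ht hR' lam he hpos
  have hM := isIso_borel D h t ht hR' lam he hpos v hv hconn hreg
  refine exists_factor_of_pts kG (x ≫ h) fun R _ f _ B _ _ j => ?_
  haveI : IsAffineHom G.hom := D.reductive.1
  obtain ⟨A, _, _, ⟨Md⟩⟩ := exists_model f G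
  set F := Md.frame D
  set W := subPts h'' Md
  obtain ⟨χ, xs, -, hxs, -⟩ := exists_borelPt D h t ht v hv hM Md (j ≫ x)
  -- attracted points of both subgroups are products over the common roots
  have hinter : ∀ {C : Type u} [CommRing C] [Algebra R C] (z : Fin _ → C),
      F.prodPt (Fin.append e₀ e₁) z ∈ W.mem C → ∃ y, F.prodPt e₀ y = F.prodPt (Fin.append e₀ e₁) z := by
    intro C _ _ z hz
    refine ⟨fun l => z (Fin.castAdd _ l), ?_⟩
    rw [← Fin.append_castAdd_natAdd (f := z), prodPt_append] at hz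
    have hmem : F.prodPt e₁ (fun l => z (Fin.natAdd _ l)) ∈ W.mem C := by
      have := mul_mem (inv_mem (prodPt_mem (W := W) _ (fun l => full_of_mem D h'' hR'' Md (h₀ l).2)
        fun l => z (Fin.castAdd _ l))) hz
      rwa [inv_mul_cancel_left] at this
    have h0 := eq_zero_of_inU F (tStable_subPts D h'' t'' ht'' Md) (lam := lam) (fun l => hpos _ (h₁ l).1) he₁
      (fun l => noTan_of_notMem D h'' t'' ht'' hR'' Md (h₁ l).2) hmem
    conv_rhs => rw [← Fin.append_castAdd_natAdd (f := z), prodPt_append,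
      show (fun l => z (Fin.natAdd _ l)) = 0 from funext h0, prodPt_zero, mul_one]
  haveI := isClosedImmersion_prod D kG tK htK hRK lam he₀ hposK
  let n : Fin _ → ℤ := fun l => lam (D.P.root (Fin.append e₀ e₁ l))
  have hn : ∀ l, 0 < n l := fun l => hpos _ ((Set.ext_iff.mp he.2 _).mp (Set.mem_range_self l))
  let z : Fin _ → nonneg R B := fun l => ⟨AddMonoidAlgebra.single (n l) (xs l), fun k hk => by
    have := hn l
    rw [AddMonoidAlgebra.coeff_single, Finsupp.single_apply, if_neg (by omega)]⟩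
  let gX : Pt R A (nonneg R B) := mapPt (cst0 R B) (F.prodPt (Fin.append e₀ e₁) xs) * (F.prodPt (Fin.append e₀ e₁) z)⁻¹
  let c : B →ₐ[R] B[ℤ] := AddMonoidAlgebra.singleZeroAlgHom
  let ν : Multiplicative D.M →* B[ℤ] := (AddMonoidAlgebra.of B ℤ).comp lam.toMultiplicative
  set g := mapPt c (F.prodPt (Fin.append e₀ e₁) xs)
  set T' := F.T.tor (c.toRingHom.toMonoidHom.comp χ)
  set N := F.T.tor ν
  -- the commutator with the cocharacter lies in the second subgroup
  have hq : g * (N * g * N⁻¹)⁻¹ ∈ W.mem B[ℤ] := by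
    obtain ⟨tν, htν⟩ : InSub h'' Md N := tor_mem D h'' t'' ht'' Md _ ν
    obtain ⟨w, hw⟩ := hx _ (tMap f c ≫ j) tν
    have e1 : Md.pt (T' * g) = tMap f c ≫ j ≫ x ≫ h := by
      rw [show T' = mapPt c (F.T.tor χ) from (F.T.mapPt_tor _ _).symm, ← map_mul, Md.pt_map, hxs]
      simp only [Category.assoc]
    have h2 : (T' * g) * N * (T' * g)⁻¹ ∈ W.mem B[ℤ] := ⟨w, by
      rw [← hw, htν, Md.pt_mul, Md.pt_mul, Md.pt_inv, e1]
      simp only [Category.assoc]⟩
    have hT : T' ∈ W.mem B[ℤ] := tor_mem D h'' t'' ht'' Md _ _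
    have hN : N ∈ W.mem B[ℤ] := tor_mem D h'' t'' ht'' Md _ _
    have h3 := mul_mem (mul_mem (mul_mem (inv_mem hT) h2) hT) (inv_mem hN)
    rwa [show T'⁻¹ * ((T' * g) * N * (T' * g)⁻¹) * T' * N⁻¹ = g * (N * g * N⁻¹)⁻¹ by group] at h3
  have hval : mapPt (nonneg R B).val gX = g * (N * g * N⁻¹)⁻¹ := by
    rw [map_mul, map_inv, mapPt_mapPt,
      show (nonneg R B).val.comp (cst0 R B) = c from AlgHom.ext fun b => rfl, F.mapPt_prodPt _ (e := Fin.append e₀ e₁) z]
    congr 2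
    show _ = N * mapPt c (F.prodPt (Fin.append e₀ e₁) xs) * N⁻¹
    rw [F.mapPt_prodPt, conj_prodPt]
    refine congrArg (F.prodPt _) (funext fun l => ?_)
    show AddMonoidAlgebra.single (n l) (xs l) =
      AddMonoidAlgebra.single (lam (D.P.root (Fin.append e₀ e₁ l))) (1 : B) * AddMonoidAlgebra.single 0 (xs l)
    rw [AddMonoidAlgebra.single_mul_single, add_zero, one_mul]
  -- it is a product over all the roots of the first one, hence over the common roots
  obtain ⟨q, hq'⟩ : ∃ q, F.prodPt (Fin.append e₀ e₁) q = g * (N * g * N⁻¹)⁻¹ := by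
    have hm : ∀ l, Fin.append e₀ e₁ l ∈ R' := fun l => (Set.ext_iff.mp he.2 _).mp (Set.mem_range_self l)
    have hgm : g ∈ (subPts h Md).mem B[ℤ] ∧ (F.cochar lam).InU g := by
      simp only [g]
      rw [F.mapPt_prodPt]
      exact ⟨prodPt_mem (W := subPts h Md) _ (fun l => full_of_mem D h hR' Md (hm l)) _,
        F.prodPt_inU lam _ (fun l => hpos _ (hm l)) _⟩
    have hN : N ∈ (subPts h Md).mem B[ℤ] := tor_mem D h t ht Md _ _
    obtain ⟨_, _, hp⟩ := exists_split D h t ht hR' lam he hpos Md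
    exact hp.exists_coords (tStable_subPts D h t ht Md)
      (mul_mem hgm.1 (inv_mem (mul_mem (mul_mem hN hgm.1) (inv_mem hN))))
      (Coact.InU.mul _ hgm.2 (Coact.InU.inv _ (Coact.InU.conj _ (F.cochar_inZ_tor lam ν) hgm.2)))
  obtain ⟨y, hy⟩ := hinter q (hq' ▸ hq)
  have hwX : tMap f (nonneg R B).val ≫ Md.pt gX =
      powPt f y ≫ RedSub.prodMap (Red.Ga S) _ (fun k => D.u (e₀ k)) := by
    rw [← Md.pt_map, Md.powPt_prodMap, hy, hq', hval]
  obtain ⟨l, hl⟩ := exists_factor_of_injective (RedSub.prodMap (Red.Ga S) _ fun k => D.u (e₀ k)).left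
    (CommRingCat.ofHom (nonneg R B).val.toRingHom) Subtype.val_injective (Md.pt gX).left (powPt f y).left
    (congrArg CommaMorphism.left hwX)
  let lX : tObj f (nonneg R B) ⟶ RedSub.pow (Red.Ga S) _ := Over.homMk l (by
    rw [← Over.w (RedSub.prodMap (Red.Ga S) _ fun k => D.u (e₀ k)), reassoc_of% hl, Over.w (Md.pt gX)])
  obtain ⟨y₀, hy₀⟩ := (powPt_bijective _).surjective (tMap f (ev0 R B) ≫ lX)
  have hz0 : ev0 R B ∘ z = 0 := funext fun l => by
    show (AddMonoidAlgebra.single (n l) (xs l)).coeff 0 = 0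
    have := hn l
    rw [AddMonoidAlgebra.coeff_single, Finsupp.single_apply, if_neg (by omega)]
  have h4 : F.prodPt e₀ y₀ = F.prodPt (Fin.append e₀ e₁) xs := Md.pt_bijective.injective (by
    rw [← Md.powPt_prodMap, hy₀, Category.assoc,
      show lX ≫ RedSub.prodMap (Red.Ga S) _ (fun k => D.u (e₀ k)) = Md.pt gX from Over.OverMorphism.ext hl,
      ← Md.pt_map, map_mul, map_inv, mapPt_mapPt,
      show (ev0 R B).comp (cst0 R B) = AlgHom.id R B from AlgHom.ext fun b => ev0_cst0 (R := R) b, F.mapPt_prodPt _ (e := Fin.append e₀ e₁) z,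
      hz0, prodPt_zero, inv_one, mul_one]
    rfl)
  obtain ⟨z', hz'⟩ : InSub kG Md (F.T.tor χ * F.prodPt e₀ y₀) := (mul_mem
    (tor_mem D kG tK htK Md B χ : F.T.tor χ ∈ (subPts kG Md).mem B)
    (prodPt_mem (W := subPts kG Md) _ (fun l => full_of_mem D kG hRK Md (h₀ l)) y₀) : _ ∈ (subPts kG Md).mem B)
  exact ⟨z', by rw [hz', h4, hxs, Category.assoc]⟩

end Groth.Agent.RedSub30
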