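import Groth.Agent.RedSub30.TypeRPts

/-!
# Root groups inside a smooth subgroup containing the torus
-/

set_option autoImplicit false
set_option synthInstance.maxHeartbeats 100000

universe u

open TensorProduct WithConv Finsupp
open scoped AddMonoidAlgebra

namespace Groth.Agent.RedSub30

open BigCell29

/-- A linear form vanishing on none of finitely many non-zero vectors of a free module. -/
theorem exists_generic_form {M J : Type} [AddCommGroup M] [Module.Free ℤ M] [Module.Finite ℤ M] [Finite J]
    (v : J → M) (hv : ∀ j, v j ≠ 0) : ∃ ν : M →+ ℤ, ∀ j, ν (v j) ≠ 0 := by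
  classical
  haveI := Fintype.ofFinite J
  let b := Module.Free.chooseBasis ℤ M
  haveI : Fintype (Module.Free.ChooseBasisIndex ℤ M) := Fintype.ofFinite _
  let e := Fintype.equivFin (Module.Free.ChooseBasisIndex ℤ M)
  let q : J → Polynomial ℤ := fun c => ∑ i, Polynomial.C (b.repr (v c) i) * Polynomial.X ^ (e i : ℕ)
  have hq : ∀ c, q c ≠ 0 := fun c h => by
    obtain ⟨i, hi⟩ : ∃ i, b.repr (v c) i ≠ 0 := by
      by_contra! hh
      exact hv c (b.repr.injective (Finsupp.ext fun i => by simpa using hh i))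
    have h1 := congrArg (fun p : Polynomial ℤ => p.coeff (e i)) h
    simp only [q, Polynomial.finsetSum_coeff, Polynomial.coeff_zero] at h1
    rw [Finset.sum_eq_single i (fun k _ hk => by simp [Fin.val_inj, (e.injective.ne hk).symm]) (by simp)] at h1
    exact hi (by simpa using h1)
  obtain ⟨t, ht⟩ : ∃ t : ℤ, t ∉ (Finset.univ : Finset J).biUnion fun c => (q c).roots.toFinset :=
    Infinite.exists_notMem_finset _
  refine ⟨(b.constr ℤ fun i => t ^ (e i : ℕ)).toAddMonoidHom, fun c hc => ht ?_⟩
  simp only [Finset.mem_biUnion, Finset.mem_univ, true_and, Multiset.mem_toFinset, Polynomial.mem_roots']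
  refine ⟨c, hq c, ?_⟩
  rw [LinearMap.toAddMonoidHom_coe, Module.Basis.constr_apply_fintype] at hc
  simpa [Polynomial.IsRoot, q, Polynomial.eval_finsetSum, Module.Basis.equivFun_apply] using hc

variable {R : Type u} [CommRing R] {A : Type u} [CommRing A] [HopfAlgebra R A] {M ι : Type} [AddCommGroup M]
  {B C : Type u} [CommRing B] [Algebra R B] [CommRing C] [Algebra R C]
  (F : Frame R A M ι) (W : SmSub R A)

/-- The subgroup is stable under the torus of the frame. -/
abbrev TStable : Prop := W.Stable F.T.coact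

theorem tStable_of_tor_mem
    (htor : ∀ (B : Type u) [CommRing B] [Algebra R B] (χ : Multiplicative M →* B), F.T.tor χ ∈ W.mem B) :
    TStable F W := fun B _ _ g hg => by
  rw [F.T.act_eq]
  exact mul_mem (mul_mem (htor _ _) (W.map_mem _ hg)) (inv_mem (htor _ _))

/-- The root group lies in the subgroup. -/
def Full (i : ι) : Prop := ∀ (B : Type u) [CommRing B] [Algebra R B] (x : B), F.rt i x ∈ W.mem B

/-- The root group meets the subgroup in no tangent vector. -/
def NoTan (i : ι) : Prop :=
  ∀ (B : Type u) [CommRing B] [Algebra R B] (x : B), x * x = 0 → F.rt i x ∈ W.mem B → x = 0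

theorem InZ_cochar_iff {μ : M →+ ℤ} {g : Pt R A B} :
    (F.cochar μ).InZ g ↔ ∀ (m : M) (a : A), μ m ≠ 0 → g (F.T.coact.p m a) = 0 := by
  classical
  refine ⟨fun h m a hm => ?_, fun h a n hn => ?_⟩
  · have := h (F.T.coact.p m a) (μ m) hm
    rwa [F.cochar_p_p, if_pos rfl] at this
  · rw [Coact.push_p, Finset.sum_filter, map_sum]
    refine Finset.sum_eq_zero fun m _ => ?_
    split_ifs with hm
    · exact h m a (by rw [hm]; exact hn)
    · exact map_zero _

theorem inZ_cochar_act {μ lam : M →+ ℤ} {g : Pt R A B} (hg : (F.cochar μ).InZ g) :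
    (F.cochar μ).InZ ((F.cochar lam).act g) := (InZ_cochar_iff F).mpr fun m a hm => by
  refine AddMonoidAlgebra.coeff_injective (Finsupp.ext fun n => ?_)
  rw [Coact.act_coeff, F.cochar_p_p]
  split_ifs
  · simp [(InZ_cochar_iff F).mp hg m a hm]
  · simp

/-- The fixed points of a cocharacter are stable under the other cocharacters. -/
theorem stable_fix {μ : M →+ ℤ} (lam : M →+ ℤ) (hs : TStable F W) :
    (W.fix (F.cochar μ) (hs.push μ)).Stable (F.cochar lam) := fun B _ _ _ hg =>
  ⟨hs.push lam B _ hg.1, inZ_cochar_act F hg.2⟩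

/-- A root point fixed by a cocharacter which does not vanish on the root is trivial. -/
theorem rt_zero_coord {k : ℕ} {e : Fin k → ι} {lam μ : M →+ ℤ} (he : ∀ j, 0 < lam (F.root (e j)))
    (hinj : Function.Injective e) (hr : ∀ i, 0 < lam (F.root i) → i ∈ Set.range e) {y : Fin k → B}
    (hz : (F.cochar μ).InZ (F.prodPt e y)) {j : Fin k} (hj : μ (F.root (e j)) ≠ 0) : y j = 0 := by
  classical
  have h1 : (F.cochar μ).act (F.prodPt e y) =
      F.prodPt e fun j => AddMonoidAlgebra.single (μ (F.root (e j))) (y j) := by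
    rw [Frame.prodPt, Frame.prodPt, map_list_prod, List.map_ofFn]
    congr 1
    refine List.ofFn_inj.mpr (funext fun j => ?_)
    simp [Coact.act_push, F.act_rt, F.mapPt_rt]
  have h2 : (F.cochar μ).act (F.prodPt e y) = F.prodPt e fun j => AddMonoidAlgebra.single 0 (y j) := by
    rw [(Coact.inZ_iff _ _).mp hz, F.mapPt_prodPt]
    rfl
  have hu := F.prodPt_inU lam e he fun j => (AddMonoidAlgebra.single (0 : ℤ) (y j) : B[ℤ])
  have h3 := (F.exists_coords he hinj hr hu).unique (h1.symm.trans h2) rfl
  have h4 := congrArg (fun x : B[ℤ] => x.coeff 0) (congrFun h3 j)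
  simp only [AddMonoidAlgebra.coeff_single, Finsupp.single_apply, if_neg hj] at h4
  simpa using h4.symm

/-- A point of the root group lying in the subgroup lifts along square-zero extensions. -/
theorem exists_rt_lift (hs : TStable F W) {a : ι} {lam μ : M →+ ℤ} (hlam : 0 < lam (F.root a))
    (hμa : μ (F.root a) = 0) (hμ : ∀ i, i ≠ a → 0 < lam (F.root i) → μ (F.root i) ≠ 0)
    [Fintype ι] {φ : B →ₐ[R] C} (h : SqZero φ) (hφ : Function.Surjective φ) {x : C}
    (hx : F.rt a x ∈ W.mem C) : ∃ x' : B, φ x' = x ∧ F.rt a x' ∈ W.mem B := by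
  classical
  have hza : ∀ {B : Type u} [CommRing B] [Algebra R B] (x : B), (F.cochar μ).InZ (F.rt a x) := fun x => by
    rw [Coact.inZ_iff, Coact.act_push, F.act_rt, F.mapPt_rt, F.mapPt_rt]
    simp [hμa]
  obtain ⟨g, hU, hg, hgφ⟩ := SmSub.exists_inU_lift (stable_fix F W lam hs) h hφ (F.rt a x)
    ⟨hx, hza x⟩ (F.inU_rt lam hlam x)
  let P := {i : ι // 0 < lam (F.root i)}
  let e : Fin (Fintype.card P) → ι := fun j => ((Fintype.equivFin P).symm j).1
  have he : ∀ j, 0 < lam (F.root (e j)) := fun j => ((Fintype.equivFin P).symm j).2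
  have hinj : Function.Injective e := Subtype.val_injective.comp (Equiv.injective _)
  have hr : ∀ i, 0 < lam (F.root i) → i ∈ Set.range e := fun i hi => ⟨Fintype.equivFin P ⟨i, hi⟩, by simp [e]⟩
  obtain ⟨y, rfl, -⟩ := F.exists_coords he hinj hr hU
  obtain ⟨j₀, hj₀⟩ := hr a hlam
  have hy : ∀ j, j ≠ j₀ → y j = 0 := fun j hj =>
    rt_zero_coord F he hinj hr hg.2 (hμ _ (fun hh => hj (hinj (hh.trans hj₀.symm))) (he j))
  have hsingle : ∀ {D : Type u} [CommRing D] [Algebra R D] (z : Fin (Fintype.card P) → D),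
      (∀ j, j ≠ j₀ → z j = 0) → F.prodPt e z = F.rt a (z j₀) := fun z hz => by
    obtain ⟨pre, post, hl⟩ := List.append_of_mem (List.mem_finRange j₀)
    have hnd := List.nodup_finRange (Fintype.card P)
    rw [hl, List.nodup_middle, List.nodup_cons] at hnd
    have h1 : ∀ l ∈ pre ++ post, F.rt (e l) (z l) = 1 := fun l hm => by
      rw [hz l fun hh => hnd.1 (hh ▸ hm), F.rt_zero]
    rw [Frame.prodPt, List.ofFn_eq_map, hl, List.map_append, List.map_cons, List.prod_append, List.prod_cons,
      List.prod_eq_one fun g hg => by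
        obtain ⟨l, hm, rfl⟩ := List.mem_map.mp hg; exact h1 l (List.mem_append_left _ hm),
      List.prod_eq_one fun g hg => by
        obtain ⟨l, hm, rfl⟩ := List.mem_map.mp hg; exact h1 l (List.mem_append_right _ hm)]
    rw [one_mul, mul_one, hj₀]
  refine ⟨y j₀, ?_, ?_⟩
  · rw [hsingle y hy, F.mapPt_rt] at hgφ
    have h4 := congrArg (fun g : Pt R A C => g.ofConv (F.φ_surj a Polynomial.X).choose) hgφ
    simpa [PreFrame.rt, linePt_apply, (F.φ_surj a Polynomial.X).choose_spec] using h4
  · rw [← hsingle y hy]; exact hg.1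

theorem rt_injective' (a : ι) : Function.Injective (F.rt a : B → Pt R A B) := fun x y h => by
  have h4 := congrArg (fun g : Pt R A B => g.ofConv (F.φ_surj a Polynomial.X).choose) h
  simpa [PreFrame.rt, linePt_apply, (F.φ_surj a Polynomial.X).choose_spec] using h4

end Groth.Agent.RedSub30
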