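import Groth.Agent.RedSub30.TypeRRadicalMain

/-!
# Root groups of weight zero normalise the attracted part
-/

set_option autoImplicit false
set_option synthInstance.maxHeartbeats 100000

universe u

open CategoryTheory CategoryTheory.Limits MonoidalCategory CartesianMonoidalCategory AlgebraicGeometry WithConv
open scoped MonObj AddMonoidAlgebra

namespace Groth.Agent.RedSub30

open BigCell29 GrpSchLib.AffineHopf

variable {S : Scheme.{u}} {G H : Over S} [GrpObj G] [GrpObj H] (D : Red.SplitRed G) (h : H ⟶ G)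
  [IsMonHom h] [IsImmersion h.left] [QuasiCompact h.left] [Smooth H.hom] (t : D.T ⟶ H) (ht : t ≫ h = D.i)
  {R' : Set D.idx} (hR' : ∀ a : D.idx, (∃ v : Red.Ga S ⟶ H, v ≫ h = D.u a) ↔ a ∈ R')

/-- A root element of weight zero is fixed by the grading. -/
theorem inZ_rt {R : Type u} [CommRing R] {A : Type u} [CommRing A] [HopfAlgebra R A] {M J : Type} [AddCommGroup M]
    (F : Frame R A M J) (ν : M →+ ℤ) {a : J} (hν : ν (F.root a) = 0) {B : Type u} [CommRing B] [Algebra R B]
    (x : B) : (F.cochar ν).InZ (F.rt a x) := by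
  rw [Coact.inZ_iff, Coact.act_push, F.act_rt, F.mapPt_rt, F.mapPt_rt]
  simp [hν]

include t ht hR' in
/-- When the root set is the whole positive part of a form, the root groups of weight zero normalise its products. -/
theorem exists_conj_root [ConnectedSpace S] (ν : D.M →+ ℤ) (hν : ∀ c, 0 < ν (D.P.root c) ↔ c ∈ R') {m : ℕ}
    {e : Fin m → D.idx} (he : RedSub.Enumerates R' e) {b : D.idx} (hb : ν (D.P.root b) = 0) {X : Over S}
    (y : X ⟶ Red.Ga S) (n : X ⟶ RedSub.pow (Red.Ga S) m) :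
    ∃ n' : X ⟶ RedSub.pow (Red.Ga S) m,
      n' ≫ RedSub.prodMap (Red.Ga S) m (fun k => D.u (e k)) =
        (y ≫ D.u b) * (n ≫ RedSub.prodMap (Red.Ga S) m (fun k => D.u (e k))) * (y ≫ D.u b)⁻¹ := by
  have hpos : ∀ c ∈ R', 0 < ν (D.P.root c) := fun c hc => (hν c).mpr hc
  refine exists_prod_factor D h t ht hR' ν he hpos _ fun R _ f _ B _ _ A _ _ Md j => ?_
  set F := Md.frame D
  have hm : ∀ l, e l ∈ R' := fun l => he.2 ▸ Set.mem_range_self l
  obtain ⟨x, -, hx, -, hU⟩ := exists_prodPt D h t ht hR' ν hpos Md hm (j ≫ n)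
  obtain ⟨s, hs⟩ := (gaPt_bijective f).surjective (j ≫ y)
  have hV : (F.cochar ν).InU (F.rt b s * F.prodPt e x * (F.rt b s)⁻¹) := Coact.InU.conj _ (inZ_rt F ν hb s) hU
  obtain ⟨z, hz, -⟩ := F.exists_coords (fun l => hpos _ (hm l)) he.1
    (fun i hi => he.2.symm ▸ (hν i).mp hi) hV
  refine ⟨_, ?_, ?_, hV⟩
  · rw [Md.pt_mul, Md.pt_mul, Md.pt_inv, Md.pt_rt, hx, MonObj.comp_mul, MonObj.comp_mul, GrpObj.comp_inv]
    simp only [rtG, hs, Category.assoc]
  · rw [← hz]
    exact prodPt_mem (W := subPts h Md) _ (fun l => full_of_mem D h hR' Md (hm l)) z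

/-- Two unipotent radicals factor through one another. -/
theorem exists_factor_radical {U V : Over S} [GrpObj U] [GrpObj V] {u : U ⟶ H} {v : V ⟶ H}
    (hu : Par.IsUnipotentRadical u) (hv : Par.IsUnipotentRadical v) : ∃ f : U ⟶ V, f ≫ v = u := by
  obtain ⟨h1, h2, h3, h4, h5, h6, -⟩ := hu
  exact @hv.2.2.2.2.2.2 U _ u h1 h2 h3 h4 h5 h6

end Groth.Agent.RedSub30
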