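import Groth.Agent.RedSub30.TypeRNormal
import Groth.Agent.RedSub30.CellGenerate
import Groth.Agent.RedSub30.ClosedConj
import Groth.Agent.BigCell29.CellOne
import Groth.Agent.Rank2Red38.Commute

/-!
# A subgroup of type (R) normalises the products of a closed root set stable under adding its roots
-/

set_option autoImplicit false
set_option synthInstance.maxHeartbeats 100000

universe u

open CategoryTheory CategoryTheory.Limits MonoidalCategory CartesianMonoidalCategory AlgebraicGeometry WithConv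
open scoped MonObj AddMonoidAlgebra

namespace Groth.Agent.RedSub30

open BigCell29 RootPoly

variable {S : Scheme.{u}} {G : Over S} [GrpObj G] (D : Red.SplitRed G)

/-- A form positive on a set of roots may be assumed non-zero on all of them. -/
theorem exists_regular_pos {Ψ : Set D.idx} (lam₀ : Module.Dual ℤ D.M) (hpos : ∀ a ∈ Ψ, 0 < lam₀ (D.P.root a)) :
    ∃ lam : D.M →+ ℤ, (∀ a, lam (D.P.root a) ≠ 0) ∧ ∀ a ∈ Ψ, 0 < lam (D.P.root a) := by
  classical
  haveI := Fintype.ofFinite D.idx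
  obtain ⟨ν, hν⟩ := Rank2Red38.exists_generic (D := D)
  let K : ℤ := 1 + ∑ c, |ν (D.P.root c)|
  let lam : D.M →+ ℤ := K • lam₀.toAddMonoidHom + ν.toAddMonoidHom
  have hK : ∀ c, |ν (D.P.root c)| < K := fun c => by
    have := Finset.single_le_sum (f := fun c => |ν (D.P.root c)|) (fun i _ => abs_nonneg _) (Finset.mem_univ c)
    simp only [K]
    omega
  have hval : ∀ c, lam (D.P.root c) = K * lam₀ (D.P.root c) + ν (D.P.root c) := fun c => by simp [lam]
  refine ⟨lam, fun c => ?_, fun c hc => ?_⟩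
  · rw [hval]
    rcases lt_trichotomy (lam₀ (D.P.root c)) 0 with h | h | h
    · have := abs_lt.mp (hK c)
      nlinarith
    · rw [h, mul_zero, zero_add]; exact hν c
    · have := abs_lt.mp (hK c)
      nlinarith
  · rw [hval]
    have := abs_lt.mp (hK c)
    have := hpos c hc
    nlinarith

variable {H'' : Over S} [GrpObj H''] (h'' : H'' ⟶ G) [IsMonHom h''] [IsImmersion h''.left] [QuasiCompact h''.left]
  [Smooth H''.hom] (t'' : D.T ⟶ H'') (ht'' : t'' ≫ h'' = D.i) {R'' : Set D.idx}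
  (hR'' : ∀ a : D.idx, (∃ v : Red.Ga S ⟶ H'', v ≫ h'' = D.u a) ↔ a ∈ R'')

include t'' ht'' hR'' in
/-- If the root groups of a subgroup of type (R) normalise a closed root-group product, so does the subgroup. -/
theorem exists_conj_of_roots [ConnectedSpace S] (hconn : RedSub.HasConnectedFibres H'')
    {mu : Module.Dual ℤ D.M} {m : ℕ} {e : Fin m → D.idx} (hl : IsPosClosed D mu (List.ofFn e))
    (hroot : ∀ b ∈ R'', ∀ (X : Over S) (s : Γ(X.left, ⊤)) (g : X ⟶ G), InProd D X (List.ofFn e) g →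
      InProd D X (List.ofFn e) (Rank2Red38.U D X b s * g * (Rank2Red38.U D X b s)⁻¹))
    {X : Over S} (y : X ⟶ H'') (n : X ⟶ RedSub.pow (Red.Ga S) m) :
    ∃ n' : X ⟶ RedSub.pow (Red.Ga S) m,
      n' ≫ RedSub.prodMap (Red.Ga S) m (fun k => D.u (e k)) =
        (y ≫ h'') * (n ≫ RedSub.prodMap (Red.Ga S) m (fun k => D.u (e k))) * (y ≫ h'')⁻¹ := by
  classical
  haveI := Fintype.ofFinite D.idx
  -- a cell of the subgroup
  obtain ⟨lam, hreg, -⟩ := exists_regular_pos D (Ψ := (∅ : Set D.idx)) 0 (fun a ha => absurd ha (Set.notMem_empty a))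
  have henum : ∀ Ψ : Set D.idx, ∃ (k : ℕ) (c : Fin k → D.idx), RedSub.Enumerates Ψ c := fun Ψ => by
    let c : Fin (Fintype.card Ψ) → D.idx := fun k => ((Fintype.equivFin Ψ).symm k).1
    refine ⟨_, c, fun p q hpq => (Fintype.equivFin Ψ).symm.injective (Subtype.ext hpq),
      Set.ext fun a => ⟨?_, fun ha => ⟨Fintype.equivFin Ψ ⟨a, ha⟩, by simp [c]⟩⟩⟩
    rintro ⟨k, rfl⟩
    exact ((Fintype.equivFin Ψ).symm k).2
  obtain ⟨p, eneg, hneg⟩ := henum (R'' ∩ {i | 0 < (-lam) (D.P.root i)})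
  obtain ⟨q, epos, hpos⟩ := henum (R'' ∩ {i | 0 < lam (D.P.root i)})
  have hnm : ∀ j, eneg j ∈ R'' := fun j => ((Set.ext_iff.mp hneg.2 _).mp (Set.mem_range_self j)).1
  have hpm : ∀ j, epos j ∈ R'' := fun j => ((Set.ext_iff.mp hpos.2 _).mp (Set.mem_range_self j)).1
  obtain ⟨c, hc⟩ := exists_cell_factor D h'' t'' ht'' hR'' hnm hpm
  haveI := isOpenImmersion_cell D h'' t'' ht'' hR'' hreg hneg hpos c hc
  have hh : Mono h'' := ⟨fun a b hab => Over.OverMorphism.ext ((cancel_mono h''.left).mp (congrArg CommaMorphism.left hab))⟩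
  have hone : Set.range η[H''].left ⊆ Set.range c.left := by
    obtain ⟨e1, he1⟩ := exists_one_cellMap D eneg epos
    have e2 : e1 ≫ c = η[H''] := by
      rw [← cancel_mono h'', Category.assoc, hc, he1, IsMonHom.one_hom, MonObj.one_eq_one]
    rw [← e2, Over.comp_left]
    rintro _ ⟨a, rfl⟩
    exact ⟨e1.left a, rfl⟩
  haveI := surjective_mul_open c hconn hone
  haveI := flat_mul_open c
  haveI := locallyOfFinitePresentation_mul_open c
  -- points of the cell normalise
  have hlist : ∀ {Y : Over S} (L : List (Y ⟶ G)),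
      (∀ a ∈ L, ∀ g, InProd D Y (List.ofFn e) g → InProd D Y (List.ofFn e) (a * g * a⁻¹)) →
      ∀ g, InProd D Y (List.ofFn e) g → InProd D Y (List.ofFn e) (L.prod * g * L.prod⁻¹) := by
    intro Y L
    induction L with
    | nil => intro _ g hg; simpa using hg
    | cons a L ih =>
      intro hL g hg
      rw [List.prod_cons, show a * L.prod * g * (a * L.prod)⁻¹ = a * (L.prod * g * L.prod⁻¹) * a⁻¹ by group]
      exact hL a List.mem_cons_self _ (ih (fun b hb => hL b (List.mem_cons_of_mem _ hb)) g hg)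
  have hword : ∀ {Y : Over S} {k : ℕ} (w : Fin k → D.idx), (∀ j, w j ∈ R'') → ∀ (x : Fin k → Γ(Y.left, ⊤)) (g),
      InProd D Y (List.ofFn e) g → InProd D Y (List.ofFn e) (wordPt D Y w x * g * (wordPt D Y w x)⁻¹) := by
    intro Y k w hw x g hg
    refine hlist _ (fun a ha => ?_) g hg
    obtain ⟨j, rfl⟩ := List.mem_ofFn.mp ha
    exact hroot _ (hw j) Y (x j)
  have hcell : ∀ {Y : Over S} (w : Y ⟶ cellObj D p q) (g : Y ⟶ G), InProd D Y (List.ofFn e) g →
      InProd D Y (List.ofFn e) ((w ≫ RedSub.cellMap D eneg epos) * g * (w ≫ RedSub.cellMap D eneg epos)⁻¹) := by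
    intro Y w g hg
    have hw : w ≫ RedSub.cellMap D eneg epos = wordPt D Y eneg (coord (w ≫ fst _ _)) *
        (Rank2Red38.I D Y (w ≫ snd _ _ ≫ fst _ _) * wordPt D Y epos (coord (w ≫ snd _ _ ≫ snd _ _))) := by
      rw [RedSub.cellMap, MonObj.comp_mul, MonObj.comp_mul, ← Category.assoc w, comp_prodMap,
        show w ≫ snd _ _ ≫ snd _ _ ≫ RedSub.prodMap (Red.Ga S) q (fun k => D.u (epos k)) =
          (w ≫ snd _ _ ≫ snd _ _) ≫ RedSub.prodMap (Red.Ga S) q (fun k => D.u (epos k)) by simp only [Category.assoc],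
        comp_prodMap]
      congr 2
    have e3 : ∀ a b d : Y ⟶ G, a * (b * d) * g * (a * (b * d))⁻¹ = a * (b * (d * g * d⁻¹) * b⁻¹) * a⁻¹ :=
      fun a b d => by group
    rw [hw, e3]
    exact hword eneg hnm _ _ (hl.conj_torus _ (hword epos hpm _ g hg))
  -- descend
  let pr := RedSub.prodMap (Red.Ga S) m fun k => D.u (e k)
  haveI := hl.isClosedImmersion_prodMap
  let P : Over S := Over.mk (pullback.fst y.left ((c ⊗ₘ c) ≫ μ[H'']).left ≫ X.hom)
  let pX : P ⟶ X := Over.homMk (pullback.fst _ _) rfl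
  let pC : P ⟶ cellObj D p q ⊗ cellObj D p q := Over.homMk (pullback.snd _ _) (by
    show _ = pullback.fst _ _ ≫ X.hom
    rw [← Over.w ((c ⊗ₘ c) ≫ μ[H'']), ← pullback.condition_assoc, Over.w y])
  have hP : pX ≫ y = pC ≫ (c ⊗ₘ c) ≫ μ[H''] := Over.OverMorphism.ext pullback.condition
  haveI : Surjective pX.left := MorphismProperty.pullback_fst _ _ inferInstance
  haveI : Flat pX.left := MorphismProperty.pullback_fst _ _ inferInstance
  haveI : LocallyOfFinitePresentation pX.left := MorphismProperty.pullback_fst _ _ inferInstance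
  have hy : pX ≫ y ≫ h'' = ((pC ≫ fst _ _) ≫ RedSub.cellMap D eneg epos) *
      ((pC ≫ snd _ _) ≫ RedSub.cellMap D eneg epos) := by
    rw [← Category.assoc, hP, ← hc, Category.assoc pC, Category.assoc _ _ h'', IsMonHom.mul_hom h'',
      ← Category.assoc (c ⊗ₘ c), tensorHom_comp_tensorHom, CategoryTheory.Hom.mul_def, ← Category.assoc pC]
    congr 1
    ext <;> simp
  obtain ⟨n₀, hn₀⟩ := hl.exists_lift (g := pX ≫ ((y ≫ h'') * (n ≫ pr) * (y ≫ h'')⁻¹)) (by
    rw [MonObj.comp_mul, MonObj.comp_mul, GrpObj.comp_inv, hy]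
    have e3 : ∀ a b g : P ⟶ G, a * b * g * (a * b)⁻¹ = a * (b * g * b⁻¹) * a⁻¹ := fun a b g => by group
    rw [e3]
    refine hcell _ _ (hcell _ _ ?_)
    rw [← Category.assoc]
    exact hl.prodMap_inProd _)
  obtain ⟨l, hl'⟩ := exists_factor_of_fppf pr.left ((y ≫ h'') * (n ≫ pr) * (y ≫ h'')⁻¹).left pX.left n₀.left
    (congrArg CommaMorphism.left hn₀)
  exact ⟨Over.homMk l (by rw [← Over.w pr, reassoc_of% hl', Over.w]), Over.OverMorphism.ext hl'⟩

end Groth.Agent.RedSub30
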