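import Groth.Agent.BigCell29.SplitCell

/-!
# Smooth subgroups stable under a grading, on points

`SmSub R A` is the functor of points of a smooth subgroup of the group of a Hopf algebra: membership is reflected by
the functions vanishing on it near the identity.
-/

set_option autoImplicit false
set_option synthInstance.maxHeartbeats 100000

universe u

open TensorProduct WithConv Finsupp
open scoped AddMonoidAlgebra

namespace Groth.Agent.RedSub30

open BigCell29

variable {R : Type u} [CommRing R] {A : Type u} [CommRing A] [HopfAlgebra R A]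
  {B C : Type u} [CommRing B] [Algebra R B] [CommRing C] [Algebra R C]
  {Γ : Type} [AddCommGroup Γ]

/-- The points of a smooth subgroup. -/
structure SmSub (R A : Type u) [CommRing R] [CommRing A] [HopfAlgebra R A] where
  /-- the points -/
  mem : ∀ (B : Type u) [CommRing B] [Algebra R B], Subgroup (Pt R A B)
  map_mem : ∀ {B C : Type u} [CommRing B] [Algebra R B] [CommRing C] [Algebra R C] (φ : B →ₐ[R] C) {g : Pt R A B},
    g ∈ mem B → mapPt φ g ∈ mem C
  of_ann : ∀ {B C : Type u} [CommRing B] [Algebra R B] [CommRing C] [Algebra R C] (φ : B →ₐ[R] C), SqZero φ →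
    ∀ g : Pt R A B, mapPt φ g = 1 →
      (∀ a : A, (∀ (B' : Type u) [CommRing B'] [Algebra R B'] (k : Pt R A B'), k ∈ mem B' → k a = 0) → g a = 0) →
        g ∈ mem B
  lift : ∀ {B C : Type u} [CommRing B] [Algebra R B] [CommRing C] [Algebra R C] (φ : B →ₐ[R] C), SqZero φ →
    Function.Surjective φ → ∀ g : Pt R A C, g ∈ mem C → ∃ g' ∈ mem B, mapPt φ g' = g
  mem_nonneg : ∀ {B : Type u} [CommRing B] [Algebra R B] (k : Pt R A (nonneg R B)), mapPt (ev0 R B) k = 1 →
    mapPt (nonneg R B).val k ∈ mem B[ℤ] → k ∈ mem (nonneg R B)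

variable (W : SmSub R A)

/-- Functions vanishing on the subgroup. -/
def SmSub.Ann (a : A) : Prop :=
  ∀ (B' : Type u) [CommRing B'] [Algebra R B'] (k : Pt R A B'), k ∈ W.mem B' → k a = 0

theorem SmSub.eps_ann {a : A} (ha : W.Ann a) : eps R B A a = 0 := ha B 1 (one_mem _)

theorem SmSub.tanOf_ann {g : Pt R A B} (hg : g ∈ W.mem B) {a : A} (ha : W.Ann a) : tanOf g a = 0 := by
  have h := W.eps_ann (B := B) ha
  rw [eps_apply] at h
  simp [ha B g hg, h]

/-- Stability under a grading. -/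
def SmSub.Stable (D : Coact R A Γ) : Prop :=
  ∀ (B : Type u) [CommRing B] [Algebra R B] (g : Pt R A B), g ∈ W.mem B → D.act g ∈ W.mem B[Γ]

variable {W}

theorem SmSub.Stable.push {Γ' : Type} [AddCommGroup Γ'] {D : Coact R A Γ} (h : W.Stable D) (φ : Γ →+ Γ') :
    W.Stable (D.push φ) := fun B _ _ g hg => by
  rw [Coact.act_push]
  exact W.map_mem _ (h B g hg)

theorem SmSub.Stable.ann_p {D : Coact R A Γ} (h : W.Stable D) {a : A} (ha : W.Ann a) (n : Γ) : W.Ann (D.p n a) :=
  fun B _ _ k hk => by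
    rw [← D.act_coeff, ha _ _ (h B k hk)]
    simp

theorem SmSub.tanPt_mem {φ : B →ₐ[R] C} (h : SqZero φ) {d : A →ₗ[R] B} (hd : IsTan (RingHom.ker φ.toRingHom) d)
    (hann : ∀ a, W.Ann a → d a = 0) : tanPt h.ker hd ∈ W.mem B :=
  W.of_ann φ h _ (mapPt_tanPt h.ker rfl hd) fun a ha => by rw [tanPt_apply, W.eps_ann ha, hann a ha, add_zero]

/-- A fixed point of the subgroup modulo a square-zero ideal lifts to a fixed point of the subgroup. -/
theorem SmSub.exists_inZ_lift {D : Coact R A Γ} (hs : W.Stable D) {φ : B →ₐ[R] C} (h : SqZero φ) (g : Pt R A B)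
    (hgW : g ∈ W.mem B) (hg : D.InZ (mapPt φ g)) :
    ∃ g' : Pt R A B, D.InZ g' ∧ g' ∈ W.mem B ∧ mapPt φ g' = mapPt φ g := by
  classical
  let c₀ : B →ₐ[R] B[Γ] := AddMonoidAlgebra.singleZeroAlgHom
  let φ' := AddMonoidAlgebra.mapAlgHom Γ φ
  let φ'' := AddMonoidAlgebra.mapAlgHom Γ φ'
  let κ := (mapPt c₀ g)⁻¹ * D.act g
  have hκW : κ ∈ W.mem B[Γ] := mul_mem (inv_mem (W.map_mem _ hgW)) (hs B g hgW)
  have hκ : mapPt φ' κ = 1 := by
    rw [map_mul, map_inv, ← D.act_map, (D.inZ_iff _).mp hg, inv_mul_eq_one]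
    exact pt_ext fun a => by simp [φ', c₀]
  let K : Γ → A →ₗ[R] B := fun n => coeffL n ∘ₗ tanOf κ
  have hK : ∀ n, IsTan (RingHom.ker φ.toRingHom) (K n) := isTan_coeff h hκ
  let k := tanPt h.ker (hK 0)
  have hk : mapPt φ k = 1 := mapPt_tanPt h.ker rfl (hK 0)
  have hkW : k ∈ W.mem B := W.tanPt_mem h (hK 0) fun a ha => by
    show coeffL (R := R) 0 (tanOf κ a) = 0
    rw [W.tanOf_ann hκW ha, map_zero]
  refine ⟨g * k, ?_, mul_mem hgW hkW, by rw [map_mul, hk, mul_one]⟩
  rw [D.inZ_iff, map_mul, map_mul]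
  have hmap : mapPt φ' (D.act k) = 1 := by rw [← D.act_map, hk, map_one]
  have hcκ : mapPt φ'' (mapPt (AddMonoidAlgebra.mapAlgHom Γ c₀) κ) = 1 := by
    rw [mapPt_mapPt]
    have e : φ''.comp (AddMonoidAlgebra.mapAlgHom Γ c₀) =
        (AddMonoidAlgebra.mapAlgHom Γ AddMonoidAlgebra.singleZeroAlgHom).comp φ' := by
      simp only [φ'', φ', c₀, ← AddMonoidAlgebra.mapRangeAlgHom_comp]
      congr 1
      ext x; simp
    rw [e, ← mapPt_mapPt, hκ, map_one]
  have hactκ : mapPt φ'' (D.act κ) = 1 := by rw [← D.act_map, hκ, map_one]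
  have key : mapPt (AddMonoidAlgebra.mapAlgHom Γ c₀) κ * D.act κ = mapPt diagMap κ := by
    have h1 : D.act (D.act g) = D.act (mapPt c₀ g) * D.act κ := by rw [← map_mul, mul_inv_cancel_left]
    have h2 : D.act g = mapPt c₀ g * κ := by simp [κ]
    rw [D.act_act, D.act_map] at h1
    conv_lhs at h1 => rw [h2, map_mul]
    conv_rhs at h1 => rw [h2, map_mul]
    have h3 : mapPt diagMap (mapPt c₀ g) = mapPt (AddMonoidAlgebra.mapAlgHom Γ c₀) (mapPt c₀ g) :=
      pt_ext fun a => by simp [c₀, diagMap_single]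
    rw [h3, mul_assoc] at h1
    exact (mul_left_cancel h1).symm
  have keyt : ∀ a m n, (if n = 0 then K m a else 0) + K n (D.p m a) = if m = n then K m a else 0 := by
    intro a m n
    have e := congrArg (fun q : Pt R A B[Γ][Γ] => ((tanOf q a).coeff m).coeff n) key
    simp only [tanOf_mul ((h.mapAlgHom Γ).mapAlgHom Γ) hcκ hactκ, LinearMap.add_apply, tanOf_mapPt,
      AddMonoidAlgebra.coeff_add, Finsupp.coe_add, Pi.add_apply, diagMap_coeff, D.tanOf_act,
      AddMonoidAlgebra.coeff_mapAlgHom] at e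
    show (if n = 0 then (tanOf κ a).coeff m else 0) + (tanOf κ (D.p m a)).coeff n =
      if m = n then (tanOf κ a).coeff m else 0
    rw [← e]
    congr 1
    by_cases hn : n = 0
    · subst hn; simp [c₀, K, coeffL_apply, -tanOf_apply]
    · simp [c₀, hn, Ne.symm hn, -tanOf_apply]
  have fin : κ * D.act k = mapPt c₀ k := by
    refine tanOf_ext fun a => AddMonoidAlgebra.coeff_injective (Finsupp.ext fun n => ?_)
    rw [tanOf_mul (h.mapAlgHom Γ) hκ hmap, tanOf_mapPt, tanOf_tanPt, LinearMap.add_apply,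
      AddMonoidAlgebra.coeff_add, Finsupp.add_apply, D.tanOf_act, tanOf_tanPt]
    show K n a + K 0 (D.p n a) = (c₀ (K 0 a)).coeff n
    have k1 := keyt a n 0
    simp only [if_true] at k1
    rw [k1]
    by_cases hn : n = 0
    · subst hn; simp [c₀]
    · simp [c₀, hn, Ne.symm hn]
  rw [← fin, ← mul_assoc]
  congr 1
  exact (mul_inv_cancel_left _ _).symm

/-- An attracted point of the subgroup modulo a square-zero ideal lifts to an attracted point of the subgroup. -/
theorem SmSub.exists_inU_lift {D : Coact R A ℤ} (hs : W.Stable D) {φ : B →ₐ[R] C} (h : SqZero φ)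
    (hφ : Function.Surjective φ) (gbar : Pt R A C) (hgW : gbar ∈ W.mem C) (hg : D.InU gbar) :
    ∃ g' : Pt R A B, D.InU g' ∧ g' ∈ W.mem B ∧ mapPt φ g' = gbar := by
  classical
  obtain ⟨g, hgW', rfl⟩ := W.lift φ h hφ gbar hgW
  -- a positive lift of the translates, inside the subgroup
  obtain ⟨hb, hb1, hb2⟩ := (D.isPos_act_iff _).mpr hg
  have hbW : hb ∈ W.mem (nonneg R C) := W.mem_nonneg hb hb1 (hb2 ▸ hs C _ hgW)
  have hsq : SqZero (nonnegMap φ) := fun x y hx hy =>
    Subtype.ext (h.mapAlgHom ℤ x.1 y.1 (congrArg Subtype.val hx) (congrArg Subtype.val hy))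
  obtain ⟨h0, h0W, hh0⟩ := W.lift (nonnegMap φ) hsq (nonnegMap_surjective hφ) hb hbW
  let h1 := h0 * (mapPt (cst0 R B) (mapPt (ev0 R B) h0))⁻¹
  let H : Pt R A B[ℤ] := mapPt (nonneg R B).val h1
  have hHW : H ∈ W.mem B[ℤ] := W.map_mem _ (mul_mem h0W (inv_mem (W.map_mem _ (W.map_mem _ h0W))))
  have hH : IsPos H := ⟨h1, by
    simp only [h1, map_mul, map_inv]
    rw [mul_inv_eq_one]
    exact pt_ext fun a => by simp, rfl⟩
  have hHm : mapPt (AddMonoidAlgebra.mapAlgHom ℤ φ) H = D.act (mapPt φ g) := by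
    have e : mapPt (nonnegMap φ) h1 = hb := by
      simp only [h1, map_mul, map_inv, hh0]
      rw [mul_eq_left, inv_eq_one]
      have : mapPt φ (mapPt (ev0 R B) h0) = 1 := by
        rw [← hb1, ← hh0]
        exact pt_ext fun a => by simp
      rw [← map_one (mapPt (cst0 R C)), ← this]
      exact pt_ext fun a => Subtype.ext (AddMonoidAlgebra.mapAlgHom_single φ 0 _)
    rw [← hb2, ← e]
    exact pt_ext fun a => rfl
  let φ' := AddMonoidAlgebra.mapAlgHom ℤ φ
  let φ'' := AddMonoidAlgebra.mapAlgHom ℤ φ'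
  let κ := H⁻¹ * D.act g
  have hκW : κ ∈ W.mem B[ℤ] := mul_mem (inv_mem hHW) (hs B g hgW')
  have hκ : mapPt φ' κ = 1 := by rw [map_mul, map_inv, hHm, D.act_map, inv_mul_cancel]
  let K : ℤ → A →ₗ[R] B := fun n => coeffL n ∘ₗ tanOf κ
  have hK : ∀ n, IsTan (RingHom.ker φ.toRingHom) (K n) := isTan_coeff h hκ
  let d := -gradedSum D (fun n => n ≤ 0) K
  have hd : IsTan (RingHom.ker φ.toRingHom) d := (IsTan.gradedSum D _ K fun n _ => (hK n).comp_p D n).neg
  have hKann : ∀ n a, W.Ann a → K n a = 0 := fun n a ha => by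
    show coeffL (R := R) n (tanOf κ a) = 0
    rw [W.tanOf_ann hκW ha, map_zero]
  let k := tanPt h.ker hd
  have hkW : k ∈ W.mem B := W.tanPt_mem h hd fun a ha => by
    show -(gradedSum D (fun n => n ≤ 0) K a) = 0
    rw [neg_eq_zero, gradedSum_apply D _ _ a (Finset.Subset.refl _)]
    exact Finset.sum_eq_zero fun n _ => hKann n _ (hs.ann_p ha n)
  have hk : mapPt φ k = 1 := mapPt_tanPt h.ker rfl hd
  refine ⟨g * k, (D.isPos_act_iff _).mp ?_, mul_mem hgW' hkW, by rw [map_mul, hk, mul_one]⟩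
  have hmap : mapPt φ' (D.act k) = 1 := by rw [← D.act_map, hk, map_one]
  have hactκ : mapPt φ'' (D.act κ) = 1 := by rw [← D.act_map, hκ, map_one]
  have hdκ : mapPt φ'' (mapPt diagMap κ) = 1 := by
    rw [mapPt_mapPt]
    have e : φ''.comp diagMap = (diagMap (R := R) (B := C)).comp φ' := by
      refine AlgHom.ext fun x => ?_
      induction x using AddMonoidAlgebra.induction_linear with
      | zero => simp
      | add x y hx hy => rw [map_add, map_add, hx, hy]
      | single l r =>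
        rw [AlgHom.comp_apply, AlgHom.comp_apply, diagMap_single, AddMonoidAlgebra.mapAlgHom_single,
          AddMonoidAlgebra.mapAlgHom_single, diagMap_single]
    rw [e, ← mapPt_mapPt, hκ, map_one]
  let q := (D.act H)⁻¹ * mapPt diagMap H
  have key : q * mapPt diagMap κ = D.act κ := by
    have h1' : D.act g = H * κ := by simp [κ]
    have h2 : D.act (D.act g) = D.act H * D.act κ := by rw [h1', map_mul]
    rw [D.act_act, h1', map_mul] at h2
    rw [mul_assoc, h2, inv_mul_cancel_left]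
  have hq : IsPos (mapPt swap2 q) := by
    obtain ⟨hH1, hH2⟩ := (isPos_iff H).mp hH
    rw [map_mul, map_inv]
    refine IsPos.mul (IsPos.inv ?_) ?_ <;> refine (isPos_iff _).mpr ⟨fun a n hn => ?_, fun a => ?_⟩ <;>
      refine AddMonoidAlgebra.coeff_injective (Finsupp.ext fun m => ?_) <;>
      rw [mapPt_apply, swap2_coeff]
    · simp [hH1 _ n hn]
    · simp [hH2, D.counit_p, AddMonoidAlgebra.coe_algebraMap, Finsupp.single_apply, eq_comm]
      split_ifs <;> simp
    · rw [mapPt_apply, diagMap_coeff]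
      split_ifs with e
      · subst e; simp [hH1 _ _ hn]
      · simp
    · rw [mapPt_apply, diagMap_coeff, eps_coeff]
      split_ifs with e
      · subst e; exact hH2 a
      · rfl
  have hkerq : mapPt φ'' q = 1 := by
    rw [show q = D.act κ * (mapPt diagMap κ)⁻¹ by rw [← key, mul_inv_cancel_right], map_mul, map_inv, hactκ,
      hdκ, inv_one, mul_one]
  have keyt : ∀ a, ∀ n : ℤ, n ≤ 0 → K n (D.p n a) = K n a := by
    intro a n hn
    have e := congrArg (fun q : Pt R A B[ℤ][ℤ] => ((tanOf q a).coeff n).coeff n) key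
    simp only [tanOf_mul ((h.mapAlgHom ℤ).mapAlgHom ℤ) hkerq hdκ, LinearMap.add_apply, tanOf_mapPt,
      AddMonoidAlgebra.coeff_add, Finsupp.coe_add, Pi.add_apply, diagMap_coeff, D.tanOf_act, if_pos] at e
    show (tanOf κ (D.p n a)).coeff n = (tanOf κ a).coeff n
    rw [← e, add_eq_right]
    obtain ⟨hq1, hq2⟩ := (isPos_iff _).mp hq
    rcases hn.lt_or_eq with hn | rfl
    · have := congrArg (fun x : B[ℤ] => x.coeff n) (hq1 a n hn)
      simp only [mapPt_apply, swap2_coeff, AddMonoidAlgebra.coeff_zero, Finsupp.coe_zero, Pi.zero_apply] at this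
      simp [eps_coeff, this, hn.ne]
    · have := congrArg (fun x : B[ℤ] => x.coeff 0) (hq2 a)
      simp only [mapPt_apply, swap2_coeff, eps_coeff, if_pos] at this
      simp [eps_coeff, this]
  rw [map_mul, show D.act g = H * κ by simp [κ], mul_assoc]
  refine hH.mul ((isPos_iff _).mpr ?_)
  have tn : ∀ a, ∀ n : ℤ, n ≤ 0 → (tanOf (κ * D.act k) a).coeff n = 0 := by
    intro a n hn
    rw [tanOf_mul (h.mapAlgHom ℤ) hκ hmap, LinearMap.add_apply, AddMonoidAlgebra.coeff_add, Finsupp.add_apply,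
      D.tanOf_act, tanOf_tanPt]
    show K n a + (-gradedSum D (fun n => n ≤ 0) K) (D.p n a) = 0
    rw [LinearMap.neg_apply, gradedSum_p, if_pos hn, keyt a n hn, add_neg_cancel]
  refine ⟨fun a n hn => ?_, fun a => ?_⟩
  · simpa [eps_coeff, hn.ne] using tn a n hn.le
  · simpa [eps_coeff, sub_eq_zero] using tn a 0 le_rfl

variable (W)

/-- The fixed points of a grading in a subgroup stable under it. -/
def SmSub.fix (D : Coact R A Γ) (hs : W.Stable D) : SmSub R A where
  mem B _ _ :=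
    { carrier := {g | g ∈ W.mem B ∧ D.InZ g}
      one_mem' := ⟨one_mem _, D.inZ_one⟩
      mul_mem' := fun ha hb => ⟨mul_mem ha.1 hb.1, Coact.InZ.mul D ha.2 hb.2⟩
      inv_mem' := fun ha => ⟨inv_mem ha.1, Coact.InZ.inv D ha.2⟩ }
  map_mem φ _ hg := ⟨W.map_mem φ hg.1, Coact.InZ.map D hg.2 φ⟩
  of_ann φ hφ g h1 hann := by
    refine ⟨W.of_ann φ hφ g h1 fun a ha => hann a fun B' _ _ k hk => ha B' k hk.1, fun a n hn => hann _ fun B' _ _ k hk =>
      hk.2 a n hn⟩
  lift φ hφ hsurj g hg := by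
    obtain ⟨g₀, hg₀, rfl⟩ := W.lift φ hφ hsurj g hg.1
    obtain ⟨g', hZ, hW, e⟩ := SmSub.exists_inZ_lift hs hφ g₀ hg₀ hg.2
    exact ⟨g', ⟨hW, hZ⟩, e⟩
  mem_nonneg k h1 h2 := ⟨W.mem_nonneg k h1 h2.1, fun a n hn => Subtype.ext (h2.2 a n hn)⟩

theorem SmSub.mem_fix {D : Coact R A Γ} {hs : W.Stable D} {g : Pt R A B} :
    g ∈ (W.fix D hs).mem B ↔ g ∈ W.mem B ∧ D.InZ g := Iff.rfl

end Groth.Agent.RedSub30
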