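import Groth.Agent.RedSub30.TypeRRadical

/-!
# The unipotent radical of a subgroup of type (R) with positive root set, assembled
-/

set_option autoImplicit false
set_option synthInstance.maxHeartbeats 100000

universe u

open CategoryTheory CategoryTheory.Limits MonoidalCategory CartesianMonoidalCategory AlgebraicGeometry WithConv
open scoped MonObj AddMonoidAlgebra

namespace Groth.Agent.RedSub30

open BigCell29 GrpSchLib.AffineHopf

variable {S : Scheme.{u}} {G H : Over S} [GrpObj G] [GrpObj H] (D : Red.SplitRed G) (h : H ⟶ G)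
  [IsMonHom h] [IsImmersion h.left] [QuasiCompact h.left] [Smooth H.hom] (t : D.T ⟶ H) (ht : t ≫ h = D.i)
  {R' : Set D.idx} (hR' : ∀ a : D.idx, (∃ v : Red.Ga S ⟶ H, v ≫ h = D.u a) ↔ a ∈ R')
  (lam : D.M →+ ℤ) [ConnectedSpace S] {m : ℕ} {e : Fin m → D.idx} (he : RedSub.Enumerates R' e)
  (hpos : ∀ a ∈ R', 0 < lam (D.P.root a))
  [GrpObj (RedSub.pow (Red.Ga S) m)] [IsMonHom (RedSub.prodMap (Red.Ga S) m (fun k => D.u (e k)))]

include t ht hR' he hpos

/-- The products of positive root groups contain no torus in any geometric fibre. -/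
theorem hasNoSubtorus_prod {K : Type u} [Field K] [IsAlgClosed K] (f : Spec (CommRingCat.of K) ⟶ S) :
    Red.HasNoSubtorus K (Red.bc f (RedSub.pow (Red.Ga S) m)) := by
  obtain ⟨m', e', -, he'⟩ := exists_complement D lam he hpos
  obtain ⟨z0, hz0, ez⟩ := exists_extend D e e'
  have hl := isPosClosed_pos D lam he'
  obtain ⟨str, hstr⟩ := hl.exists_grpObj
  haveI := hl.mono_prodMap
  letI := str
  haveI := hstr
  haveI : IsMonHom z0 := by
    haveI : IsMonHom (z0 ≫ RedSub.prodMap (Red.Ga S) (m + m') (fun k => D.u (Fin.append e e' k))) := by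
      rw [ez]; infer_instance
    set a := RedSub.prodMap (Red.Ga S) (m + m') (fun k => D.u (Fin.append e e' k))
    constructor
    · rw [← cancel_mono a, Category.assoc, IsMonHom.one_hom (z0 ≫ a), IsMonHom.one_hom a]
    · rw [← cancel_mono a, Category.assoc, IsMonHom.mul_hom (z0 ≫ a), Category.assoc, IsMonHom.mul_hom a,
        ← Category.assoc, tensorHom_comp_tensorHom]
  haveI : Mono z0 := ⟨fun a b hab => Over.OverMorphism.ext
    ((cancel_mono z0.left).mp (congrArg CommaMorphism.left hab))⟩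
  intro T _ j _ _ hT
  exact hl.hasNoSubtorus f T (j ≫ (Over.pullback f).map z0) hT

variable (v : RedSub.pow (Red.Ga S) m ⟶ H) (hv : v ≫ h = RedSub.prodMap (Red.Ga S) m (fun k => D.u (e k)))
  (hM : IsIso ((t ⊗ₘ v) ≫ μ[H]))
include hv hM

/-- The products are the unipotent radical. -/
theorem isUnipotentRadical_unip : Par.IsUnipotentRadical v := by
  haveI := hM
  refine ⟨isMonHom_unip D h t ht v hv, isClosedImmersion_unip D h t ht hR' lam he hpos v hv,
    fun X g n => exists_conj D h t ht hR' lam he hpos v hv hM g n, RootPoly.smooth_pow m,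
    (haveI := isAffineHom_pow (S := S) m; inferInstance),
    fun s => ⟨RootPoly.connected_geomFibre_pow m s, hasNoSubtorus_prod D h t ht hR' lam he hpos (Red.geomPt s)⟩,
    fun U' _ u' _ hcl hnorm hsm _ hfib => ?_⟩
  haveI := hcl
  haveI := hsm
  haveI := isMonHom_torus D h t ht v hv
  have hψ := proj_eq_one D h t ht hR' lam he hpos v hv hM u' hnorm hfib
  let p := u' ≫ inv ((t ⊗ₘ v) ≫ μ[H])
  refine ⟨p ≫ snd _ _, ?_⟩
  have e1 : p ≫ ((t ⊗ₘ v) ≫ μ[H]) = ((p ≫ fst _ _) ≫ t) * ((p ≫ snd _ _) ≫ v) := by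
    rw [CategoryTheory.Hom.mul_def, ← Category.assoc p]
    congr 1
    ext <;> simp
  rw [show p ≫ ((t ⊗ₘ v) ≫ μ[H]) = u' by rw [Category.assoc, IsIso.inv_hom_id, Category.comp_id],
    show p ≫ fst _ _ = 1 from (Category.assoc _ _ _).trans hψ, MonObj.one_comp, one_mul] at e1
  exact e1.symm

end Groth.Agent.RedSub30
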