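import Groth.Agent.RedSub30.TypeRScheme
import Groth.Agent.RedSub30.TypeRLift
import Groth.Agent.AlgSpPts.Sep
import Groth.Agent.MultDefLib.Transp
import Mathlib.FieldTheory.RatFunc.Basic
import Mathlib.RingTheory.Flat.EquationalCriterion
import Mathlib.FieldTheory.IsAlgClosed.AlgebraicClosure

/-!
# The dichotomy for the root groups in a subgroup of type (R)
-/

set_option autoImplicit false
set_option synthInstance.maxHeartbeats 100000

universe u

open CategoryTheory CategoryTheory.Limits MonoidalCategory CartesianMonoidalCategory AlgebraicGeometry WithConv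
open scoped MonObj AddMonoidAlgebra

namespace Groth.Agent.RedSub30

open BigCell29 GrpSchLib.AffineHopf

variable {S : Scheme.{u}} {R : Type u} [CommRing R] {f : Spec (CommRingCat.of R) ⟶ S} [IsOpenImmersion f]
  {G H : Over S} [GrpObj G] [GrpObj H] (D : Red.SplitRed G) (h : H ⟶ G) [IsMonHom h] [IsImmersion h.left]
  [QuasiCompact h.left] [Smooth H.hom] (t : D.T ⟶ H) (ht : t ≫ h = D.i)
  {A : Type u} [CommRing A] [HopfAlgebra R A] (Md : Model f G A)

include ht in
theorem tor_mem (B : Type u) [CommRing B] [Algebra R B] (χ : Multiplicative D.M →* B) :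
    InSub h Md ((Md.frame D).T.tor χ) := by
  refine ⟨chPt f χ ≫ D.split.inv.hom.hom ≫ t, ?_⟩
  rw [Md.pt_tor, torG, Category.assoc, Category.assoc, ht]

include ht in
theorem tStable_subPts : TStable (Md.frame D) (subPts h Md) :=
  tStable_of_tor_mem _ _ fun B _ _ χ => tor_mem D h t ht Md B χ

/-- The image of a point with values in a field algebra does not change when the point is restricted. -/
theorem range_of_mapPt {B L : Type u} [CommRing B] [Algebra R B] [Field L] [Algebra R L] (ψ : B →ₐ[R] L)
    (g : Pt R A B) (hg : (Md.pt (mapPt ψ g)).left.base (IsLocalRing.closedPoint L) ∈ Set.range h.left.base) :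
    (Md.pt g).left.base (PrimeSpectrum.comap ψ.toRingHom ⟨⊥, Ideal.isPrime_bot⟩) ∈ Set.range h.left.base := by
  rw [Md.pt_map] at hg
  have e : IsLocalRing.closedPoint L = (⟨⊥, Ideal.isPrime_bot⟩ : PrimeSpectrum L) := Subsingleton.elim _ _
  rwa [Over.comp_left, Scheme.Hom.comp_apply, e] at hg

/-- The primes at which the root group lies in the subgroup, seen by a non-zero point over a field. -/
def fullSet (a : D.idx) : Set (PrimeSpectrum R) :=
  {p | ∃ (K : Type u) (_ : Field K) (_ : Algebra R K), RingHom.ker (algebraMap R K) = p.asIdeal ∧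
    ∃ x : K, x ≠ 0 ∧ InSub h Md ((Md.frame D).rt a x)}

variable (a : D.idx)

include ht in
/-- At a full prime the functions vanishing on the subgroup vanish on the root group. -/
theorem coeff_mem_of_full {p : PrimeSpectrum R} (hp : p ∈ fullSet D h Md a) {c : A} (hc : (subPts h Md).Ann c)
    (n : ℕ) : ((Md.frame D).φ a c).coeff n ∈ p.asIdeal := by
  classical
  obtain ⟨K, _, _, hker, x, hx0, hx⟩ := hp
  have hs := tStable_subPts D h t ht Md K _ hx
  rw [(Md.frame D).act_rt] at hs
  have h0 := hc _ _ hs
  rw [PreFrame.rt, linePt_apply, Polynomial.aeval_eq_sum_range] at h0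
  have h1 := congrArg (fun q : K[D.M] => q.coeff (n • (Md.frame D).root a)) h0
  simp only [AddMonoidAlgebra.coeff_sum, Finsupp.finsetSum_apply, AddMonoidAlgebra.single_pow,
    AddMonoidAlgebra.coeff_smul, Finsupp.smul_apply, AddMonoidAlgebra.coeff_single, AddMonoidAlgebra.coeff_zero,
    Finsupp.coe_zero, Pi.zero_apply] at h1
  by_cases hn : n ≤ ((Md.frame D).φ a c).natDegree
  · rw [Finset.sum_eq_single n] at h1
    · rw [Finsupp.single_eq_same, Algebra.smul_def, mul_eq_zero] at h1
      rcases h1 with h1 | h1
      · rw [← hker]; exact h1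
      · exact absurd h1 (pow_ne_zero _ hx0)
    · intro k _ hk
      rw [Finsupp.single_eq_of_ne, smul_zero]
      intro e
      have e' : ((k : ℤ) - n) • (Md.frame D).root a = 0 := by rw [sub_smul, natCast_zsmul, natCast_zsmul, e, sub_self]
      rcases smul_eq_zero.mp e' with e' | e'
      · omega
      · exact D.P.ne_zero a e'
    · intro hh; simp only [Finset.mem_range] at hh; omega
  · rw [Polynomial.coeff_eq_zero_of_natDegree_lt (by omega)]; exact zero_mem _

/-- Where the functions vanishing on the subgroup vanish on the root line, the root group lies in the subgroup. -/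
theorem rt_mem_of_coeff {L : Type u} [Field L] [IsAlgClosed L] [Algebra R L]
    (hc : ∀ c, (subPts h Md).Ann c → ∀ n, algebraMap R L (((Md.frame D).φ a c).coeff n) = 0) (x : L) :
    InSub h Md ((Md.frame D).rt a x) := by
  classical
  set F := Md.frame D
  let g : Pt R A (Polynomial L) := F.rt a (Polynomial.X : Polynomial L)
  have hann : ∀ {B : Type u} [CommRing B] [Algebra R B] (y : B) (_φ : L →ₐ[R] B) c, (subPts h Md).Ann c →
      F.rt a y c = 0 := fun y φ c hcc => by
    rw [PreFrame.rt, linePt_apply, Polynomial.aeval_eq_sum_range]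
    refine Finset.sum_eq_zero fun n _ => ?_
    rw [Algebra.smul_def, ← φ.commutes, hc c hcc n, map_zero, zero_mul]
  have hU := isOpen_preimage_range_of_ann h Md g fun c hcc =>
    hann (Polynomial.X : Polynomial L) (IsScalarTower.toAlgHom R L (Polynomial L)) c hcc
  set U := {p : Spec (CommRingCat.of (Polynomial L)) | (Md.pt g).left.base p ∈ Set.range h.left.base}
  -- the rational points of the open set
  let ev : L → (Polynomial L →ₐ[R] L) := fun y => (Polynomial.aeval (R := L) y).restrictScalars R
  let pt : L → Spec (CommRingCat.of (Polynomial L)) := fun y =>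
    PrimeSpectrum.comap (ev y).toRingHom ⟨⊥, Ideal.isPrime_bot⟩
  have hpt : ∀ y, pt y ∈ U ↔ InSub h Md (F.rt a y) := fun y => by
    have e : mapPt (ev y) g = F.rt a y := by rw [F.mapPt_rt]; simp [ev]
    constructor
    · intro hy
      refine inSub_of_ann_range h Md _ (fun c hcc => hann y (AlgHom.id R L) c hcc) ?_
      rintro _ ⟨q, rfl⟩
      rw [← e, Md.pt_map, Over.comp_left, Scheme.Hom.comp_apply]
      obtain rfl : q = (⟨⊥, Ideal.isPrime_bot⟩ : PrimeSpectrum L) := Subsingleton.elim (α := PrimeSpectrum L) _ _
      exact hy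
    · rintro ⟨w, hw⟩
      refine range_of_mapPt h Md (ev y) g ?_
      rw [e, ← hw]
      exact ⟨_, (Scheme.Hom.comp_apply _ _ _).symm⟩
  have hne : (Md.frame D).rt a (0 : L) = 1 := F.rt_zero a
  have h0 : pt 0 ∈ U := (hpt 0).mpr ⟨1, by rw [hne, MonObj.one_comp, Md.pt_one]⟩
  -- the open set misses only finitely many rational points
  obtain ⟨_, ⟨q, rfl⟩, hq0, hqU⟩ := PrimeSpectrum.isTopologicalBasis_basic_opens.exists_subset_of_mem_open h0 hU
  have hq : q ≠ 0 := by
    rintro rfl
    simp at hq0
  have key : ∀ y, q.eval y ≠ 0 → InSub h Md (F.rt a y) := fun y hy => (hpt y).mp (hqU (by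
    intro h0
    refine hy ?_
    have h1 := Ideal.mem_bot.mp (Ideal.mem_comap.mp h0)
    rw [← Polynomial.coe_aeval_eq_eval]
    exact h1))
  obtain ⟨v, hv⟩ : ∃ v, v ∉ q.roots.toFinset ∪ (q.comp (Polynomial.C x - Polynomial.X)).roots.toFinset :=
    Infinite.exists_notMem_finset _
  have hq' : q.comp (Polynomial.C x - Polynomial.X) ≠ 0 := by
    intro h'
    apply hq
    have := congrArg (fun r : Polynomial L => r.comp (Polynomial.C x - Polynomial.X)) h'
    simpa [Polynomial.comp_assoc] using this
  simp only [Finset.mem_union, Multiset.mem_toFinset, Polynomial.mem_roots hq, Polynomial.mem_roots hq',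
    Polynomial.IsRoot.def, Polynomial.eval_comp, Polynomial.eval_sub, Polynomial.eval_C, Polynomial.eval_X,
    not_or] at hv
  obtain ⟨y1, e1⟩ := key v hv.1
  obtain ⟨y2, e2⟩ := key (x - v) hv.2
  refine ⟨y1 * y2, ?_⟩
  rw [MonObj.mul_comp, e1, e2, ← Md.pt_mul]
  congr 1
  rw [PreFrame.rt, PreFrame.rt, PreFrame.rt, ← F.rt_add L a, add_sub_cancel]

/-- A prime modulo which the functions vanishing on the subgroup vanish on the root line is full. -/
theorem full_of_coeff {p : PrimeSpectrum R}
    (hp : ∀ c, (subPts h Md).Ann c → ∀ n, ((Md.frame D).φ a c).coeff n ∈ p.asIdeal) :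
    p ∈ fullSet D h Md a := by
  let L := AlgebraicClosure p.asIdeal.ResidueField
  have hker : RingHom.ker (algebraMap R L) = p.asIdeal := by
    rw [IsScalarTower.algebraMap_eq R p.asIdeal.ResidueField L,
      RingHom.ker_comp_of_injective _ (algebraMap p.asIdeal.ResidueField L).injective,
      Ideal.ker_algebraMap_residueField]
  refine ⟨L, inferInstance, inferInstance, hker, 1, one_ne_zero, rt_mem_of_coeff D h Md a (fun c hc n => ?_) 1⟩
  rw [← RingHom.mem_ker, hker]
  exact hp c hc n

include ht in
theorem isClosed_fullSet : IsClosed (fullSet D h Md a) := by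
  have e : fullSet D h Md a = PrimeSpectrum.zeroLocus
      {r | ∃ c, (subPts h Md).Ann c ∧ ∃ n, r = ((Md.frame D).φ a c).coeff n} := by
    ext p
    rw [PrimeSpectrum.mem_zeroLocus]
    refine ⟨fun hp => ?_, fun hp => full_of_coeff D h Md a fun c hc n => hp ⟨c, hc, n, rfl⟩⟩
    rintro _ ⟨c, hc, n, rfl⟩
    exact coeff_mem_of_full D h t ht Md a hp hc n
  rw [e]
  exact PrimeSpectrum.isClosed_zeroLocus _

include ht in
/-- The scheme of points of the root line lying in the subgroup is smooth. -/
theorem smooth_rootLine {lam nu : D.M →+ ℤ} (hlam : 0 < lam (D.P.root a)) (hnua : nu (D.P.root a) = 0)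
    (hnu : ∀ i, i ≠ a → 0 < lam (D.P.root i) → nu (D.P.root i) ≠ 0) :
    Smooth (pullback.snd h.left (Md.pt ((Md.frame D).rt a (Polynomial.X : Polynomial R))).left ≫
      Spec.map (CommRingCat.ofHom (algebraMap R (Polynomial R)))) := by
  set F := Md.frame D
  have : LocallyOfFiniteType G.hom := by
    have := D.reductive.2.1
    infer_instance
  have : LocallyOfFinitePresentation (h.left ≫ G.hom) := by rw [Over.w h]; infer_instance
  have : LocallyOfFinitePresentation h.left := AlgSpPts.locallyOfFinitePresentation_of_comp h.left G.hom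
  have : Algebra.FinitePresentation R (Polynomial R) := inferInstance
  have : LocallyOfFinitePresentation (Spec.map (CommRingCat.ofHom (algebraMap R (Polynomial R)))) :=
    (HasRingHomProperty.Spec_iff (P := @LocallyOfFinitePresentation)).mpr
      (RingHom.finitePresentation_algebraMap.mpr inferInstance)
  refine MultDefLib.smooth_of_isFormallySmoothHom _ fun A' _ I hI q b w => ?_
  obtain ⟨α, hα⟩ := Spec.map_surjective b
  let : Algebra R A' := α.hom.toAlgebra
  let gR := (Md.pt (F.rt a (Polynomial.X : Polynomial R))).left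
  obtain ⟨β, hβ⟩ := Spec.map_surjective (q ≫ pullback.snd h.left gR)
  have hcomm : CommRingCat.ofHom (algebraMap R (Polynomial R)) ≫ β = α ≫ CommRingCat.ofHom (Ideal.Quotient.mk I) := by
    apply Spec.map_injective
    rw [Spec.map_comp, Spec.map_comp, hβ, hα, w, Category.assoc]
  let βa : Polynomial R →ₐ[R] A' ⧸ I := ⟨β.hom, fun r => RingHom.congr_fun (congrArg CommRingCat.Hom.hom hcomm) r⟩
  have hy : InSub h Md (F.rt a (βa Polynomial.X)) := by
    rw [← F.mapPt_rt βa, InSub, Md.pt_map]
    refine ⟨Over.homMk (q ≫ pullback.fst h.left gR) ?_, Over.OverMorphism.ext ?_⟩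
    · have e := Over.w (tMap f βa ≫ Md.pt (F.rt a (Polynomial.X : Polynomial R)))
      refine Eq.trans ?_ e
      rw [← Over.w h, Category.assoc, pullback.condition_assoc, Over.comp_left, Category.assoc]
      show _ = Spec.map β ≫ _
      rw [hβ, Category.assoc]
    · show (q ≫ pullback.fst h.left gR) ≫ h.left = Spec.map β ≫ gR
      rw [hβ, Category.assoc, pullback.condition, Category.assoc]
  have hsq : SqZero (Ideal.Quotient.mkₐ R I) := fun x y hx hy => by
    have := Ideal.mul_mem_mul (Ideal.Quotient.eq_zero_iff_mem.mp hx) (Ideal.Quotient.eq_zero_iff_mem.mp hy)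
    rwa [← pow_two, hI] at this
  obtain ⟨x', hx', y', hy'⟩ := exists_rt_lift (Md.frame D) (subPts h Md) (tStable_subPts D h t ht Md) hlam hnua hnu
    hsq Ideal.Quotient.mk_surjective hy
  let ev : Polynomial R →ₐ[R] A' := Polynomial.aeval x'
  have e : y'.left ≫ h.left = Spec.map (CommRingCat.ofHom ev.toRingHom) ≫ gR := by
    refine (congrArg CommaMorphism.left hy').trans ?_
    rw [show F.rt a x' = mapPt ev (F.rt a (Polynomial.X : Polynomial R)) by rw [F.mapPt_rt]; simp [ev], Md.pt_map]
    rfl
  refine ⟨pullback.lift y'.left _ e, ?_, ?_⟩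
  · have hmono : Mono h.left := inferInstance
    have : Mono (pullback.snd h.left gR) := inferInstance
    rw [← cancel_mono (pullback.snd h.left gR), Category.assoc, pullback.lift_snd, ← hβ]
    refine (Spec.map_comp _ _).symm.trans (congrArg Spec.map (CommRingCat.hom_ext ?_))
    exact congrArg AlgHom.toRingHom (Polynomial.algHom_ext (f := (Ideal.Quotient.mkₐ R I).comp ev) (g := βa)
      (by simpa [ev] using hx'))
  · rw [pullback.lift_snd_assoc, ← Spec.map_comp, ← hα]
    congr 1
    exact CommRingCat.hom_ext ev.comp_algebraMap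

include ht in
theorem isOpen_fullSet {lam nu : D.M →+ ℤ} (hlam : 0 < lam (D.P.root a)) (hnua : nu (D.P.root a) = 0)
    (hnu : ∀ i, i ≠ a → 0 < lam (D.P.root i) → nu (D.P.root i) ≠ 0) : IsOpen (fullSet D h Md a) := by
  set F := Md.frame D
  let gR := (Md.pt (F.rt a (Polynomial.X : Polynomial R))).left
  let C := Spec.map (CommRingCat.ofHom (algebraMap R (Polynomial R)))
  let q := pullback.snd h.left gR ≫ C
  have : Smooth q := smooth_rootLine D h t ht Md a hlam hnua hnu
  let V : Set (pullback h.left gR : Scheme) :=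
    (pullback.snd h.left gR).base ⁻¹' ((PrimeSpectrum.basicOpen (Polynomial.X : Polynomial R)).1 : Set (PrimeSpectrum (Polynomial R)))
  have hV : IsOpen V := (PrimeSpectrum.basicOpen _).2.preimage (pullback.snd h.left gR).continuous
  have e : fullSet D h Md a = q.base '' V := by
    ext p
    constructor
    · rintro ⟨K, _, _, hker, x, hx0, y, hy⟩
      let ev : Polynomial R →ₐ[R] K := Polynomial.aeval x
      have e : y.left ≫ h.left = Spec.map (CommRingCat.ofHom ev.toRingHom) ≫ gR := by
        refine (congrArg CommaMorphism.left hy).trans ?_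
        rw [show F.rt a x = mapPt ev (F.rt a (Polynomial.X : Polynomial R)) by rw [F.mapPt_rt]; simp [ev], Md.pt_map]
        rfl
      refine ⟨(pullback.lift y.left _ e).base (IsLocalRing.closedPoint K), ?_, ?_⟩
      · show (pullback.snd h.left gR).base _ ∈ PrimeSpectrum.basicOpen _
        rw [← Scheme.Hom.comp_apply, pullback.lift_snd]
        show ev Polynomial.X ∉ (IsLocalRing.closedPoint K).asIdeal
        simp [ev, IsLocalRing.closedPoint, hx0]
      · rw [← Scheme.Hom.comp_apply, pullback.lift_snd_assoc, ← Spec.map_comp]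
        refine PrimeSpectrum.ext ?_
        show Ideal.comap (ev.toRingHom.comp (algebraMap R (Polynomial R))) (IsLocalRing.closedPoint K).asIdeal = _
        rw [show ev.toRingHom.comp (algebraMap R (Polynomial R)) = algebraMap R K from ev.comp_algebraMap, ← hker,
          RingHom.ker_eq_comap_bot, ← IsLocalRing.maximalIdeal_eq_bot]
        rfl
    · rintro ⟨z, hz, rfl⟩
      let K := (pullback h.left gR).residueField z
      obtain ⟨β, hβ⟩ := Spec.map_surjective ((pullback h.left gR).fromSpecResidueField z ≫ pullback.snd h.left gR)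
      let : Algebra R K := (β.hom.comp (algebraMap R (Polynomial R))).toAlgebra
      let βa : Polynomial R →ₐ[R] K := ⟨β.hom, fun r => rfl⟩
      have hp : (Spec.map β).base (IsLocalRing.closedPoint K) = (pullback.snd h.left gR).base z := by
        rw [hβ, Scheme.Hom.comp_apply, Scheme.fromSpecResidueField_apply]
      refine ⟨K, inferInstance, inferInstance, ?_, βa Polynomial.X, fun h0 => ?_, ?_⟩
      · rw [Scheme.Hom.comp_apply, ← hp]
        show RingHom.ker (β.hom.comp (algebraMap R (Polynomial R))) = Ideal.comap _ (Ideal.comap _ _)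
        rw [Ideal.comap_comap, RingHom.ker_eq_comap_bot, ← IsLocalRing.maximalIdeal_eq_bot]
        rfl
      · have hz' : (Polynomial.X : Polynomial R) ∉ ((Spec.map β).base (IsLocalRing.closedPoint K)).asIdeal := by
          rw [hp]; exact hz
        exact hz' (Ideal.mem_comap.mpr ((show β.hom Polynomial.X = 0 from h0).symm ▸ Ideal.zero_mem _))
      · rw [← F.mapPt_rt βa, InSub, Md.pt_map]
        refine ⟨Over.homMk ((pullback h.left gR).fromSpecResidueField z ≫ pullback.fst h.left gR) ?_,
          Over.OverMorphism.ext ?_⟩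
        · have e := Over.w (tMap f βa ≫ Md.pt (F.rt a (Polynomial.X : Polynomial R)))
          refine Eq.trans ?_ e
          rw [← Over.w h, Category.assoc, pullback.condition_assoc, Over.comp_left, Category.assoc]
          show _ = Spec.map β ≫ _
          rw [hβ, Category.assoc]
        · show ((pullback h.left gR).fromSpecResidueField z ≫ pullback.fst h.left gR) ≫ h.left = Spec.map β ≫ gR
          rw [hβ, Category.assoc, pullback.condition, Category.assoc]
  rw [e]
  exact q.isOpenMap _ hV

end Groth.Agent.RedSub30
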