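import Groth.Agent.RedSub30.TypeRPts
import Groth.Agent.BigCell29.Bridge
import Groth.Agent.MultDefLib.Lift
import Mathlib.AlgebraicGeometry.Morphisms.Immersion
import Mathlib.AlgebraicGeometry.Morphisms.ClosedImmersion

/-!
# The points of a smooth subgroup scheme over an affine piece of the base
-/

set_option autoImplicit false
set_option synthInstance.maxHeartbeats 100000

universe u

open CategoryTheory CategoryTheory.Limits MonoidalCategory CartesianMonoidalCategory AlgebraicGeometry WithConv
open scoped MonObj AddMonoidAlgebra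

namespace Groth.Agent.RedSub30

open BigCell29 GrpSchLib.AffineHopf

theorem imageι_ker_le {P Z Y : Scheme.{u}} [IsAffine Y] (j : P ⟶ Y) (g : Z ⟶ Y)
    (hker : RingHom.ker j.appTop.hom ≤ RingHom.ker g.appTop.hom) : j.imageι.ker ≤ g.ker := by
  rw [show j.imageι.ker = j.ker from Scheme.IdealSheafData.ker_subschemeι _, Scheme.ker_of_isAffine j,
    Scheme.ker_of_isAffine g]
  exact Scheme.IdealSheafData.le_of_isAffine (by simpa using hker)

/-- The points landing in an immersion, among those killing the functions vanishing on it, form an open set. -/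
theorem isOpen_preimage_range_of_ker {P Z Y : Scheme.{u}} [IsAffine Y] (j : P ⟶ Y) [IsImmersion j] [QuasiCompact j]
    (g : Z ⟶ Y) (hker : RingHom.ker j.appTop.hom ≤ RingHom.ker g.appTop.hom) :
    IsOpen {z : Z | g.base z ∈ Set.range j.base} := by
  let l₀ := IsClosedImmersion.lift j.imageι g (imageι_ker_le j g hker)
  have hl₀ : l₀ ≫ j.imageι = g := IsClosedImmersion.lift_fac _ _ _
  have e : {z : Z | g.base z ∈ Set.range j.base} = l₀.base ⁻¹' Set.range j.toImage.base := by
    ext z
    rw [Set.mem_ofPred_eq, Set.mem_preimage, ← hl₀, Scheme.Hom.comp_apply]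
    constructor
    · rintro ⟨p, hp⟩
      refine ⟨p, j.imageι.isClosedEmbedding.injective ?_⟩
      rw [← Scheme.Hom.comp_apply, Scheme.Hom.toImage_imageι, hp]
    · rintro ⟨p, hp⟩
      exact ⟨p, by rw [← hp, ← Scheme.Hom.comp_apply, Scheme.Hom.toImage_imageι]⟩
  rw [e]
  exact j.toImage.isOpenEmbedding.isOpen_range.preimage l₀.continuous

/-- A morphism to an affine scheme killing the functions which vanish on a quasi-compact immersion, with image in
the image of the immersion, factors through it. -/
theorem exists_factor_of_ker {P Z Y : Scheme.{u}} [IsAffine Y] (j : P ⟶ Y) [IsImmersion j] [QuasiCompact j]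
    (g : Z ⟶ Y) (hker : RingHom.ker j.appTop.hom ≤ RingHom.ker g.appTop.hom)
    (hrange : Set.range g.base ⊆ Set.range j.base) : ∃ l : Z ⟶ P, l ≫ j = g := by
  have hle := imageι_ker_le j g hker
  let l₀ := IsClosedImmersion.lift j.imageι g hle
  have hl₀ : l₀ ≫ j.imageι = g := IsClosedImmersion.lift_fac _ _ _
  have hr : Set.range l₀.base ⊆ Set.range j.toImage.base := by
    rintro _ ⟨z, rfl⟩
    obtain ⟨p, hp⟩ := hrange ⟨z, rfl⟩
    refine ⟨p, j.imageι.isClosedEmbedding.injective ?_⟩
    rw [← Scheme.Hom.comp_apply, ← Scheme.Hom.comp_apply, Scheme.Hom.toImage_imageι, hl₀, hp]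
  refine ⟨IsOpenImmersion.lift j.toImage l₀ hr, ?_⟩
  refine (congrArg (_ ≫ ·) (Scheme.Hom.toImage_imageι j).symm).trans ?_
  simp only [IsOpenImmersion.lift_fac_assoc, hl₀]

variable {R : Type u} [CommRing R] {B : Type u} [CommRing B] [Algebra R B]

/-- The coordinate of the affine line inside Laurent polynomials. -/
noncomputable def sVar (R B : Type u) [CommRing R] [CommRing B] [Algebra R B] : nonneg R B :=
  ⟨AddMonoidAlgebra.single 1 1, fun n hn => by
    rw [AddMonoidAlgebra.coeff_single, Finsupp.single_apply, if_neg (by omega)]⟩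

/-- A map out of polynomials is determined by the constants and the coordinate. -/
theorem nonneg_apply_eq_sum {K : Type u} [CommRing K] [Algebra R K] (ψ : nonneg R B →ₐ[R] K) (x : nonneg R B) :
    ψ x = ∑ n ∈ (x : B[ℤ]).coeff.support, ψ (cst0 R B ((x : B[ℤ]).coeff n)) * ψ (sVar R B) ^ n.toNat := by
  classical
  have hsum : x = ∑ n ∈ (x : B[ℤ]).coeff.support, cst0 R B ((x : B[ℤ]).coeff n) * sVar R B ^ n.toNat := by
    refine Subtype.ext ?_
    rw [AddSubmonoidClass.coe_finsetSum]
    conv_lhs => rw [← AddMonoidAlgebra.sum_single (x : B[ℤ])]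
    refine Finset.sum_congr rfl fun n hn => ?_
    have h0 : 0 ≤ n := by
      by_contra h
      exact Finsupp.mem_support_iff.mp hn (x.2 n (by omega))
    simp only [MulMemClass.coe_mul, SubmonoidClass.coe_pow, cst0_val, sVar, AddMonoidAlgebra.single_pow, one_pow,
      AddMonoidAlgebra.single_mul_single, mul_one, zero_add, nsmul_one, Int.natCast_toNat_eq_self.mpr h0]
  conv_lhs => rw [hsum]
  simp [map_sum]

variable {S : Scheme.{u}} {f : Spec (CommRingCat.of R) ⟶ S} {G H : Over S} [GrpObj G] [GrpObj H]
  (h : H ⟶ G) {A : Type u} [CommRing A] [HopfAlgebra R A] (Md : Model f G A)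

/-- The points of `G` lying in the subgroup. -/
def InSub {B : Type u} [CommRing B] [Algebra R B] (g : Pt R A B) : Prop := ∃ y : tObj f B ⟶ H, y ≫ h = Md.pt g

theorem InSub.map {C : Type u} [CommRing C] [Algebra R C] (φ : B →ₐ[R] C) {g : Pt R A B} (hg : InSub h Md g) :
    InSub h Md (mapPt φ g) := by
  obtain ⟨y, hy⟩ := hg
  exact ⟨tMap f φ ≫ y, by rw [Category.assoc, hy, Md.pt_map]⟩

theorem ker_le_of_ann (g : Pt R A B)
    (hann : ∀ a : A, (∀ (B' : Type u) [CommRing B'] [Algebra R B'] (k : Pt R A B'), InSub h Md k → k a = 0) → g a = 0) :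
    RingHom.ker (pullback.snd h.left Md.toG).appTop.hom ≤
      RingHom.ker (Spec.map (CommRingCat.ofHom g.ofConv.toRingHom)).appTop.hom := by
  intro x hx
  let j := pullback.snd h.left Md.toG
  let gam : Spec (CommRingCat.of B) ⟶ Spec (CommRingCat.of A) := Spec.map (CommRingCat.ofHom g.ofConv.toRingHom)
  obtain ⟨a, rfl⟩ := (Scheme.ΓSpecIso (CommRingCat.of A)).commRingCatIsoToRingEquiv.symm.surjective x
  have key : ∀ {B' : Type u} [CommRing B'] (φ : A →+* B'),
      (Spec.map (CommRingCat.ofHom φ)).appTop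
          ((Scheme.ΓSpecIso (CommRingCat.of A)).commRingCatIsoToRingEquiv.symm a) =
        (Scheme.ΓSpecIso (CommRingCat.of B')).commRingCatIsoToRingEquiv.symm (φ a) := fun {B'} _ φ =>
    (congrArg (fun q => (ConcreteCategory.hom q) a) (Scheme.ΓSpecIso_inv_naturality (CommRingCat.ofHom φ))).symm
  show gam.appTop _ = 0
  refine (key g.ofConv.toRingHom).trans ?_
  refine (congrArg (Scheme.ΓSpecIso (CommRingCat.of B)).commRingCatIsoToRingEquiv.symm
    (?_ : g.ofConv a = 0)).trans (map_zero _)
  refine hann a fun B' _ _ k hk => ?_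
  obtain ⟨y, hy⟩ := hk
  have e : y.left ≫ h.left = Spec.map (CommRingCat.ofHom k.ofConv.toRingHom) ≫ Md.toG :=
    (congrArg CommaMorphism.left hy).trans (Md.pt_left k)
  have e' := congrArg (fun q : Spec (CommRingCat.of B') ⟶ Spec (CommRingCat.of A) =>
    q.appTop ((Scheme.ΓSpecIso (CommRingCat.of A)).commRingCatIsoToRingEquiv.symm a))
    (pullback.lift_snd _ _ e : pullback.lift y.left _ e ≫ j = _)
  simp only [Scheme.Hom.comp_appTop, CommRingCat.comp_apply] at e'
  rw [show j.appTop.hom ((Scheme.ΓSpecIso (CommRingCat.of A)).commRingCatIsoToRingEquiv.symm a) = 0 from hx,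
    map_zero, key] at e'
  exact (Scheme.ΓSpecIso (CommRingCat.of B')).commRingCatIsoToRingEquiv.symm.injective
    (e'.symm.trans (map_zero _).symm)

/-- The points of a test object landing in the subgroup form an open set, if the functions vanishing on the
subgroup vanish on it. -/
theorem isOpen_preimage_range_of_ann [IsImmersion h.left] [QuasiCompact h.left] (g : Pt R A B)
    (hann : ∀ a : A, (∀ (B' : Type u) [CommRing B'] [Algebra R B'] (k : Pt R A B'), InSub h Md k → k a = 0) → g a = 0) :
    IsOpen {p : Spec (CommRingCat.of B) | (Md.pt g).left.base p ∈ Set.range h.left.base} := by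
  let j := pullback.snd h.left Md.toG
  have : IsImmersion j := MorphismProperty.pullback_snd _ _ inferInstance
  have : QuasiCompact j := MorphismProperty.pullback_snd _ _ inferInstance
  let gam : Spec (CommRingCat.of B) ⟶ Spec (CommRingCat.of A) := Spec.map (CommRingCat.ofHom g.ofConv.toRingHom)
  convert isOpen_preimage_range_of_ker j gam (ker_le_of_ann h Md g hann) using 1
  ext p
  simp only [Set.mem_ofPred_eq]
  rw [Md.pt_left]
  constructor
  · rintro ⟨y, hy⟩
    obtain ⟨q, -, hq⟩ := Scheme.exists_preimage_of_isPullback (IsPullback.of_hasPullback h.left Md.toG) y (gam.base p)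
      (by rw [hy]; rfl)
    exact ⟨q, hq⟩
  · rintro ⟨q, hq⟩
    refine ⟨(pullback.fst h.left Md.toG).base q, ?_⟩
    rw [← Scheme.Hom.comp_apply, pullback.condition, Scheme.Hom.comp_apply]
    exact (congrArg Md.toG.base hq).trans rfl

/-- Membership is tested by the functions vanishing on the subgroup and by the image of the point. -/
theorem inSub_of_ann_range [IsImmersion h.left] [QuasiCompact h.left] (g : Pt R A B)
    (hann : ∀ a : A, (∀ (B' : Type u) [CommRing B'] [Algebra R B'] (k : Pt R A B'), InSub h Md k → k a = 0) → g a = 0)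
    (hrange : Set.range (Md.pt g).left.base ⊆ Set.range h.left.base) : InSub h Md g := by
  let j := pullback.snd h.left Md.toG
  have : IsImmersion j := MorphismProperty.pullback_snd _ _ inferInstance
  have : QuasiCompact j := MorphismProperty.pullback_snd _ _ inferInstance
  let gam : Spec (CommRingCat.of B) ⟶ Spec (CommRingCat.of A) := Spec.map (CommRingCat.ofHom g.ofConv.toRingHom)
  refine (exists_factor_of_ker j gam (fun x hx => ?_) (fun z hz => ?_)).elim fun l hl => ?_
  rotate_left 2
  · refine ⟨Over.homMk (l ≫ pullback.fst _ _) ?_, Over.OverMorphism.ext ?_⟩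
    · have e := Over.w (Md.pt g)
      rw [← Over.w h, Category.assoc, pullback.condition_assoc, ← Category.assoc, hl]
      rw [Md.pt_left] at e
      exact (Category.assoc _ _ _).symm.trans e
    · refine Eq.trans ?_ (Md.pt_left g).symm
      show (l ≫ pullback.fst _ _) ≫ h.left = gam ≫ Md.toG
      rw [Category.assoc, pullback.condition, ← Category.assoc, hl]
  · exact ker_le_of_ann h Md g hann hx
  · obtain ⟨p, rfl⟩ := hz
    have hp : (Md.pt g).left.base p ∈ Set.range h.left.base := hrange ⟨p, rfl⟩
    obtain ⟨y, hy⟩ := hp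
    obtain ⟨q, -, hq⟩ := Scheme.exists_preimage_of_isPullback (IsPullback.of_hasPullback h.left Md.toG) y (gam.base p)
      (by rw [hy, Md.pt_left]; rfl)
    exact ⟨q, hq⟩

/-- Membership is tested by the functions vanishing on the subgroup and by the points with values in fields. -/
theorem inSub_of_ann [IsImmersion h.left] [QuasiCompact h.left] (g : Pt R A B)
    (hann : ∀ a : A, (∀ (B' : Type u) [CommRing B'] [Algebra R B'] (k : Pt R A B'), InSub h Md k → k a = 0) → g a = 0)
    (hfield : ∀ (K : Type u) [Field K] [Algebra R K] (ψ : B →ₐ[R] K), InSub h Md (mapPt ψ g)) : InSub h Md g := by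
  refine inSub_of_ann_range h Md g hann ?_
  rintro _ ⟨p, rfl⟩
  let K := (Spec (CommRingCat.of B)).residueField p
  obtain ⟨α, hα⟩ := Spec.map_surjective ((Spec (CommRingCat.of B)).fromSpecResidueField p)
  let : Algebra R K := (α.hom.comp (algebraMap R B)).toAlgebra
  let ψ : B →ₐ[R] K := ⟨α.hom, fun r => rfl⟩
  obtain ⟨y, hy⟩ := hfield K ψ
  refine ⟨y.left.base (IsLocalRing.closedPoint K), ?_⟩
  have e : y.left ≫ h.left = (Spec (CommRingCat.of B)).fromSpecResidueField p ≫ (Md.pt g).left := by
    refine ((congrArg CommaMorphism.left hy).trans (Md.pt_left _)).trans ?_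
    rw [← hα, Md.pt_left, ← Category.assoc, ← Spec.map_comp]
    rfl
  rw [← Scheme.Hom.comp_apply, e, Scheme.Hom.comp_apply, Scheme.fromSpecResidueField_apply]

variable [IsMonHom h] [IsImmersion h.left] [QuasiCompact h.left] [Smooth H.hom]

/-- The points of a smooth subgroup scheme. -/
noncomputable def subPts : SmSub R A where
  mem B _ _ :=
    { carrier := {g | InSub h Md g}
      one_mem' := ⟨1, by rw [MonObj.one_comp, Md.pt_one]⟩
      mul_mem' := fun {a b} ⟨ya, ea⟩ ⟨yb, eb⟩ => ⟨ya * yb, by rw [MonObj.mul_comp, ea, eb, Md.pt_mul]⟩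
      inv_mem' := fun {a} ⟨y, e⟩ => ⟨y⁻¹, by rw [GrpObj.inv_comp, e, Md.pt_inv]⟩ }
  map_mem φ _ hg := InSub.map h Md φ hg
  of_ann φ hφ g h1 hann := inSub_of_ann h Md g hann fun K _ _ ψ => by
    have e : mapPt ψ g = 1 := pt_ext fun a => by
      have hz : φ (g a - algebraMap R _ (Coalgebra.counit a)) = 0 := by
        have := DFunLike.congr_fun (congrArg WithConv.ofConv h1) a
        simp only [mapPt_apply, AlgHom.convOne_apply] at this
        rw [map_sub, this, AlgHom.commutes, sub_self]
      have h2 := congrArg ψ (hφ _ _ hz hz)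
      rw [map_mul, map_zero, mul_self_eq_zero, map_sub, AlgHom.commutes, sub_eq_zero] at h2
      rw [mapPt_apply, h2, AlgHom.convOne_apply]
    exact ⟨1, by rw [e, MonObj.one_comp, Md.pt_one]⟩
  lift {B C} _ _ _ _ φ hφ hsurj g hg := by
    obtain ⟨y, hy⟩ := hg
    let I : Ideal B := RingHom.ker φ
    let e : (B ⧸ I) ≃ₐ[R] C := Ideal.quotientKerAlgEquivOfSurjective hsurj
    have hnil : IsNilpotent I := ⟨2, by
      rw [pow_two]
      exact le_antisymm (Ideal.mul_le.mpr fun x hx z hz => by simp [hφ x z hx hz]) bot_le⟩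
    let y' : tObj f (B ⧸ I) ⟶ H := tMap f e.symm.toAlgHom ≫ y
    obtain ⟨l, hl, hl'⟩ := MultDefLib.exists_lift_of_nilpotent (MultDefLib.isFormallySmoothHom_of_smooth H.hom)
      I hnil y'.left (tObj f B).hom ((Over.w (tMap f (Ideal.Quotient.mkₐ R I))).trans (Over.w y').symm)
    let yl : tObj f B ⟶ H := Over.homMk l hl'
    obtain ⟨g', hg'⟩ := Md.pt_bijective.surjective (yl ≫ h)
    refine ⟨g', ⟨yl, hg'.symm⟩, Md.pt_bijective.injective ?_⟩
    have h3 : tMap f (Ideal.Quotient.mkₐ R I) ≫ yl = y' := Over.OverMorphism.ext hl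
    have h4 : tMap f φ ≫ yl = y := by
      have e3 : tMap f φ = tMap f e.toAlgHom ≫ tMap f (Ideal.Quotient.mkₐ R I) := by
        rw [tMap_comp]
        congr 1
      rw [e3, Category.assoc, h3]
      show tMap f e.toAlgHom ≫ tMap f e.symm.toAlgHom ≫ y = y
      rw [← Category.assoc, tMap_comp,
        show e.toAlgHom.comp e.symm.toAlgHom = AlgHom.id R C from AlgHom.ext fun x => e.apply_symm_apply x, tMap_id,
        Category.id_comp]
    rw [Md.pt_map, hg', ← Category.assoc, h4, hy]
  mem_nonneg {B} _ _ k h1 h2 := inSub_of_ann h Md k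
    (fun a ha => Subtype.ext (ha _ _ h2))
    fun K _ _ ψ => by
      classical
      by_cases ht : ψ (sVar R B) = 0
      · have e : ψ = (ψ.comp (cst0 R B)).comp (ev0 R B) := AlgHom.ext fun x => by
          rw [nonneg_apply_eq_sum ψ x, AlgHom.comp_apply, AlgHom.comp_apply, ev0_apply, ht,
            Finset.sum_eq_single 0]
          · simp
          · intro n hn hn0
            have : n.toNat ≠ 0 := fun h0 => by
              have h' : 0 ≤ n := not_lt.mp fun hlt => Finsupp.mem_support_iff.mp hn (x.2 n hlt)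
              omega
            rw [zero_pow this, mul_zero]
          · intro h0; simp [Finsupp.notMem_support_iff.mp h0]
        rw [e, ← mapPt_mapPt, h1, map_one]
        exact ⟨1, by rw [MonObj.one_comp, Md.pt_one]⟩
      · let χ : Multiplicative ℤ →* K := (Units.coeHom K).comp (zpowersHom Kˣ (Units.mk0 _ ht))
        let : Algebra B K := (ψ.comp (cst0 R B)).toRingHom.toAlgebra
        have : IsScalarTower R B K := .of_algebraMap_eq fun r => ((ψ.comp (cst0 R B)).commutes r).symm
        let L : B[ℤ] →ₐ[R] K := (AddMonoidAlgebra.lift B K ℤ χ).restrictScalars R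
        have e : ψ = L.comp (nonneg R B).val := AlgHom.ext fun x => by
          rw [nonneg_apply_eq_sum ψ x]
          show _ = AddMonoidAlgebra.lift B K ℤ χ (x : B[ℤ])
          rw [AddMonoidAlgebra.lift_apply', Finsupp.sum]
          refine Finset.sum_congr rfl fun n hn => ?_
          have h' : 0 ≤ n := not_lt.mp fun hlt => Finsupp.mem_support_iff.mp hn (x.2 n hlt)
          show _ = (ψ.comp (cst0 R B)) _ * χ (Multiplicative.ofAdd n)
          congr 1
          simp [χ, ← zpow_natCast, Int.toNat_of_nonneg h']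
        rw [e, ← mapPt_mapPt]
        exact InSub.map h Md L h2

end Groth.Agent.RedSub30
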